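/-
The field map of the Suzuki groups, the Tits ovoid, and the standard elements.
-/
import Mathlib
import Cfsg.Prelude.Def_LieExceptional
import Cfsg.Prelude.Def_Sz

namespace CfsgLib.Suzuki

open Cfsg Matrix

variable {F : Type*} [Field F]

/-- The field map `x ↦ x^(2^(m+1))`. -/
def th (m : ℕ) (x : F) : F := x ^ 2 ^ (m + 1)

/-- The third coordinate function of the ovoid. -/
def fp (m : ℕ) (x y : F) : F := x * y + th m x * x ^ 2 + th m y

theorem fp_def (m : ℕ) (x y : F) :
    fp m x y = x * y + x ^ (2 ^ (m + 1) + 2) + y ^ (2 ^ (m + 1)) := by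
  simp only [fp, th]; ring

variable {m : ℕ}

@[simp] theorem th_zero : th m (0 : F) = 0 := zero_pow (by positivity)
@[simp] theorem th_one : th m (1 : F) = 1 := one_pow _
theorem th_mul (x y : F) : th m (x * y) = th m x * th m y := mul_pow _ _ _
theorem th_inv (x : F) : th m x⁻¹ = (th m x)⁻¹ := inv_pow _ _
theorem th_div (x y : F) : th m (x / y) = th m x / th m y := div_pow _ _ _
theorem th_pow (x : F) (k : ℕ) : th m (x ^ k) = th m x ^ k := by rw [th, th, ← pow_mul, ← pow_mul, mul_comm]

theorem th_eq_zero_iff {x : F} : th m x = 0 ↔ x = 0 := by rw [th, pow_eq_zero_iff (by positivity)]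

section Finite

variable [Fintype F]

theorem charTwo (hF : Fintype.card F = 2 ^ (2 * m + 1)) : CharP F 2 := by
  obtain ⟨p, hp⟩ := CharP.exists F
  haveI : Fact p.Prime := ⟨CharP.char_is_prime F p⟩
  obtain ⟨n, -, hn⟩ := FiniteField.card F p
  rw [hn] at hF
  obtain ⟨rfl, -⟩ := Nat.Prime.pow_inj' (CharP.char_is_prime F p) Nat.prime_two n.ne_zero (by omega) hF
  exact hp

theorem th_add (hF : Fintype.card F = 2 ^ (2 * m + 1)) (x y : F) : th m (x + y) = th m x + th m y := by
  haveI := charTwo hF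
  exact add_pow_char_pow x y 2 (m + 1)

theorem th_th (hF : Fintype.card F = 2 ^ (2 * m + 1)) (x : F) : th m (th m x) = x ^ 2 := by
  unfold th
  rw [← pow_mul, ← pow_add, show m + 1 + (m + 1) = (2 * m + 1) + 1 by ring, pow_succ, pow_mul, ← hF,
    FiniteField.pow_card]

theorem th_injective (hF : Fintype.card F = 2 ^ (2 * m + 1)) : Function.Injective (th m : F → F) := by
  haveI := charTwo hF
  intro x y h
  have h2 : x ^ 2 = y ^ 2 := by rw [← th_th hF, ← th_th hF, h]
  exact CharTwo.sq_injective h2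

theorem th_bijective (hF : Fintype.card F = 2 ^ (2 * m + 1)) : Function.Bijective (th m : F → F) :=
  Finite.injective_iff_bijective.mp (th_injective hF)

theorem two_eq_zero (hF : Fintype.card F = 2 ^ (2 * m + 1)) : (2 : F) = 0 := by
  haveI := charTwo hF
  exact CharTwo.two_eq_zero

theorem neg_eq (hF : Fintype.card F = 2 ^ (2 * m + 1)) (x : F) : -x = x := by
  haveI := charTwo hF
  exact CharTwo.neg_eq x

theorem sub_eq (hF : Fintype.card F = 2 ^ (2 * m + 1)) (x y : F) : x - y = x + y := by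
  rw [sub_eq_add_neg, neg_eq hF]

theorem th_fp (hF : Fintype.card F = 2 ^ (2 * m + 1)) (x y : F) :
    th m (fp m x y) = th m x * th m y + x ^ 2 * th m x ^ 2 + y ^ 2 := by
  rw [fp, th_add hF, th_add hF, th_mul, th_mul, th_th hF, th_th hF, th_pow]

theorem fp_eq_zero_iff (hF : Fintype.card F = 2 ^ (2 * m + 1)) {x y : F} :
    fp m x y = 0 ↔ x = 0 ∧ y = 0 := by
  have h2 := two_eq_zero hF
  constructor
  · intro hz
    have hZ : th m x * th m y + x ^ 2 * th m x ^ 2 + y ^ 2 = 0 := by rw [← th_fp hF, hz, th_zero]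
    rw [fp] at hz
    have h : y * (th m x * x + y) = 0 := by
      linear_combination hZ - th m x * hz + (th m x * x * y) * h2
    rcases mul_eq_zero.mp h with hy | hy
    · subst hy
      simp only [mul_zero, th_zero, zero_add, add_zero, mul_eq_zero, th_eq_zero_iff, pow_eq_zero_iff two_ne_zero] at hz
      exact ⟨hz.elim id id, rfl⟩
    · have hy' : y = th m x * x := by linear_combination hy - (th m x * x) * h2
      have hB : th m y = 0 := by linear_combination hz - x * hy' - (th m x * x ^ 2) * h2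
      have hy0 := th_eq_zero_iff.mp hB
      rw [hy0] at hy'
      rcases mul_eq_zero.mp hy'.symm with h0 | h0
      · exact ⟨th_eq_zero_iff.mp h0, hy0⟩
      · exact ⟨h0, hy0⟩
  · rintro ⟨rfl, rfl⟩
    simp [fp]

/-- The inversion identity of the ovoid. -/
theorem fp_div (hF : Fintype.card F = 2 ^ (2 * m + 1)) {x y : F} (hz : fp m x y ≠ 0) :
    fp m (y / fp m x y) (x / fp m x y) = (fp m x y)⁻¹ := by
  have h2 := two_eq_zero hF
  have hZ := th_fp hF x y
  set z := fp m x y with hzdef
  have hz' : z = x * y + th m x * x ^ 2 + th m y := rfl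
  have hZ0 : th m z ≠ 0 := fun h => hz (th_eq_zero_iff.mp h)
  have key : x * y * th m z + th m y * y ^ 2 + th m x * z ^ 2 = z * th m z := by
    rw [hZ, hz']
    linear_combination (th m x ^ 2 * x ^ 3 * y + th m x * x * y * th m y) * h2
  calc fp m (y / z) (x / z)
      = (x * y * th m z + th m y * y ^ 2 + th m x * z ^ 2) / (th m z * z ^ 2) := by
        rw [fp, th_div, th_div]
        field_simp
    _ = z⁻¹ := by
        rw [key]
        field_simp

end Finite

/-- The unipotent matrix moving `(0,0)` to `(a,b)`. -/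
def mU (m : ℕ) (a b : F) : Matrix (Fin 4) (Fin 4) F :=
  !![1, a, b + th m a * a, fp m a b; 0, 1, th m a, b; 0, 0, 1, a; 0, 0, 0, 1]

theorem det_mU (a b : F) : (mU m a b).det = 1 := by
  simp [mU, Matrix.det_succ_row_zero, Fin.sum_univ_succ, Fin.succAbove]

/-- The unipotent elements. -/
def uEl (m : ℕ) (a b : F) : Matrix.SpecialLinearGroup (Fin 4) F := ⟨mU m a b, det_mU a b⟩

/-- The torus matrix. -/
def mD (m : ℕ) (t : F) : Matrix (Fin 4) (Fin 4) F :=
  Matrix.diagonal ![th m t * t, t, t⁻¹, (th m t * t)⁻¹]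

/-- The torus elements. -/
def dEl (m : ℕ) (t : Fˣ) : Matrix.SpecialLinearGroup (Fin 4) F :=
  ⟨mD m (t : F), by
    have h0 : (t : F) ≠ 0 := t.ne_zero
    have h1 : th m (t : F) ≠ 0 := fun h => h0 (th_eq_zero_iff.mp h)
    simp [mD, Matrix.det_diagonal, Fin.prod_univ_four]
    field_simp⟩

/-- The Weyl matrix. -/
def mW : Matrix (Fin 4) (Fin 4) F := !![0, 0, 0, 1; 0, 0, 1, 0; 0, 1, 0, 0; 1, 0, 0, 0]

theorem det_mW : (mW : Matrix (Fin 4) (Fin 4) F).det = 1 := by
  simp [mW, Matrix.det_succ_row_zero, Fin.sum_univ_succ, Fin.succAbove]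
  norm_num

/-- The Weyl element. -/
def wEl : Matrix.SpecialLinearGroup (Fin 4) F := ⟨mW, det_mW⟩

theorem wEl_mul_self : (wEl : Matrix.SpecialLinearGroup (Fin 4) F) * wEl = 1 := by
  apply Subtype.ext
  rw [Matrix.SpecialLinearGroup.coe_mul, Matrix.SpecialLinearGroup.coe_one]
  show mW * mW = 1
  ext i j
  fin_cases i <;> fin_cases j <;> simp [mW, Matrix.mul_apply, Fin.sum_univ_four]

theorem dEl_mul (t s : Fˣ) : (dEl m t : Matrix.SpecialLinearGroup (Fin 4) F) * dEl m s = dEl m (t * s) := by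
  apply Subtype.ext
  rw [Matrix.SpecialLinearGroup.coe_mul]
  show mD m (t : F) * mD m (s : F) = mD m ((t * s : Fˣ) : F)
  rw [mD, mD, mD, Matrix.diagonal_mul_diagonal]
  congr 1
  funext i
  fin_cases i <;> simp [th_mul] <;> ring

theorem dEl_one : (dEl m 1 : Matrix.SpecialLinearGroup (Fin 4) F) = 1 := by
  apply Subtype.ext
  show mD m ((1 : Fˣ) : F) = 1
  rw [mD, ← Matrix.diagonal_one]
  congr 1
  funext i
  fin_cases i <;> simp

/-- The torus as a homomorphism. -/
def dHom (m : ℕ) : Fˣ →* Matrix.SpecialLinearGroup (Fin 4) F where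
  toFun := dEl m
  map_one' := dEl_one
  map_mul' t s := (dEl_mul t s).symm

section Finite

variable [Fintype F]

theorem uEl_mul (hF : Fintype.card F = 2 ^ (2 * m + 1)) (a b c d : F) :
    (uEl m a b : Matrix.SpecialLinearGroup (Fin 4) F) * uEl m c d = uEl m (a + c) (b + d + th m a * c) := by
  have h2 := two_eq_zero hF
  have h3 : (3 : F) = 1 := by linear_combination h2
  apply Subtype.ext
  rw [Matrix.SpecialLinearGroup.coe_mul]
  show mU m a b * mU m c d = mU m (a + c) (b + d + th m a * c)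
  simp only [mU, fp, th_add hF, th_mul, th_th hF]
  ext i j
  fin_cases i <;> fin_cases j <;> simp [Matrix.mul_apply, Fin.sum_univ_four] <;>
    (try ring_nf) <;> (try simp [h2, h3, mul_zero, zero_mul])

theorem uEl_zero : (uEl m 0 0 : Matrix.SpecialLinearGroup (Fin 4) F) = 1 := by
  apply Subtype.ext
  show mU m 0 0 = 1
  ext i j
  fin_cases i <;> fin_cases j <;> simp [mU, fp]

theorem uEl_inv (hF : Fintype.card F = 2 ^ (2 * m + 1)) (a b : F) :
    (uEl m a b : Matrix.SpecialLinearGroup (Fin 4) F)⁻¹ = uEl m a (b + th m a * a) := by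
  have h2 := two_eq_zero hF
  rw [inv_eq_iff_mul_eq_one, uEl_mul hF, ← uEl_zero (m := m)]
  congr 1
  · linear_combination a * h2
  · linear_combination (b + th m a * a) * h2

theorem uEl_injective {a b c d : F} (h : (uEl m a b : Matrix.SpecialLinearGroup (Fin 4) F) = uEl m c d) :
    a = c ∧ b = d := by
  have h1 := congrFun (congrFun (congrArg Subtype.val h) 2) 3
  have h2 := congrFun (congrFun (congrArg Subtype.val h) 1) 3
  simp [uEl, mU] at h1 h2
  exact ⟨h1, h2⟩

theorem dEl_conj (hF : Fintype.card F = 2 ^ (2 * m + 1)) (t : Fˣ) (a b : F) :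
    (dEl m t : Matrix.SpecialLinearGroup (Fin 4) F) * uEl m a b * (dEl m t)⁻¹ =
      uEl m (th m (t : F) * a) (th m (t : F) * (t : F) ^ 2 * b) := by
  have h0 : (t : F) ≠ 0 := t.ne_zero
  have h1 : th m (t : F) ≠ 0 := fun h => h0 (th_eq_zero_iff.mp h)
  rw [mul_inv_eq_iff_eq_mul]
  apply Subtype.ext
  rw [Matrix.SpecialLinearGroup.coe_mul, Matrix.SpecialLinearGroup.coe_mul]
  show mD m (t : F) * mU m a b = mU m (th m (t : F) * a) (th m (t : F) * (t : F) ^ 2 * b) * mD m (t : F)
  simp only [mD, mU, fp, th_mul, th_pow, th_th hF]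
  ext i j
  rw [Matrix.diagonal_mul, Matrix.mul_diagonal]
  fin_cases i <;> fin_cases j <;> simp <;> field_simp

theorem dEl_injective : Function.Injective (dEl m : Fˣ → Matrix.SpecialLinearGroup (Fin 4) F) := by
  intro t s h
  have h1 := congrFun (congrFun (congrArg Subtype.val h) 1) 1
  simp [dEl, mD] at h1
  exact Units.ext h1

theorem wEl_conj_dEl (t : Fˣ) :
    (wEl : Matrix.SpecialLinearGroup (Fin 4) F) * dEl m t * wEl = dEl m t⁻¹ := by
  apply Subtype.ext
  rw [Matrix.SpecialLinearGroup.coe_mul, Matrix.SpecialLinearGroup.coe_mul]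
  show mW * mD m (t : F) * mW = mD m ((t⁻¹ : Fˣ) : F)
  rw [Units.val_inv_eq_inv_val]
  ext i j
  fin_cases i <;> fin_cases j <;>
    simp [mW, mD, Matrix.mul_apply, Fin.sum_univ_four, th_inv, mul_comm, Matrix.vecMul_diagonal]

end Finite

end CfsgLib.Suzuki
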