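/-
The Suzuki group as the stabiliser of the ovoid: elements, point stabilisers, normal form, order.
-/
import Mathlib
import Cfsg.Prelude.Def_LieExceptional
import Cfsg.Agent.Lib.Suzuki.Basic

namespace CfsgLib.Suzuki

open Cfsg Matrix
open scoped Pointwise

local notation "SL4[" F "]" => Matrix.SpecialLinearGroup (Fin 4) F

variable {F : Type*} [Field F] {m : ℕ}

/-- The point with coordinates `(x, y)` of the ovoid. -/
def pt (m : ℕ) (x y : F) : Projectivization F (Fin 4 → F) :=
  Projectivization.mk F ![fp m x y, y, x, 1] (by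
    intro h; have h3 := congrFun h 3; simp at h3)

theorem smul_mk_eq (g : SL4[F]) (v w : Fin 4 → F) (hv : v ≠ 0) (hw : w ≠ 0) (c : F)
    (h : (g : Matrix (Fin 4) (Fin 4) F) *ᵥ v = c • w) :
    g • Projectivization.mk F v hv = Projectivization.mk F w hw := by
  have hgv : (g : Matrix (Fin 4) (Fin 4) F) *ᵥ v ≠ 0 := by
    intro h0
    apply hv
    have h1 : (g⁻¹ * g : SL4[F]).1 *ᵥ v = 0 := by
      rw [Matrix.SpecialLinearGroup.coe_mul, ← Matrix.mulVec_mulVec, h0, Matrix.mulVec_zero]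
    simpa using h1
  show Projectivization.mk F ((g : Matrix (Fin 4) (Fin 4) F) *ᵥ v) hgv = _
  exact (Projectivization.mk_eq_mk_iff' F _ _ _ _).mpr ⟨c, h.symm⟩

theorem exists_smul_of_smul_mk_eq {g : SL4[F]} {v w : Fin 4 → F} {hv : v ≠ 0} {hw : w ≠ 0}
    (h : g • Projectivization.mk F v hv = Projectivization.mk F w hw) :
    ∃ c : F, c ≠ 0 ∧ (g : Matrix (Fin 4) (Fin 4) F) *ᵥ v = c • w := by
  obtain ⟨c, hc⟩ := (Projectivization.mk_eq_mk_iff' F ((g : Matrix (Fin 4) (Fin 4) F) *ᵥ v) w _ hw).mp h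
  refine ⟨c, ?_, hc.symm⟩
  rintro rfl
  rw [zero_smul] at hc
  apply hv
  have h1 : (g⁻¹ * g : SL4[F]).1 *ᵥ v = 0 := by
    rw [Matrix.SpecialLinearGroup.coe_mul, ← Matrix.mulVec_mulVec, ← hc, Matrix.mulVec_zero]
  simpa using h1

theorem pt_zero : pt m (0 : F) 0 = suzukiPointZero F := by
  simp only [pt, suzukiPointZero, fp, th_zero, zero_mul, add_zero]

theorem inf_mem : suzukiPointInfinity F ∈ suzukiOvoid F m :=
  ⟨![1, 0, 0, 0], by simp, rfl, Or.inl rfl⟩

theorem pt_mem (x y : F) : pt m x y ∈ suzukiOvoid F m :=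
  ⟨![fp m x y, y, x, 1], by intro h; have h3 := congrFun h 3; simp at h3, rfl,
    Or.inr ⟨x, y, by rw [fp_def]⟩⟩

theorem mem_ovoid_iff {p : Projectivization F (Fin 4 → F)} :
    p ∈ suzukiOvoid F m ↔ p = suzukiPointInfinity F ∨ ∃ x y, p = pt m x y := by
  constructor
  · rintro ⟨v, hv, rfl, rfl | ⟨x, y, rfl⟩⟩
    · exact Or.inl rfl
    · refine Or.inr ⟨x, y, ?_⟩
      simp only [pt, fp_def]
  · rintro (rfl | ⟨x, y, rfl⟩)
    · exact inf_mem
    · exact pt_mem x y

theorem pt_injective {x y x' y' : F} (h : pt m x y = pt m x' y') : x = x' ∧ y = y' := by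
  obtain ⟨c, hc⟩ := (Projectivization.mk_eq_mk_iff' F _ _ _ _).mp h
  have h3 := congrFun hc 3
  simp at h3
  subst h3
  have h2 := congrFun hc 2
  have h1 := congrFun hc 1
  simp at h2 h1
  exact ⟨h2.symm, h1.symm⟩

theorem pt_ne_inf (x y : F) : pt m x y ≠ suzukiPointInfinity F := by
  intro h
  obtain ⟨c, hc⟩ := (Projectivization.mk_eq_mk_iff' F _ _ _ _).mp h
  have h3 := congrFun hc 3
  simp at h3

/-- Parametrisation of the ovoid. -/
noncomputable def ovoidEquiv (m : ℕ) : Option (F × F) ≃ suzukiOvoid F m :=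
  Equiv.ofBijective
    (fun o => o.elim ⟨suzukiPointInfinity F, inf_mem⟩ fun p => ⟨pt m p.1 p.2, pt_mem _ _⟩)
    ⟨by
      rintro (_ | ⟨x, y⟩) (_ | ⟨x', y'⟩) h
      · rfl
      · exact absurd (congrArg Subtype.val h).symm (pt_ne_inf x' y')
      · exact absurd (congrArg Subtype.val h) (pt_ne_inf x y)
      · obtain ⟨rfl, rfl⟩ := pt_injective (congrArg Subtype.val h)
        rfl, by
      rintro ⟨p, hp⟩
      rcases mem_ovoid_iff.mp hp with rfl | ⟨x, y, rfl⟩
      · exact ⟨none, rfl⟩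
      · exact ⟨some (x, y), rfl⟩⟩

theorem card_ovoid [Fintype F] : Nat.card (suzukiOvoid F m) = Fintype.card F ^ 2 + 1 := by
  rw [← Nat.card_congr (ovoidEquiv (F := F) m), Finite.card_option, Nat.card_prod,
    Nat.card_eq_fintype_card, sq]

/-! ### Action of the standard elements -/

theorem uEl_smul_inf (a b : F) :
    (uEl m a b : SL4[F]) • suzukiPointInfinity F = suzukiPointInfinity F := by
  refine smul_mk_eq _ _ _ _ _ 1 ?_
  show mU m a b *ᵥ _ = _
  ext i
  fin_cases i <;> simp [mU, Matrix.mulVec, dotProduct, Fin.sum_univ_four]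

theorem dEl_smul_inf (t : Fˣ) :
    (dEl m t : SL4[F]) • suzukiPointInfinity F = suzukiPointInfinity F := by
  refine smul_mk_eq _ _ _ _ _ (th m (t : F) * t) ?_
  show mD m (t : F) *ᵥ _ = _
  ext i
  fin_cases i <;> simp [mD, Matrix.mulVec_diagonal]

theorem wEl_smul_inf : (wEl : SL4[F]) • suzukiPointInfinity F = suzukiPointZero F := by
  refine smul_mk_eq _ _ _ _ _ 1 ?_
  show mW *ᵥ _ = _
  ext i
  fin_cases i <;> simp [mW, Matrix.mulVec, dotProduct, Fin.sum_univ_four]

theorem wEl_smul_zero : (wEl : SL4[F]) • suzukiPointZero F = suzukiPointInfinity F := by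
  rw [← wEl_smul_inf, ← mul_smul, wEl_mul_self, one_smul]

section Finite

variable [Fintype F] (hF : Fintype.card F = 2 ^ (2 * m + 1))
include hF

theorem uEl_smul_pt (a b x y : F) :
    (uEl m a b : SL4[F]) • pt m x y = pt m (x + a) (y + th m a * x + b) := by
  have h2 := two_eq_zero hF
  refine smul_mk_eq _ _ _ _ _ 1 ?_
  show mU m a b *ᵥ _ = _
  simp only [mU, fp, th_add hF, th_mul, th_th hF]
  ext i
  fin_cases i <;> simp [Matrix.mulVec, dotProduct, Fin.sum_univ_four]
  linear_combination (-(th m a * x ^ 2) - th m x * x * a - th m a * x * a - th m x * a ^ 2) * h2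

theorem dEl_smul_pt (t : Fˣ) (x y : F) :
    (dEl m t : SL4[F]) • pt m x y = pt m (th m (t : F) * x) (th m (t : F) * (t : F) ^ 2 * y) := by
  have h0 : (t : F) ≠ 0 := t.ne_zero
  have h1 : th m (t : F) ≠ 0 := fun h => h0 (th_eq_zero_iff.mp h)
  refine smul_mk_eq _ _ _ _ _ ((th m (t : F) * t)⁻¹) ?_
  show mD m (t : F) *ᵥ _ = _
  simp only [mD, fp, th_mul, th_pow, th_th hF]
  ext i
  fin_cases i <;> simp [Matrix.mulVec_diagonal] <;> field_simp

theorem wEl_smul_pt {x y : F} (h : x ≠ 0 ∨ y ≠ 0) :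
    (wEl : SL4[F]) • pt m x y = pt m (y / fp m x y) (x / fp m x y) := by
  have hz : fp m x y ≠ 0 := fun h0 => by
    obtain ⟨rfl, rfl⟩ := (fp_eq_zero_iff hF).mp h0
    simp at h
  refine smul_mk_eq _ _ _ _ _ (fp m x y) ?_
  show mW *ᵥ _ = _
  rw [fp_div hF hz]
  ext i
  fin_cases i <;> simp [mW, Matrix.mulVec, dotProduct, Fin.sum_univ_four] <;> field_simp

omit hF in
theorem mem_of_forall {g : SL4[F]} (h : ∀ p ∈ suzukiOvoid F m, g • p ∈ suzukiOvoid F m) :
    g ∈ Cfsg.Sz F m := by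
  rw [Cfsg.Sz, MulAction.mem_stabilizer_set_iff_smul_set_subset (Set.toFinite _)]
  rintro p ⟨q, hq, rfl⟩
  exact h q hq

theorem uEl_mem (a b : F) : (uEl m a b : SL4[F]) ∈ Cfsg.Sz F m := by
  refine mem_of_forall fun p hp => ?_
  rcases mem_ovoid_iff.mp hp with rfl | ⟨x, y, rfl⟩
  · rw [uEl_smul_inf]; exact inf_mem
  · rw [uEl_smul_pt hF]; exact pt_mem _ _

theorem dEl_mem (t : Fˣ) : (dEl m t : SL4[F]) ∈ Cfsg.Sz F m := by
  refine mem_of_forall fun p hp => ?_
  rcases mem_ovoid_iff.mp hp with rfl | ⟨x, y, rfl⟩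
  · rw [dEl_smul_inf]; exact inf_mem
  · rw [dEl_smul_pt hF]; exact pt_mem _ _

theorem wEl_mem : (wEl : SL4[F]) ∈ Cfsg.Sz F m := by
  refine mem_of_forall fun p hp => ?_
  rcases mem_ovoid_iff.mp hp with rfl | ⟨x, y, rfl⟩
  · rw [wEl_smul_inf, ← pt_zero (m := m)]; exact pt_mem _ _
  · by_cases h : x = 0 ∧ y = 0
    · rw [h.1, h.2, pt_zero, wEl_smul_zero]; exact inf_mem
    · rw [wEl_smul_pt hF (not_and_or.mp h)]; exact pt_mem _ _

omit hF in
theorem smul_mem_ovoid {g : SL4[F]} (hg : g ∈ Cfsg.Sz F m) {p : Projectivization F (Fin 4 → F)}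
    (hp : p ∈ suzukiOvoid F m) : g • p ∈ suzukiOvoid F m :=
  (MulAction.mem_stabilizer_set.mp hg p).mpr hp

theorem poly_vanish (hm : 1 ≤ m) {A B C : F}
    (h : ∀ y : F, A * y ^ 2 + B * y ^ (2 ^ (m + 1)) + C * y ^ (2 ^ (m + 1) + 2) = 0) :
    A = 0 ∧ B = 0 ∧ C = 0 := by
  set s := 2 ^ (m + 1) with hs
  have hs4 : 4 ≤ s := by
    calc 4 = 2 ^ 2 := by norm_num
      _ ≤ s := Nat.pow_le_pow_right (by norm_num) (by omega)
  have hlt : s + 2 < Fintype.card F := by
    rw [hF]
    have h8 : 2 ^ (2 * m + 1) = s * 2 ^ m := by rw [hs, ← pow_add]; congr 1; omega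
    have h2m : 2 ≤ 2 ^ m := by
      calc 2 = 2 ^ 1 := by norm_num
        _ ≤ 2 ^ m := Nat.pow_le_pow_right (by norm_num) hm
    rw [h8]; nlinarith
  let P : Polynomial F :=
    Polynomial.C A * Polynomial.X ^ 2 + Polynomial.C B * Polynomial.X ^ s +
      Polynomial.C C * Polynomial.X ^ (s + 2)
  have hdeg : P.natDegree ≤ s + 2 := by
    refine (Polynomial.natDegree_add_le _ _).trans (max_le ((Polynomial.natDegree_add_le _ _).trans
      (max_le ?_ ?_)) (Polynomial.natDegree_C_mul_X_pow_le _ _))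
    · exact (Polynomial.natDegree_C_mul_X_pow_le _ _).trans (by omega)
    · exact (Polynomial.natDegree_C_mul_X_pow_le _ _).trans (by omega)
  have hP : P = 0 := Polynomial.eq_zero_of_natDegree_lt_card_of_eval_eq_zero P
    Function.injective_id (fun y => by simpa [P] using h y) (lt_of_le_of_lt hdeg hlt)
  refine ⟨?_, ?_, ?_⟩
  · have := congrArg (fun Q => Polynomial.coeff Q 2) hP
    simpa [P, Polynomial.coeff_add, Polynomial.coeff_C_mul_X_pow, show 2 ≠ s by omega,
      show 2 ≠ s + 2 by omega, show s ≠ 0 by omega] using this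
  · have := congrArg (fun Q => Polynomial.coeff Q s) hP
    simpa [P, Polynomial.coeff_add, Polynomial.coeff_C_mul_X_pow, show s ≠ 2 by omega,
      show s ≠ s + 2 by omega] using this
  · have := congrArg (fun Q => Polynomial.coeff Q (s + 2)) hP
    simpa [P, Polynomial.coeff_add, Polynomial.coeff_C_mul_X_pow, show s + 2 ≠ 2 by omega,
      show s + 2 ≠ s by omega, show s ≠ 0 by omega, Polynomial.coeff_C] using this

/-- An element fixing `(1,0,0,0)` and mapping `(0,0,0,1)` to itself has a vanishing last row. -/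
theorem last_row {g : SL4[F]} (hg : g ∈ Cfsg.Sz F m)
    (hi : g • suzukiPointInfinity F = suzukiPointInfinity F)
    (h0 : g • suzukiPointZero F = suzukiPointZero F) :
    g.1 1 0 = 0 ∧ g.1 2 0 = 0 ∧ g.1 3 0 = 0 ∧ g.1 3 1 = 0 ∧ g.1 3 2 = 0 := by
  obtain ⟨A, hA, hcol0⟩ := exists_smul_of_smul_mk_eq hi
  obtain ⟨D, hD, hcol3⟩ := exists_smul_of_smul_mk_eq h0
  have e1 := congrFun hcol0 1
  have e2 := congrFun hcol0 2
  have e3 := congrFun hcol0 3
  have f3 := congrFun hcol3 3
  simp [Matrix.mulVec, dotProduct, Fin.sum_univ_four] at e1 e2 e3 f3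
  have key : ∀ x y : F, g.1 3 1 * y + g.1 3 2 * x + D ≠ 0 := by
    intro x y hxy
    rcases mem_ovoid_iff.mp (smul_mem_ovoid hg (pt_mem (m := m) x y)) with h | ⟨x', y', h⟩
    · rw [← hi] at h
      exact pt_ne_inf x y (MulAction.injective g h)
    · obtain ⟨c, hc, hcv⟩ := exists_smul_of_smul_mk_eq h
      have := congrFun hcv 3
      simp [Matrix.mulVec, dotProduct, Fin.sum_univ_four, e3, f3] at this
      exact hc (by rw [← this]; exact hxy)
  refine ⟨e1, e2, e3, ?_, ?_⟩
  · by_contra h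
    exact key 0 (-D / g.1 3 1) (by field_simp; ring)
  · by_contra h
    exact key (-D / g.1 3 2) 0 (by field_simp; ring)

/-- The two-point stabiliser consists of torus elements. -/
theorem exists_dEl (hm : 1 ≤ m) {g : SL4[F]} (hg : g ∈ Cfsg.Sz F m)
    (hi : g • suzukiPointInfinity F = suzukiPointInfinity F)
    (h0 : g • suzukiPointZero F = suzukiPointZero F) : ∃ t : Fˣ, g = dEl m t := by
  haveI := charTwo hF
  have h2 := two_eq_zero hF
  obtain ⟨g10, g20, g30, g31, g32⟩ := last_row hF hg hi h0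
  have hg' : (wEl * g * wEl : SL4[F]) ∈ Cfsg.Sz F m :=
    mul_mem (mul_mem (wEl_mem hF) hg) (wEl_mem hF)
  have hi' : (wEl * g * wEl : SL4[F]) • suzukiPointInfinity F = suzukiPointInfinity F := by
    rw [mul_smul, mul_smul, wEl_smul_inf, h0, wEl_smul_zero]
  have h0' : (wEl * g * wEl : SL4[F]) • suzukiPointZero F = suzukiPointZero F := by
    rw [mul_smul, mul_smul, wEl_smul_zero, hi, wEl_smul_inf]
  have hconj : ∀ i j, (wEl * g * wEl : SL4[F]).1 i j = g.1 (Fin.rev i) (Fin.rev j) := by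
    intro i j
    rw [Matrix.SpecialLinearGroup.coe_mul, Matrix.SpecialLinearGroup.coe_mul]
    show ((mW : Matrix (Fin 4) (Fin 4) F) * g.1 * (mW : Matrix (Fin 4) (Fin 4) F)) i j = _
    fin_cases i <;> fin_cases j <;> simp [mW, Matrix.mul_apply, Fin.sum_univ_four, Fin.rev, Matrix.vecMul, dotProduct]
  obtain ⟨r1, r2, r3, r4, r5⟩ := last_row hF hg' hi' h0'
  rw [hconj] at r1 r2 r3 r4 r5
  simp [Fin.rev] at r1 r2 r3 r4 r5
  -- the block form
  have hD : g.1 3 3 ≠ 0 := by
    intro h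
    have := g.2
    rw [Matrix.det_succ_row _ 3] at this
    simp [Fin.sum_univ_four, g30, g31, g32, h] at this
  set D := g.1 3 3 with hDdef
  have step : ∀ x y : F, ∃ x' y' : F,
      g.1 1 1 * y + g.1 1 2 * x = D * y' ∧ g.1 2 1 * y + g.1 2 2 * x = D * x' ∧
        g.1 0 0 * fp m x y = D * fp m x' y' := by
    intro x y
    rcases mem_ovoid_iff.mp (smul_mem_ovoid hg (pt_mem (m := m) x y)) with h | ⟨x', y', h⟩
    · rw [← hi] at h
      exact absurd (MulAction.injective g h) (pt_ne_inf x y)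
    · obtain ⟨c, hc, hcv⟩ := exists_smul_of_smul_mk_eq h
      have f0 := congrFun hcv 0
      have f1 := congrFun hcv 1
      have f2 := congrFun hcv 2
      have f3 := congrFun hcv 3
      simp [Matrix.mulVec, dotProduct, Fin.sum_univ_four, g10, g20, g30, g31, g32, r1, r2, r3, r4,
        r5] at f0 f1 f2 f3
      rw [← f3] at f0 f1 f2
      exact ⟨x', y', f1, f2, f0⟩
  set a := g.1 1 1 / D with ha
  set b := g.1 1 2 / D with hb
  set c := g.1 2 1 / D with hc
  set d := g.1 2 2 / D with hd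
  set l := g.1 0 0 / D with hl
  have main : ∀ x y : F, fp m (c * y + d * x) (a * y + b * x) = l * fp m x y := by
    intro x y
    obtain ⟨x', y', e1, e2, e3⟩ := step x y
    have hy' : a * y + b * x = y' := by rw [ha, hb]; field_simp; linear_combination e1
    have hx' : c * y + d * x = x' := by rw [hc, hd]; field_simp; linear_combination e2
    rw [hx', hy', hl]; field_simp; linear_combination -e3
  obtain ⟨k1, k2, k3⟩ := poly_vanish hF hm (A := c * a) (B := th m a - l) (C := th m c * c ^ 2) (by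
    intro y
    have := main 0 y
    simp only [fp, mul_zero, add_zero, th_mul, th_zero, zero_mul, zero_pow two_ne_zero] at this
    simp only [th] at this ⊢
    rw [pow_add]
    linear_combination this)
  have hc0 : c = 0 := by
    rcases mul_eq_zero.mp k3 with h | h
    · exact th_eq_zero_iff.mp h
    · exact pow_eq_zero_iff two_ne_zero |>.mp h
  obtain ⟨k4, k5, k6⟩ := poly_vanish hF hm (A := d * b) (B := th m b) (C := th m d * d ^ 2 - l) (by
    intro x
    have := main x 0
    simp only [fp, mul_zero, add_zero, zero_add, th_mul, th_zero, zero_mul] at this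
    simp only [th] at this ⊢
    rw [pow_add]
    linear_combination this)
  have hb0 : b = 0 := th_eq_zero_iff.mp k5
  have hla : th m a = l := sub_eq_zero.mp k2
  have hld : th m d * d ^ 2 = l := sub_eq_zero.mp k6
  have had : a * d = l := by
    have := main 1 1
    simp only [fp, hb0, hc0, zero_mul, zero_add, mul_one, add_zero, th_one, one_pow] at this
    linear_combination this - hla - hld
  have hdet := g.2
  have hl0 : l ≠ 0 := by
    intro h
    have h00 : g.1 0 0 = 0 := by rw [hl, div_eq_zero_iff] at h; exact h.resolve_right hD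
    rw [Matrix.det_succ_column _ 0] at hdet
    simp [Fin.sum_univ_four, g10, g20, g30, h00] at hdet
  have hd0 : d ≠ 0 := by
    intro h; exact hl0 (by rw [← had, h, mul_zero])
  have haeq : a = th m d * d := by
    apply mul_right_cancel₀ hd0
    rw [had, ← hld]; ring
  obtain ⟨t, ht⟩ := (th_bijective hF).2 d
  have ht0 : t ≠ 0 := by rintro rfl; exact hd0 (by rw [← ht, th_zero])
  have ht1 : th m t ≠ 0 := fun h => ht0 (th_eq_zero_iff.mp h)
  refine ⟨Units.mk0 t ht0, ?_⟩
  -- g is a scalar multiple of the torus element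
  set k := D * (th m t * t) with hk
  have hgk : g.1 = k • mD m t := by
    have e11 : g.1 1 1 = D * (th m d * d) := by rw [← haeq, ha]; field_simp
    have e12 : g.1 1 2 = 0 := by
      have : b * D = 0 := by rw [hb0, zero_mul]
      rw [hb, div_mul_cancel₀ _ hD] at this; exact this
    have e21 : g.1 2 1 = 0 := by
      have : c * D = 0 := by rw [hc0, zero_mul]
      rw [hc, div_mul_cancel₀ _ hD] at this; exact this
    have e22 : g.1 2 2 = D * d := by rw [hd]; field_simp
    have e00 : g.1 0 0 = D * (th m d * d ^ 2) := by rw [hld, hl]; field_simp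
    rw [← ht, th_th hF] at e11 e00
    rw [← ht] at e22
    ext i j
    fin_cases i <;> fin_cases j <;>
      simp [mD, hk, g10, g20, g30, g31, g32, r1, r2, r3, r4, r5, e11, e12, e21, e22, e00] <;>
      field_simp
    exact hDdef.symm
  have hk4 : k ^ 4 = 1 := by
    have hd1 : (mD m t).det = 1 := (dEl m (Units.mk0 t ht0)).2
    have := g.2
    rw [hgk, Matrix.det_smul, hd1, mul_one] at this
    simpa using this
  have hk1 : k = 1 := by
    have h : (k ^ 2) ^ 2 = (1 : F) ^ 2 := by rw [← pow_mul, one_pow]; exact hk4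
    have h' : k ^ 2 = (1 : F) ^ 2 := by rw [one_pow]; exact CharTwo.sq_injective h
    exact CharTwo.sq_injective h'
  apply Subtype.ext
  rw [hgk, hk1, one_smul]
  rfl

/-- Normal form in the stabiliser of infinity. -/
theorem exists_uEl_dEl (hm : 1 ≤ m) {g : SL4[F]} (hg : g ∈ Cfsg.Sz F m)
    (hi : g • suzukiPointInfinity F = suzukiPointInfinity F) :
    ∃ (a b : F) (t : Fˣ), g = uEl m a b * dEl m t := by
  rcases mem_ovoid_iff.mp (smul_mem_ovoid hg (pt_mem (m := m) 0 0)) with h | ⟨a, b, h⟩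
  · rw [← hi] at h
    exact absurd (MulAction.injective g h) (pt_ne_inf _ _)
  · have h1 : ((uEl m a b)⁻¹ * g : SL4[F]) • suzukiPointInfinity F = suzukiPointInfinity F := by
      rw [mul_smul, hi, inv_smul_eq_iff, uEl_smul_inf]
    have h2' : ((uEl m a b)⁻¹ * g : SL4[F]) • suzukiPointZero F = suzukiPointZero F := by
      rw [mul_smul, inv_smul_eq_iff, ← pt_zero (m := m), h, uEl_smul_pt hF, zero_add, mul_zero,
        zero_add, zero_add]
    obtain ⟨t, ht⟩ := exists_dEl hF hm (mul_mem (inv_mem (uEl_mem hF a b)) hg) h1 h2'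
    exact ⟨a, b, t, by rw [← ht, mul_inv_cancel_left]⟩

/-- Normal form outside the stabiliser of infinity. -/
theorem exists_bruhat (hm : 1 ≤ m) {g : SL4[F]} (hg : g ∈ Cfsg.Sz F m)
    (hi : g • suzukiPointInfinity F ≠ suzukiPointInfinity F) :
    ∃ (a b c d : F) (t : Fˣ), g = uEl m a b * wEl * (uEl m c d * dEl m t) := by
  rcases mem_ovoid_iff.mp (smul_mem_ovoid hg (inf_mem (m := m))) with h | ⟨a, b, h⟩
  · exact absurd h hi
  · have h1 : (wEl * (uEl m a b)⁻¹ * g : SL4[F]) • suzukiPointInfinity F = suzukiPointInfinity F := by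
      rw [mul_smul, mul_smul, h]
      have : (uEl m a b : SL4[F])⁻¹ • pt m a b = suzukiPointZero F := by
        rw [inv_smul_eq_iff, ← pt_zero (m := m), uEl_smul_pt hF, zero_add, mul_zero, zero_add,
          zero_add]
      rw [this, wEl_smul_zero]
    obtain ⟨c, d, t, ht⟩ := exists_uEl_dEl hF hm
      (mul_mem (mul_mem (wEl_mem hF) (inv_mem (uEl_mem hF a b))) hg) h1
    refine ⟨a, b, c, d, t, ?_⟩
    rw [← ht]
    simp only [← mul_assoc]
    rw [mul_assoc (uEl m a b) wEl wEl, wEl_mul_self, mul_one, mul_inv_cancel, one_mul]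

end Finite

end CfsgLib.Suzuki
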