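/-
Order, double transitivity, simplicity and Sylow 2-subgroups of the Suzuki group.
-/
import Mathlib
import Cfsg.Prelude.Def_LieExceptional
import Cfsg.Agent.Lib.Suzuki.Group

namespace CfsgLib.Suzuki

open Cfsg Matrix
open scoped Pointwise

local notation "SL4[" F "]" => Matrix.SpecialLinearGroup (Fin 4) F

variable {F : Type*} [Field F] [Fintype F] {m : ℕ} (hF : Fintype.card F = 2 ^ (2 * m + 1))
include hF

/-- Unipotent element of the Suzuki group. -/
def uS (a b : F) : ↥(Cfsg.Sz F m) := ⟨uEl m a b, uEl_mem hF a b⟩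

/-- Torus element of the Suzuki group. -/
def dS (t : Fˣ) : ↥(Cfsg.Sz F m) := ⟨dEl m t, dEl_mem hF t⟩

/-- Weyl element of the Suzuki group. -/
def wS : ↥(Cfsg.Sz F m) := ⟨wEl, wEl_mem hF⟩

theorem uS_mul (a b c d : F) : uS hF a b * uS hF c d = uS hF (a + c) (b + d + th m a * c) :=
  Subtype.ext (uEl_mul hF a b c d)

theorem uS_zero : uS hF (0 : F) 0 = 1 := Subtype.ext uEl_zero

theorem uS_inv (a b : F) : (uS hF a b)⁻¹ = uS hF a (b + th m a * a) := Subtype.ext (uEl_inv hF a b)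

theorem uS_inj {a b c d : F} (h : uS hF a b = uS hF c d) : a = c ∧ b = d :=
  uEl_injective (congrArg Subtype.val h)

theorem dS_mul (t s : Fˣ) : dS hF t * dS hF s = dS hF (t * s) := Subtype.ext (dEl_mul t s)

theorem dS_one : dS hF (1 : Fˣ) = 1 := Subtype.ext dEl_one

theorem dS_inv (t : Fˣ) : (dS hF t)⁻¹ = dS hF t⁻¹ := by
  rw [inv_eq_iff_mul_eq_one, dS_mul, mul_inv_cancel, dS_one]

theorem dS_inj {t s : Fˣ} (h : dS hF t = dS hF s) : t = s :=
  dEl_injective (congrArg Subtype.val h)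

theorem dS_uS (t : Fˣ) (a b : F) :
    dS hF t * uS hF a b * (dS hF t)⁻¹ =
      uS hF (th m (t : F) * a) (th m (t : F) * (t : F) ^ 2 * b) :=
  Subtype.ext (dEl_conj hF t a b)

theorem dS_mul_uS (t : Fˣ) (a b : F) :
    dS hF t * uS hF a b = uS hF (th m (t : F) * a) (th m (t : F) * (t : F) ^ 2 * b) * dS hF t := by
  rw [← dS_uS, inv_mul_cancel_right]

theorem wS_mul_self : wS hF * wS hF = 1 := Subtype.ext wEl_mul_self

theorem wS_inv : (wS hF)⁻¹ = wS hF := inv_eq_of_mul_eq_one_right (wS_mul_self hF)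

theorem wS_dS (t : Fˣ) : wS hF * dS hF t * wS hF = dS hF t⁻¹ := Subtype.ext (wEl_conj_dEl t)

theorem smul_uS_inf (a b : F) : uS hF a b • suzukiPointInfinity F = suzukiPointInfinity F :=
  uEl_smul_inf a b

theorem smul_dS_inf (t : Fˣ) : dS hF t • suzukiPointInfinity F = suzukiPointInfinity F :=
  dEl_smul_inf t

theorem smul_uS_zero (a b : F) : uS hF a b • suzukiPointZero F = pt m a b := by
  rw [← pt_zero (m := m)]
  show (uEl m a b : SL4[F]) • pt m (0 : F) 0 = _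
  rw [uEl_smul_pt hF, zero_add, mul_zero, zero_add, zero_add]

theorem smul_dS_zero (t : Fˣ) : dS hF t • suzukiPointZero F = suzukiPointZero F := by
  rw [← pt_zero (m := m)]
  show (dEl m t : SL4[F]) • pt m (0 : F) 0 = _
  rw [dEl_smul_pt hF, mul_zero, mul_zero]

theorem smul_wS_inf : wS hF • suzukiPointInfinity F = suzukiPointZero F := wEl_smul_inf

theorem smul_wS_zero : wS hF • suzukiPointZero F = suzukiPointInfinity F := wEl_smul_zero

/-! ### Stabiliser of infinity and the order -/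

theorem mem_stabInf_iff (hm : 1 ≤ m) {g : ↥(Cfsg.Sz F m)} :
    g • suzukiPointInfinity F = suzukiPointInfinity F ↔
      ∃ (a b : F) (t : Fˣ), g = uS hF a b * dS hF t := by
  constructor
  · intro h
    obtain ⟨a, b, t, ht⟩ := exists_uEl_dEl hF hm g.2 h
    exact ⟨a, b, t, Subtype.ext ht⟩
  · rintro ⟨a, b, t, rfl⟩
    rw [mul_smul, smul_dS_inf, smul_uS_inf]

theorem form_injective {a b c d : F} {t s : Fˣ}
    (h : uS hF a b * dS hF t = uS hF c d * dS hF s) : a = c ∧ b = d ∧ t = s := by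
  have h1 := congrArg (fun g : ↥(Cfsg.Sz F m) => g • suzukiPointZero F) h
  simp only [mul_smul, smul_dS_zero, smul_uS_zero] at h1
  obtain ⟨rfl, rfl⟩ := pt_injective h1
  exact ⟨rfl, rfl, dS_inj hF (mul_left_cancel h)⟩

theorem two_point (hm : 1 ≤ m) {g : ↥(Cfsg.Sz F m)}
    (hi : g • suzukiPointInfinity F = suzukiPointInfinity F)
    (h0 : g • suzukiPointZero F = suzukiPointZero F) : ∃ t : Fˣ, g = dS hF t := by
  obtain ⟨t, ht⟩ := exists_dEl hF hm g.2 hi h0
  exact ⟨t, Subtype.ext ht⟩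

theorem card_stabInf (hm : 1 ≤ m) :
    Nat.card (MulAction.stabilizer (Cfsg.Sz F m) (suzukiPointInfinity F)) =
      (2 ^ (2 * m + 1)) ^ 2 * (2 ^ (2 * m + 1) - 1) := by
  let f : (F × F) × Fˣ → MulAction.stabilizer (Cfsg.Sz F m) (suzukiPointInfinity F) := fun p =>
    ⟨uS hF p.1.1 p.1.2 * dS hF p.2,
      MulAction.mem_stabilizer_iff.mpr ((mem_stabInf_iff hF hm).mpr ⟨_, _, _, rfl⟩)⟩
  have hf : Function.Bijective f := by
    constructor
    · rintro ⟨⟨a, b⟩, t⟩ ⟨⟨c, d⟩, s⟩ h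
      obtain ⟨rfl, rfl, rfl⟩ := form_injective hF (congrArg Subtype.val h)
      rfl
    · rintro ⟨g, hg⟩
      obtain ⟨a, b, t, rfl⟩ := (mem_stabInf_iff hF hm).mp hg
      exact ⟨((a, b), t), rfl⟩
  rw [← Nat.card_congr (Equiv.ofBijective f hf), Nat.card_prod, Nat.card_prod, Nat.card_units,
    Nat.card_eq_fintype_card, hF, sq]

theorem orbit_inf :
    MulAction.orbit (Cfsg.Sz F m) (suzukiPointInfinity F) = suzukiOvoid F m := by
  ext p
  constructor
  · rintro ⟨g, rfl⟩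
    exact smul_mem_ovoid g.2 inf_mem
  · intro hp
    rcases mem_ovoid_iff.mp hp with rfl | ⟨a, b, rfl⟩
    · exact MulAction.mem_orbit_self _
    · exact ⟨uS hF a b * wS hF, by
        show (uS hF a b * wS hF) • suzukiPointInfinity F = _
        rw [mul_smul, smul_wS_inf, smul_uS_zero]⟩

theorem card_Sz (hm : 1 ≤ m) : Nat.card (Cfsg.Sz F m) =
    (2 ^ (2 * m + 1)) ^ 2 * ((2 ^ (2 * m + 1)) ^ 2 + 1) * (2 ^ (2 * m + 1) - 1) := by
  rw [← Subgroup.card_mul_index (MulAction.stabilizer (Cfsg.Sz F m) (suzukiPointInfinity F)),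
    MulAction.index_stabilizer, orbit_inf hF, ← Nat.card_coe_set_eq, card_ovoid,
    card_stabInf hF hm, hF]
  ring

/-! ### Double transitivity -/

theorem exists_to_inf {p : Projectivization F (Fin 4 → F)} (hp : p ∈ suzukiOvoid F m) :
    ∃ g : ↥(Cfsg.Sz F m), g • p = suzukiPointInfinity F := by
  rw [← orbit_inf hF] at hp
  obtain ⟨g, rfl⟩ := hp
  exact ⟨g⁻¹, inv_smul_smul g _⟩

theorem exists_to_inf_zero {p r : Projectivization F (Fin 4 → F)} (hp : p ∈ suzukiOvoid F m)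
    (hr : r ∈ suzukiOvoid F m) (hne : p ≠ r) :
    ∃ g : ↥(Cfsg.Sz F m), g • p = suzukiPointInfinity F ∧ g • r = suzukiPointZero F := by
  obtain ⟨g, hg⟩ := exists_to_inf hF hp
  rcases mem_ovoid_iff.mp (smul_mem_ovoid g.2 hr : g • r ∈ suzukiOvoid F m) with h | ⟨a, b, h⟩
  · exact absurd (MulAction.injective g (hg.trans h.symm)) hne
  · refine ⟨(uS hF a b)⁻¹ * g, ?_, ?_⟩
    · rw [mul_smul, hg, inv_smul_eq_iff, smul_uS_inf]
    · rw [mul_smul, inv_smul_eq_iff, smul_uS_zero]; exact h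

theorem two_transitive :
    MulAction.IsMultiplyPretransitive (Cfsg.Sz F m) (suzukiOvoid F m) 2 := by
  rw [MulAction.is_two_pretransitive_iff]
  rintro ⟨a, ha⟩ ⟨b, hb⟩ ⟨c, hc⟩ ⟨d, hd⟩ hab hcd
  obtain ⟨g, g1, g2⟩ := exists_to_inf_zero hF ha hb (fun h => hab (Subtype.ext h))
  obtain ⟨k, k1, k2⟩ := exists_to_inf_zero hF hc hd (fun h => hcd (Subtype.ext h))
  refine ⟨k⁻¹ * g, Subtype.ext ?_, Subtype.ext ?_⟩
  · show (k⁻¹ * g) • a = c
    rw [mul_smul, g1, inv_smul_eq_iff, k1]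
  · show (k⁻¹ * g) • b = d
    rw [mul_smul, g2, inv_smul_eq_iff, k2]

/-! ### The torus parameter maps -/

theorem eq_one_of_th_sq {t : F} (h : th m t * t ^ 2 = 1) : t = 1 := by
  haveI := charTwo hF
  have h1 : t ^ 2 * th m t ^ 2 = 1 := by
    have := congrArg (th m) h
    rwa [th_mul, th_th hF, th_pow, th_one] at this
  have h2 : t * th m t = 1 :=
    CharTwo.sq_injective (show (t * th m t) ^ 2 = (1 : F) ^ 2 by rw [mul_pow, one_pow]; exact h1)
  calc t = t * (t * th m t) := by rw [h2, mul_one]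
    _ = th m t * t ^ 2 := by ring
    _ = 1 := h

theorem eq_one_of_th_mul {t : F} (h : th m t * t = 1) : t = 1 := by
  apply eq_one_of_th_sq hF
  have h1 : t ^ 2 * th m t = 1 := by
    have := congrArg (th m) h
    rwa [th_mul, th_th hF, th_one] at this
  linear_combination h1

theorem th_sq_surj {b : F} (hb : b ≠ 0) : ∃ t : Fˣ, th m (t : F) * (t : F) ^ 2 = b := by
  let f : Fˣ →* Fˣ :=
    { toFun := fun t => Units.mk0 (th m (t : F) * (t : F) ^ 2)
        (mul_ne_zero (fun h => t.ne_zero (th_eq_zero_iff.mp h)) (pow_ne_zero _ t.ne_zero))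
      map_one' := Units.ext (by simp)
      map_mul' := fun s t => Units.ext (by simp [th_mul]; ring) }
  have hf : Function.Injective f := by
    refine (injective_iff_map_eq_one f).mpr fun t ht => Units.ext ?_
    exact eq_one_of_th_sq hF (congrArg Units.val ht)
  obtain ⟨t, ht⟩ := Finite.surjective_of_injective hf (Units.mk0 b hb)
  exact ⟨t, congrArg Units.val ht⟩

theorem th_mul_surj {b : F} (hb : b ≠ 0) : ∃ t : Fˣ, th m (t : F) * (t : F) = b := by
  let f : Fˣ →* Fˣ :=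
    { toFun := fun t => Units.mk0 (th m (t : F) * (t : F))
        (mul_ne_zero (fun h => t.ne_zero (th_eq_zero_iff.mp h)) t.ne_zero)
      map_one' := Units.ext (by simp)
      map_mul' := fun s t => Units.ext (by simp [th_mul]; ring) }
  have hf : Function.Injective f := by
    refine (injective_iff_map_eq_one f).mpr fun t ht => Units.ext ?_
    exact eq_one_of_th_mul hF (congrArg Units.val ht)
  obtain ⟨t, ht⟩ := Finite.surjective_of_injective hf (Units.mk0 b hb)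
  exact ⟨t, congrArg Units.val ht⟩

theorem exists_not_zero_one (hm : 1 ≤ m) : ∃ a : F, a ≠ 0 ∧ a ≠ 1 := by
  classical
  by_contra h
  push Not at h
  have hsub : (Finset.univ : Finset F) ⊆ {0, 1} := by
    intro a _
    by_cases ha : a = 0
    · simp [ha]
    · simp [h a ha]
  have h1 := (Finset.card_le_card hsub).trans Finset.card_le_two
  rw [Finset.card_univ, hF] at h1
  have : 2 ^ 2 ≤ 2 ^ (2 * m + 1) := Nat.pow_le_pow_right (by norm_num) (by omega)
  omega

theorem th_ne_self {a : F} (h0 : a ≠ 0) (h1 : a ≠ 1) : th m a ≠ a := by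
  intro h
  have h2 : a ^ 2 = a := by rw [← th_th hF, h, h]
  exact h1 (mul_left_cancel₀ h0 (by rw [← sq, h2, mul_one]))

/-! ### Perfectness and simplicity -/

theorem uS_commutator (a b c d : F) :
    uS hF a b * uS hF c d * (uS hF a b)⁻¹ * (uS hF c d)⁻¹ = uS hF 0 (th m a * c + th m c * a) := by
  have h2 := two_eq_zero hF
  simp only [uS_inv, uS_mul, th_add hF]
  congr 1
  · linear_combination (a + c) * h2
  · linear_combination (b + d + th m a * a + th m c * c + th m a * c) * h2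

theorem uS_center_mem_commutator (hm : 1 ≤ m) (b : F) :
    uS hF 0 b ∈ commutator ↥(Cfsg.Sz F m) := by
  by_cases hb : b = 0
  · rw [hb, uS_zero]; exact one_mem _
  obtain ⟨a, ha0, ha1⟩ := exists_not_zero_one hF hm
  have hne : th m a * 1 + th m 1 * a ≠ 0 := by
    rw [mul_one, th_one, one_mul, ← sub_eq hF, sub_ne_zero]
    exact th_ne_self hF ha0 ha1
  obtain ⟨r, hr⟩ := th_mul_surj hF (b := b / (th m a * 1 + th m 1 * a)) (div_ne_zero hb hne)
  have key := uS_commutator hF ((r : F) * a) 0 ((r : F) * 1) 0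
  have e : th m ((r : F) * a) * ((r : F) * 1) + th m ((r : F) * 1) * ((r : F) * a) = b := by
    rw [th_mul, th_mul]
    have : th m (r : F) * r * (th m a * 1 + th m 1 * a) = b := by rw [hr, div_mul_cancel₀ _ hne]
    linear_combination this
  rw [e] at key
  rw [← key]
  exact Subgroup.commutator_mem_commutator (Subgroup.mem_top _) (Subgroup.mem_top _)

theorem uS_mem_commutator (hm : 1 ≤ m) (a b : F) :
    uS hF a b ∈ commutator ↥(Cfsg.Sz F m) := by
  obtain ⟨t, ht0, ht1⟩ := exists_not_zero_one hF hm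
  set T := Units.mk0 t ht0
  have hT : th m t + 1 ≠ 0 := by
    rw [← sub_eq hF, sub_ne_zero, ← th_one (F := F) (m := m)]
    exact fun h => ht1 (th_injective hF h)
  set a0 := a / (th m t + 1)
  have hc : dS hF T * uS hF a0 0 * (dS hF T)⁻¹ * (uS hF a0 0)⁻¹ ∈ commutator ↥(Cfsg.Sz F m) :=
    Subgroup.commutator_mem_commutator (Subgroup.mem_top _) (Subgroup.mem_top _)
  rw [dS_uS, uS_inv, uS_mul] at hc
  have e : th m (T : F) * a0 + a0 = a := by
    show th m t * a0 + a0 = a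
    rw [show th m t * a0 + a0 = (th m t + 1) * a0 by ring, mul_div_cancel₀ _ hT]
  rw [e] at hc
  generalize hb' : th m (T : F) * (T : F) ^ 2 * 0 + (0 + th m a0 * a0) +
    th m (th m (T : F) * a0) * a0 = b' at hc
  have e2 : uS hF a b = uS hF a b' * uS hF 0 (b + b') := by
    rw [uS_mul, add_zero, mul_zero, add_zero]
    congr 1
    linear_combination -b' * two_eq_zero hF
  rw [e2]
  exact mul_mem hc (uS_center_mem_commutator hF hm _)

theorem exists_closure_form (hm : 1 ≤ m) (g : ↥(Cfsg.Sz F m)) :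
    (∃ (a b : F) (t : Fˣ), g = uS hF a b * dS hF t) ∨
      ∃ (a b c d : F) (t : Fˣ), g = uS hF a b * wS hF * (uS hF c d * dS hF t) := by
  by_cases h : g • suzukiPointInfinity F = suzukiPointInfinity F
  · exact Or.inl ((mem_stabInf_iff hF hm).mp h)
  · obtain ⟨a, b, c, d, t, ht⟩ := exists_bruhat hF hm g.2 h
    exact Or.inr ⟨a, b, c, d, t, Subtype.ext ht⟩

theorem eq_top_of_mem (hm : 1 ≤ m) (K : Subgroup ↥(Cfsg.Sz F m)) (hu : ∀ a b, uS hF a b ∈ K)
    (hd : ∀ t, dS hF t ∈ K) (hw : wS hF ∈ K) : K = ⊤ := by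
  rw [eq_top_iff]
  intro g _
  rcases exists_closure_form hF hm g with ⟨a, b, t, rfl⟩ | ⟨a, b, c, d, t, rfl⟩
  · exact mul_mem (hu _ _) (hd _)
  · exact mul_mem (mul_mem (hu _ _) hw) (mul_mem (hu _ _) (hd _))

/-- A normal subgroup containing the root group is the whole group. -/
theorem eq_top_of_uS_mem (hm : 1 ≤ m) (K : Subgroup ↥(Cfsg.Sz F m)) [hK : K.Normal]
    (hu : ∀ a b, uS hF a b ∈ K) : K = ⊤ := by
  have hv : ∀ a b, wS hF * uS hF a b * wS hF ∈ K := fun a b => by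
    simpa [wS_inv] using hK.conj_mem _ (hu a b) (wS hF)
  have hz : ∀ a b, (wS hF * uS hF a b * wS hF) • suzukiPointZero F = suzukiPointZero F := by
    intro a b
    rw [mul_smul, mul_smul, smul_wS_zero, smul_uS_inf, smul_wS_inf]
  -- first move infinity off zero inside `K`
  have h10 : ((1 : F) ≠ 0 ∨ (0 : F) ≠ 0) := Or.inl one_ne_zero
  have hz1 : fp m (1 : F) 0 ≠ 0 := fun h => one_ne_zero ((fp_eq_zero_iff hF).mp h).1
  set c := (0 : F) / fp m (1 : F) 0
  set d := (1 : F) / fp m (1 : F) 0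
  have k1 : (wS hF * uS hF 1 0 * wS hF) • suzukiPointInfinity F = pt m c d := by
    rw [mul_smul, mul_smul, smul_wS_inf, smul_uS_zero]
    exact wEl_smul_pt hF h10
  set k := (uS hF c d)⁻¹ * (wS hF * uS hF 1 0 * wS hF) with hk
  have hkK : k ∈ K := mul_mem (inv_mem (hu _ _)) (hv _ _)
  have hki : k • suzukiPointInfinity F = suzukiPointZero F := by
    rw [hk, mul_smul, k1, inv_smul_eq_iff, smul_uS_zero]
  have hkz : k • suzukiPointZero F = pt m c (d + th m c * c) := by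
    rw [hk, mul_smul, hz, uS_inv, smul_uS_zero]
  have hne : c ≠ 0 ∨ d + th m c * c ≠ 0 := by
    right
    simp [c, d, hz1]
  set z := fp m c (d + th m c * c)
  set e := (d + th m c * c) / z
  set f := c / z
  have k2 : (wS hF * uS hF e (f + th m e * e) * wS hF) • pt m c (d + th m c * c) =
      suzukiPointInfinity F := by
    rw [mul_smul, mul_smul]
    have : wS hF • pt m c (d + th m c * c) = pt m e f := wEl_smul_pt hF hne
    rw [this, ← uS_inv, ← smul_uS_zero hF e f, inv_smul_smul, smul_wS_zero]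
  set k' := wS hF * uS hF e (f + th m e * e) * wS hF * k with hk'
  have hk'K : k' ∈ K := mul_mem (hv _ _) hkK
  have hk'i : k' • suzukiPointInfinity F = suzukiPointZero F := by rw [hk', mul_smul, hki, hz]
  have hk'z : k' • suzukiPointZero F = suzukiPointInfinity F := by rw [hk', mul_smul, hkz, k2]
  obtain ⟨t, ht⟩ := two_point hF hm (g := wS hF * k')
    (by rw [mul_smul, hk'i, smul_wS_zero]) (by rw [mul_smul, hk'z, smul_wS_inf])
  have hwt : wS hF * dS hF t ∈ K := by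
    rw [← ht, ← mul_assoc, wS_mul_self, one_mul]
    exact hk'K
  have hd : ∀ s, dS hF s ∈ K := by
    intro s
    haveI := charTwo hF
    obtain ⟨r, hr⟩ : ∃ r : F, r ^ 2 = ((s⁻¹ : Fˣ) : F) :=
      (Finite.injective_iff_surjective.mp CharTwo.sq_injective) _
    have hr0 : r ≠ 0 := by
      rintro rfl
      rw [zero_pow two_ne_zero] at hr
      exact (s⁻¹).ne_zero hr.symm
    set R := Units.mk0 r hr0
    have h1 := hK.conj_mem _ hwt (dS hF R)
    have h2 : dS hF R * (wS hF * dS hF t) * (dS hF R)⁻¹ = wS hF * dS hF (t * s) := by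
      have hs : (R⁻¹ * R⁻¹ : Fˣ) = s := by
        rw [← mul_inv, inv_eq_iff_eq_inv]
        exact Units.ext (by simpa [R, ← sq] using hr)
      have hsw : dS hF R * wS hF = wS hF * dS hF R⁻¹ := by
        rw [← wS_dS hF R, ← mul_assoc, ← mul_assoc, wS_mul_self, one_mul]
      rw [dS_inv, ← mul_assoc, hsw, mul_assoc (wS hF), dS_mul, mul_assoc, dS_mul]
      congr 2
      rw [← hs]
      simp only [mul_comm, mul_left_comm]
    rw [h2] at h1
    have h3 := mul_mem (inv_mem hwt) h1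
    rwa [_root_.mul_inv_rev, mul_assoc, inv_mul_cancel_left, dS_inv, dS_mul, inv_mul_cancel_left] at h3
  refine eq_top_of_mem hF hm K hu hd ?_
  have h4 := mul_mem hwt (hd t⁻¹)
  rwa [mul_assoc, dS_mul, mul_inv_cancel, dS_one, mul_one] at h4

theorem perfect (hm : 1 ≤ m) : commutator ↥(Cfsg.Sz F m) = ⊤ :=
  eq_top_of_uS_mem hF hm _ (uS_mem_commutator hF hm)

theorem eq_one_of_fix_three (hm : 1 ≤ m) {g : ↥(Cfsg.Sz F m)} {p r s : Projectivization F (Fin 4 → F)}
    (hp : p ∈ suzukiOvoid F m) (hr : r ∈ suzukiOvoid F m) (hs : s ∈ suzukiOvoid F m)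
    (hpr : p ≠ r) (hrs : r ≠ s) (hps : p ≠ s) (h1 : g • p = p) (h2 : g • r = r) (h3 : g • s = s) :
    g = 1 := by
  obtain ⟨k, k1, k2⟩ := exists_to_inf_zero hF hp hr hpr
  have c1 : (k * g * k⁻¹) • suzukiPointInfinity F = suzukiPointInfinity F := by
    rw [← k1, mul_smul, mul_smul, inv_smul_smul, h1]
  have c2 : (k * g * k⁻¹) • suzukiPointZero F = suzukiPointZero F := by
    rw [← k2, mul_smul, mul_smul, inv_smul_smul, h2]
  have c3 : (k * g * k⁻¹) • (k • s) = k • s := by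
    rw [mul_smul, mul_smul, inv_smul_smul, h3]
  obtain ⟨t, ht⟩ := two_point hF hm c1 c2
  rw [ht] at c3
  suffices t = 1 by
    rw [this, dS_one] at ht
    simpa [mul_assoc] using congrArg (fun x => k⁻¹ * x * k) ht
  rcases mem_ovoid_iff.mp (smul_mem_ovoid k.2 hs : k • s ∈ suzukiOvoid F m) with h | ⟨x, y, h⟩
  · exact absurd (MulAction.injective k (k1.trans h.symm)) hps
  · replace h : k • s = pt m x y := h
    rw [h] at c3
    have c4 : dEl m t • pt m x y = pt m x y := c3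
    rw [dEl_smul_pt hF] at c4
    obtain ⟨e1, e2⟩ := pt_injective c4
    apply Units.ext
    by_cases hx : x = 0
    · have hy : y ≠ 0 := by
        rintro rfl
        rw [hx, pt_zero] at h
        exact hrs (MulAction.injective k (k2.trans h.symm))
      exact eq_one_of_th_sq hF ((mul_eq_right₀ hy).mp e2)
    · exact th_injective hF (((mul_eq_right₀ hx).mp e1).trans th_one.symm)

theorem exists_three : ∃ p r s : Projectivization F (Fin 4 → F), p ∈ suzukiOvoid F m ∧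
    r ∈ suzukiOvoid F m ∧ s ∈ suzukiOvoid F m ∧ p ≠ r ∧ r ≠ s ∧ p ≠ s := by
  have := hF
  refine ⟨suzukiPointInfinity F, pt m 0 0, pt m 1 0, inf_mem, pt_mem _ _, pt_mem _ _,
    (pt_ne_inf _ _).symm, ?_, (pt_ne_inf _ _).symm⟩
  exact fun h => zero_ne_one (pt_injective h).1

theorem faithful (hm : 1 ≤ m) {g : ↥(Cfsg.Sz F m)}
    (h : ∀ p ∈ suzukiOvoid F m, g • p = p) : g = 1 := by
  obtain ⟨p, r, s, hp, hr, hs, h1, h2, h3⟩ := exists_three hF
  exact eq_one_of_fix_three hF hm hp hr hs h1 h2 h3 (h p hp) (h r hr) (h s hs)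

theorem exists_mem_moving (hm : 1 ≤ m) (N : Subgroup ↥(Cfsg.Sz F m)) [hN : N.Normal]
    (hne : N ≠ ⊥) {p : Projectivization F (Fin 4 → F)} (hp : p ∈ suzukiOvoid F m) :
    ∃ n ∈ N, n • suzukiPointInfinity F = p := by
  by_cases hpi : p = suzukiPointInfinity F
  · exact ⟨1, one_mem N, by rw [one_smul, hpi]⟩
  obtain ⟨n, hn, hn1⟩ := N.bot_or_exists_ne_one.resolve_left hne
  have : ∃ x ∈ suzukiOvoid F m, n • x ≠ x := by
    by_contra h
    push Not at h
    exact hn1 (faithful hF hm h)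
  obtain ⟨x, hx, hnx⟩ := this
  obtain ⟨g, g1, g2⟩ := exists_to_inf_zero hF hx (smul_mem_ovoid n.2 hx) (fun h => hnx h.symm)
  obtain ⟨k, k1, k2⟩ := exists_to_inf_zero hF inf_mem hp (Ne.symm hpi)
  refine ⟨(k⁻¹ * g) * n * (k⁻¹ * g)⁻¹, hN.conj_mem _ hn _, ?_⟩
  have e : g⁻¹ • suzukiPointInfinity F = x := by rw [← g1, inv_smul_smul]
  have e2 : k⁻¹ • suzukiPointZero F = p := by rw [← k2, inv_smul_smul]
  rw [_root_.mul_inv_rev, inv_inv, mul_smul, mul_smul, mul_smul, mul_smul, k1, e, ← e2]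
  exact congrArg (fun q => k⁻¹ • q) g2

/-- The root subgroup. -/
def U : Subgroup ↥(Cfsg.Sz F m) where
  carrier := {g | ∃ a b, g = uS hF a b}
  mul_mem' := by
    rintro _ _ ⟨a, b, rfl⟩ ⟨c, d, rfl⟩
    exact ⟨_, _, uS_mul hF a b c d⟩
  one_mem' := ⟨0, 0, (uS_zero hF).symm⟩
  inv_mem' := by
    rintro _ ⟨a, b, rfl⟩
    exact ⟨_, _, uS_inv hF a b⟩

/-- The centre of the root subgroup. -/
def Z : Subgroup ↥(Cfsg.Sz F m) where
  carrier := {g | ∃ b, g = uS hF 0 b}
  mul_mem' := by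
    rintro _ _ ⟨b, rfl⟩ ⟨d, rfl⟩
    exact ⟨b + d, by rw [uS_mul]; simp⟩
  one_mem' := ⟨0, (uS_zero hF).symm⟩
  inv_mem' := by
    rintro _ ⟨b, rfl⟩
    exact ⟨b, by rw [uS_inv]; simp⟩

theorem mem_U {g : ↥(Cfsg.Sz F m)} : g ∈ U hF ↔ ∃ a b, g = uS hF a b := Iff.rfl

theorem mem_Z {g : ↥(Cfsg.Sz F m)} : g ∈ Z hF ↔ ∃ b, g = uS hF 0 b := Iff.rfl

theorem card_U : Nat.card (U hF) = (2 ^ (2 * m + 1)) ^ 2 := by
  let f : F × F → U hF := fun p => ⟨uS hF p.1 p.2, _, _, rfl⟩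
  have hf : Function.Bijective f := by
    constructor
    · rintro ⟨a, b⟩ ⟨c, d⟩ h
      obtain ⟨rfl, rfl⟩ := uS_inj hF (congrArg Subtype.val h)
      rfl
    · rintro ⟨g, a, b, rfl⟩
      exact ⟨(a, b), rfl⟩
  rw [← Nat.card_congr (Equiv.ofBijective f hf), Nat.card_prod, Nat.card_eq_fintype_card, hF, sq]

theorem card_Z : Nat.card (Z hF) = 2 ^ (2 * m + 1) := by
  let f : F → Z hF := fun b => ⟨uS hF 0 b, _, rfl⟩
  have hf : Function.Bijective f := by
    constructor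
    · intro a b h
      exact (uS_inj hF (congrArg Subtype.val h)).2
    · rintro ⟨g, b, rfl⟩
      exact ⟨b, rfl⟩
  rw [← Nat.card_congr (Equiv.ofBijective f hf), Nat.card_eq_fintype_card, hF]

theorem commutator_mem_U (hm : 1 ≤ m) {x y : ↥(Cfsg.Sz F m)}
    (hx : x • suzukiPointInfinity F = suzukiPointInfinity F)
    (hy : y • suzukiPointInfinity F = suzukiPointInfinity F) : x * y * x⁻¹ * y⁻¹ ∈ U hF := by
  obtain ⟨a, b, t, rfl⟩ := (mem_stabInf_iff hF hm).mp hx
  obtain ⟨c, d, s, rfl⟩ := (mem_stabInf_iff hF hm).mp hy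
  have hn : ∀ (r : Fˣ) {u : ↥(Cfsg.Sz F m)}, u ∈ U hF → dS hF r * u * (dS hF r)⁻¹ ∈ U hF := by
    rintro r _ ⟨e, f, rfl⟩
    exact ⟨_, _, dS_uS hF r e f⟩
  set u := uS hF a b
  set v := uS hF c d
  have hu : u ∈ U hF := ⟨_, _, rfl⟩
  have hv : v ∈ U hF := ⟨_, _, rfl⟩
  have hts : dS hF t * dS hF s = dS hF s * dS hF t := by rw [dS_mul, dS_mul, mul_comm]
  have : u * dS hF t * (v * dS hF s) * (u * dS hF t)⁻¹ * (v * dS hF s)⁻¹ =
      u * (dS hF t * v * (dS hF t)⁻¹) * (dS hF s * u⁻¹ * (dS hF s)⁻¹) * v⁻¹ := by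
    have h' : dS hF t * dS hF s * (dS hF t)⁻¹ = dS hF s := by rw [hts, mul_inv_cancel_right]
    calc _ = u * (dS hF t * v * (dS hF t)⁻¹) * (dS hF t * dS hF s * (dS hF t)⁻¹) * u⁻¹ *
          (dS hF s)⁻¹ * v⁻¹ := by group
      _ = _ := by rw [h']; group
  rw [this]
  exact mul_mem (mul_mem (mul_mem hu (hn t hv)) (hn s (inv_mem hu))) (inv_mem hv)

theorem isSimple (hm : 1 ≤ m) : IsSimpleGroup ↥(Cfsg.Sz F m) := by
  haveI : Nontrivial ↥(Cfsg.Sz F m) := by
    refine ⟨⟨wS hF, 1, fun h => ?_⟩⟩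
    have := smul_wS_inf hF
    rw [h, one_smul, ← pt_zero (m := m)] at this
    exact pt_ne_inf _ _ this.symm
  refine ⟨fun N hN => or_iff_not_imp_left.mpr fun hne => ?_⟩
  -- every element is a product of an element fixing infinity and an element of `N`
  have hQ : ∀ x : ↥(Cfsg.Sz F m) ⧸ N, ∃ g : ↥(Cfsg.Sz F m),
      g • suzukiPointInfinity F = suzukiPointInfinity F ∧ (g : ↥(Cfsg.Sz F m) ⧸ N) = x := by
    intro x
    obtain ⟨g, rfl⟩ := QuotientGroup.mk_surjective x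
    obtain ⟨n, hn, hni⟩ := exists_mem_moving hF hm N hne
      (smul_mem_ovoid g.2 (inf_mem (m := m)) : g • suzukiPointInfinity F ∈ suzukiOvoid F m)
    refine ⟨n⁻¹ * g, by rw [mul_smul, inv_smul_eq_iff]; exact hni.symm, ?_⟩
    rw [QuotientGroup.mk_mul, QuotientGroup.mk_inv, (QuotientGroup.eq_one_iff n).mpr hn, inv_one,
      one_mul]
  set π := QuotientGroup.mk' N
  have hperf : commutator (↥(Cfsg.Sz F m) ⧸ N) = ⊤ := by
    rw [← Subgroup.map_top_of_surjective π (QuotientGroup.mk'_surjective N), ← perfect hF hm]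
    rw [commutator_def, commutator_def, Subgroup.map_commutator,
      Subgroup.map_top_of_surjective π (QuotientGroup.mk'_surjective N)]
  have s1 : (U hF).map π = ⊤ := by
    rw [eq_top_iff, ← hperf, commutator_def, Subgroup.commutator_le]
    intro x _ y _
    obtain ⟨g, hg, rfl⟩ := hQ x
    obtain ⟨k, hk, rfl⟩ := hQ y
    exact ⟨g * k * g⁻¹ * k⁻¹, commutator_mem_U hF hm hg hk, rfl⟩
  have s2 : (Z hF).map π = ⊤ := by
    rw [eq_top_iff, ← hperf, commutator_def, ← s1, Subgroup.commutator_le]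
    rintro _ ⟨_, ⟨a, b, rfl⟩, rfl⟩ _ ⟨_, ⟨c, d, rfl⟩, rfl⟩
    exact ⟨_, ⟨_, uS_commutator hF a b c d⟩, rfl⟩
  have s3 : (⊥ : Subgroup (↥(Cfsg.Sz F m) ⧸ N)) = ⊤ := by
    rw [eq_top_iff, ← hperf, commutator_def, ← s2, Subgroup.commutator_le]
    rintro _ ⟨_, ⟨b, rfl⟩, rfl⟩ _ ⟨_, ⟨d, rfl⟩, rfl⟩
    rw [Subgroup.mem_bot]
    show π (uS hF 0 b) * π (uS hF 0 d) * (π (uS hF 0 b))⁻¹ * (π (uS hF 0 d))⁻¹ = 1
    rw [← map_inv, ← map_inv, ← map_mul, ← map_mul, ← map_mul, uS_commutator, th_zero, zero_mul,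
      add_zero, uS_zero, map_one]
  rw [eq_top_iff]
  intro g _
  have : π g ∈ (⊥ : Subgroup (↥(Cfsg.Sz F m) ⧸ N)) := by rw [s3]; trivial
  exact (QuotientGroup.eq_one_iff g).mp (Subgroup.mem_bot.mp this)

theorem isZassenhaus (hm : 1 ≤ m) :
    Cfsg.IsZassenhausGroup (Cfsg.Sz F m) (suzukiOvoid F m) := by
  refine ⟨⟨fun {g k} h => ?_⟩, two_transitive hF, ?_, ?_, ?_⟩
  · have : k⁻¹ * g = 1 := faithful hF hm fun p hp => by
      have := congrArg Subtype.val (h ⟨p, hp⟩)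
      change g • p = k • p at this
      rw [mul_smul, this, inv_smul_smul]
    exact (inv_mul_eq_one.mp this).symm
  · intro g a b c hab hbc hac ha hb hc
    exact eq_one_of_fix_three hF hm a.2 b.2 c.2 (fun h => hab (Subtype.ext h))
      (fun h => hbc (Subtype.ext h)) (fun h => hac (Subtype.ext h)) (congrArg Subtype.val ha)
      (congrArg Subtype.val hb) (congrArg Subtype.val hc)
  · obtain ⟨t, ht0, ht1⟩ := exists_not_zero_one hF hm
    refine ⟨dS hF (Units.mk0 t ht0), ?_, ⟨_, inf_mem⟩, ⟨_, pt_mem 0 0⟩,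
      fun h => pt_ne_inf _ _ (congrArg Subtype.val h).symm, Subtype.ext (smul_dS_inf hF _), ?_⟩
    · rw [← dS_one hF]
      exact fun h => ht1 (congrArg Units.val (dS_inj hF h))
    · apply Subtype.ext
      show dS hF _ • pt m (0 : F) 0 = pt m 0 0
      rw [pt_zero, smul_dS_zero]
  · intro N hN htr
    haveI := isSimple hF hm
    have hne : N ≠ ⊥ := by
      rintro rfl
      obtain ⟨⟨g, hg⟩, h⟩ := htr.exists_smul_eq (⟨_, inf_mem⟩ : suzukiOvoid F m) ⟨_, pt_mem 0 0⟩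
      rw [Subgroup.mem_bot] at hg
      subst hg
      have h' := congrArg Subtype.val h
      change (1 : ↥(Cfsg.Sz F m)) • suzukiPointInfinity F = pt m 0 0 at h'
      rw [one_smul] at h'
      exact pt_ne_inf _ _ h'.symm
    have htop : N = ⊤ := (hN.eq_bot_or_eq_top).resolve_left hne
    subst htop
    refine ⟨⟨_, inf_mem⟩, fun hbot => ?_⟩
    obtain ⟨t, ht0, ht1⟩ := exists_not_zero_one hF hm
    have hmem : (⟨dS hF (Units.mk0 t ht0), Subgroup.mem_top _⟩ : (⊤ : Subgroup ↥(Cfsg.Sz F m))) ∈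
        MulAction.stabilizer (⊤ : Subgroup ↥(Cfsg.Sz F m))
          (⟨suzukiPointInfinity F, inf_mem⟩ : suzukiOvoid F m) :=
      Subtype.ext (smul_dS_inf hF _)
    rw [hbot, Subgroup.mem_bot] at hmem
    have h' : dS hF (Units.mk0 t ht0) = 1 := congrArg Subtype.val hmem
    rw [← dS_one hF] at h'
    exact ht1 (congrArg Units.val (dS_inj hF h'))

theorem twoPointEquiv (hm : 1 ≤ m) :
    Nonempty (↥(MulAction.stabilizer (Cfsg.Sz F m) (suzukiPointInfinity F) ⊓
        MulAction.stabilizer (Cfsg.Sz F m) (suzukiPointZero F)) ≃* Fˣ) := by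
  let f : Fˣ →* ↥(MulAction.stabilizer (Cfsg.Sz F m) (suzukiPointInfinity F) ⊓
      MulAction.stabilizer (Cfsg.Sz F m) (suzukiPointZero F)) :=
    { toFun := fun t => ⟨dS hF t, smul_dS_inf hF t, smul_dS_zero hF t⟩
      map_one' := Subtype.ext (dS_one hF)
      map_mul' := fun t s => Subtype.ext (dS_mul hF t s).symm }
  refine ⟨(MulEquiv.ofBijective f ⟨fun t s h => dS_inj hF (congrArg Subtype.val h), ?_⟩).symm⟩
  rintro ⟨g, hg1, hg2⟩
  obtain ⟨t, rfl⟩ := two_point hF hm hg1 hg2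
  exact ⟨t, rfl⟩

end CfsgLib.Suzuki
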