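/-
Sylow 2-subgroups of the Suzuki group.
-/
import Mathlib
import Cfsg.Prelude.Def_LieExceptional
import Cfsg.Agent.Lib.Suzuki.Structure

namespace CfsgLib.Suzuki

open Cfsg Matrix
open scoped Pointwise

variable {F : Type*} [Field F] [Fintype F] {m : ℕ} (hF : Fintype.card F = 2 ^ (2 * m + 1))
include hF

theorem U_le_stabInf : U hF ≤ MulAction.stabilizer (Cfsg.Sz F m) (suzukiPointInfinity F) := by
  rintro _ ⟨a, b, rfl⟩
  exact smul_uS_inf hF a b

theorem U_isPGroup : IsPGroup 2 (U hF) :=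
  IsPGroup.of_card (n := (2 * m + 1) * 2) (by rw [card_U, ← pow_mul])

theorem index_U (hm : 1 ≤ m) :
    (U hF).index = ((2 ^ (2 * m + 1)) ^ 2 + 1) * (2 ^ (2 * m + 1) - 1) := by
  have h := Subgroup.card_mul_index (U hF)
  rw [card_U, card_Sz hF hm, mul_assoc] at h
  exact Nat.eq_of_mul_eq_mul_left (by positivity) h

theorem not_two_dvd_index_U (hm : 1 ≤ m) : ¬ 2 ∣ (U hF).index := by
  rw [index_U hF hm, Nat.Prime.dvd_mul Nat.prime_two]
  have hev : 2 ∣ 2 ^ (2 * m + 1) := dvd_pow_self 2 (by omega)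
  have hev2 : 2 ∣ (2 ^ (2 * m + 1)) ^ 2 := dvd_pow hev two_ne_zero
  have hpos : 0 < 2 ^ (2 * m + 1) := by positivity
  omega

/-- The root subgroup as a Sylow 2-subgroup. -/
noncomputable def Usyl (hm : 1 ≤ m) : Sylow 2 ↥(Cfsg.Sz F m) :=
  IsPGroup.toSylow (U_isPGroup hF) (not_two_dvd_index_U hF hm)

theorem coe_Usyl (hm : 1 ≤ m) : (Usyl hF hm : Subgroup ↥(Cfsg.Sz F m)) = U hF := rfl

theorem exists_conj_eq (hm : 1 ≤ m) (P : Sylow 2 ↥(Cfsg.Sz F m)) :
    ∃ g : ↥(Cfsg.Sz F m), (P : Subgroup ↥(Cfsg.Sz F m)) = (U hF).map (MulAut.conj g).toMonoidHom := by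
  haveI : Fact (Nat.Prime 2) := ⟨Nat.prime_two⟩
  obtain ⟨g, hg⟩ := MulAction.exists_smul_eq ↥(Cfsg.Sz F m) (Usyl hF hm) P
  refine ⟨g, ?_⟩
  rw [← hg, Sylow.coe_subgroup_smul, coe_Usyl]
  rfl

theorem sylow_equiv_U (hm : 1 ≤ m) (P : Sylow 2 ↥(Cfsg.Sz F m)) :
    Nonempty (↥(P : Subgroup ↥(Cfsg.Sz F m)) ≃* ↥(U hF)) := by
  obtain ⟨g, hg⟩ := exists_conj_eq hF hm P
  exact ⟨(MulEquiv.subgroupCongr hg).trans
    ((U hF).equivMapOfInjective _ (MulAut.conj g).injective).symm⟩

theorem fixed_by_U {p : Projectivization F (Fin 4 → F)} (hp : p ∈ suzukiOvoid F m)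
    (h : ∀ u ∈ U hF, u • p = p) : p = suzukiPointInfinity F := by
  rcases mem_ovoid_iff.mp hp with h' | ⟨x, y, h'⟩
  · exact h'
  · exfalso
    have h1 : uS hF 1 0 • p = p := h _ ⟨_, _, rfl⟩
    rw [h'] at h1
    have h2 : (uEl m 1 0 : Matrix.SpecialLinearGroup (Fin 4) F) • pt m x y = pt m x y := h1
    rw [uEl_smul_pt hF] at h2
    exact one_ne_zero ((add_eq_left).mp (pt_injective h2).1)

theorem normalizer_U (hm : 1 ≤ m) : Subgroup.normalizer (U hF : Set ↥(Cfsg.Sz F m)) =
    MulAction.stabilizer (Cfsg.Sz F m) (suzukiPointInfinity F) := by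
  ext g
  constructor
  · intro hg
    rw [MulAction.mem_stabilizer_iff]
    refine fixed_by_U hF (smul_mem_ovoid g.2 inf_mem : g • suzukiPointInfinity F ∈ suzukiOvoid F m)
      fun u hu => ?_
    have hu' : g⁻¹ * u * g ∈ U hF := by
      rw [SetLike.mem_coe.symm]
      exact (Subgroup.mem_normalizer_iff''.mp hg u).mp hu
    have := U_le_stabInf hF hu'
    rw [MulAction.mem_stabilizer_iff, mul_smul, mul_smul, inv_smul_eq_iff] at this
    exact this
  · intro hg
    obtain ⟨a, b, t, rfl⟩ := (mem_stabInf_iff hF hm).mp (MulAction.mem_stabilizer_iff.mp hg)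
    refine mul_mem (Subgroup.le_normalizer ⟨a, b, rfl⟩) ?_
    rw [Subgroup.mem_normalizer_iff]
    intro u
    constructor
    · rintro ⟨c, d, rfl⟩
      exact ⟨_, _, dS_uS hF t c d⟩
    · rintro ⟨c, d, h⟩
      have e : u = dS hF t⁻¹ * uS hF c d * (dS hF t⁻¹)⁻¹ := by
        rw [← h, ← dS_inv]; group
      rw [dS_uS] at e
      exact ⟨_, _, e⟩

theorem mem_center_U {a b : F} (hm : 1 ≤ m)
    (h : ∀ c d : F, uS hF a b * uS hF c d = uS hF c d * uS hF a b) : a = 0 := by
  obtain ⟨r, r0, r1⟩ := exists_not_zero_one hF hm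
  have h1 := h 1 0
  have h2 := h r 0
  rw [uS_mul, uS_mul] at h1 h2
  have e1 := (uS_inj hF h1).2
  have e2 := (uS_inj hF h2).2
  rw [th_one] at e1
  have e1' : th m a = a := by linear_combination e1
  rw [e1'] at e2
  have e2' : a * (r - th m r) = 0 := by linear_combination e2
  exact (mul_eq_zero.mp e2').resolve_right (sub_ne_zero.mpr (th_ne_self hF r0 r1).symm)

theorem U_structure (hm : 1 ≤ m) :
    Monoid.exponent (U hF) = 4 ∧ Subgroup.center (U hF) = (Z hF).subgroupOf (U hF) ∧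
      commutator (U hF) = (Z hF).subgroupOf (U hF) := by
  refine ⟨?_, ?_, ?_⟩
  · have hd : Monoid.exponent (U hF) ∣ 4 := by
      refine Monoid.exponent_dvd_of_forall_pow_eq_one fun ⟨g, a, b, hg⟩ => Subtype.ext ?_
      subst hg
      show uS hF a b ^ 4 = 1
      have h2 := two_eq_zero hF
      rw [pow_succ, pow_succ, pow_succ, pow_one, mul_assoc (uS hF a b * uS hF a b), uS_mul, uS_mul,
        ← uS_zero hF]
      have e : a + a = 0 := by linear_combination a * h2
      rw [e, add_zero, th_zero, zero_mul, add_zero]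
      congr 1
      linear_combination (b + b + th m a * a) * h2
    have hsq : ¬ Monoid.exponent (U hF) ∣ 2 := by
      intro h
      have := congrArg Subtype.val
        (Monoid.exponent_dvd_iff_forall_pow_eq_one.mp h ⟨uS hF 1 0, _, _, rfl⟩)
      change uS hF 1 0 ^ 2 = 1 at this
      rw [sq, uS_mul, ← uS_zero hF] at this
      have := (uS_inj hF this).2
      simp at this
    have hpp : Monoid.exponent (U hF) ∈ ({1, 2, 4} : Finset ℕ) := by
      have := Nat.mem_divisors.mpr ⟨hd, (by norm_num : (4 : ℕ) ≠ 0)⟩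
      rwa [show Nat.divisors 4 = {1, 2, 4} from rfl] at this
    simp only [Finset.mem_insert, Finset.mem_singleton] at hpp
    rcases hpp with h | h | h
    · exact absurd (by rw [h]; exact one_dvd 2) hsq
    · exact absurd (by rw [h]) hsq
    · exact h
  · ext ⟨g, a, b, hg⟩
    subst hg
    constructor
    · intro h
      have ha : a = 0 := mem_center_U hF hm fun c d =>
        (congrArg Subtype.val (Subgroup.mem_center_iff.mp h ⟨uS hF c d, c, d, rfl⟩)).symm
      exact ⟨b, by subst ha; rfl⟩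
    · rintro ⟨b', h'⟩
      obtain ⟨ha, -⟩ := uS_inj hF (h' : uS hF a b = uS hF 0 b')
      rw [Subgroup.mem_center_iff]
      rintro ⟨x, c, d, rfl⟩
      apply Subtype.ext
      show uS hF c d * uS hF a b = uS hF a b * uS hF c d
      simp only [ha, uS_mul, th_zero, zero_mul, mul_zero, add_zero, zero_add, add_comm d b]
  · apply le_antisymm
    · rw [commutator_def, Subgroup.commutator_le]
      rintro ⟨x, a, b, rfl⟩ _ ⟨y, c, d, rfl⟩ _
      exact ⟨_, uS_commutator hF a b c d⟩
    · rintro ⟨g, hgU⟩ ⟨b, hb⟩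
      by_cases hb0 : b = 0
      · have : (⟨g, hgU⟩ : U hF) = 1 := Subtype.ext (by
          show g = 1
          rw [show g = uS hF 0 b from hb, hb0, uS_zero])
        rw [this]; exact one_mem _
      obtain ⟨a, ha0, ha1⟩ := exists_not_zero_one hF hm
      have hne : th m a * 1 + th m 1 * a ≠ 0 := by
        rw [mul_one, th_one, one_mul, ← sub_eq hF, sub_ne_zero]
        exact th_ne_self hF ha0 ha1
      obtain ⟨r, hr⟩ := th_mul_surj hF (b := b / (th m a * 1 + th m 1 * a)) (div_ne_zero hb0 hne)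
      have key := uS_commutator hF ((r : F) * a) 0 ((r : F) * 1) 0
      have e : th m ((r : F) * a) * ((r : F) * 1) + th m ((r : F) * 1) * ((r : F) * a) = b := by
        rw [th_mul, th_mul]
        have : th m (r : F) * r * (th m a * 1 + th m 1 * a) = b := by
          rw [hr, div_mul_cancel₀ _ hne]
        linear_combination this
      rw [e] at key
      have hmem : (⟨uS hF ((r : F) * a) 0, _, _, rfl⟩ : U hF) * ⟨uS hF ((r : F) * 1) 0, _, _, rfl⟩ *
          (⟨uS hF ((r : F) * a) 0, _, _, rfl⟩ : U hF)⁻¹ *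
          (⟨uS hF ((r : F) * 1) 0, _, _, rfl⟩ : U hF)⁻¹ ∈ commutator (U hF) :=
        Subgroup.commutator_mem_commutator (Subgroup.mem_top _) (Subgroup.mem_top _)
      convert hmem using 1
      exact Subtype.ext ((hb : g = uS hF 0 b).trans key.symm)

theorem sylow_structure (hm : 1 ≤ m) (P : Sylow 2 ↥(Cfsg.Sz F m)) :
    Nat.card P = (2 ^ (2 * m + 1)) ^ 2 ∧ Monoid.exponent P = 4 ∧
      Subgroup.center P = commutator P ∧ Nat.card (Subgroup.center P) = 2 ^ (2 * m + 1) := by
  obtain ⟨e⟩ := sylow_equiv_U hF hm P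
  obtain ⟨h1, h2, h3⟩ := U_structure hF hm
  have hc : Subgroup.center P = (Subgroup.center (U hF)).comap e.toMonoidHom := by
    ext x
    rw [Subgroup.mem_comap, Subgroup.mem_center_iff, Subgroup.mem_center_iff]
    constructor
    · intro h y
      obtain ⟨z, rfl⟩ := e.surjective y
      show e z * e x = e x * e z
      rw [← map_mul, ← map_mul, h z]
    · intro h z
      apply e.injective
      rw [map_mul, map_mul]
      exact h (e z)
  refine ⟨?_, ?_, ?_, ?_⟩
  · rw [Nat.card_congr e.toEquiv, card_U]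
  · rw [Monoid.exponent_eq_of_mulEquiv e, h1]
  · rw [hc, h2, ← h3, ← Subgroup.map_injective (f := e.toMonoidHom) e.injective |>.eq_iff,
      Subgroup.map_comap_eq_self_of_surjective e.surjective, commutator_def, commutator_def,
      Subgroup.map_commutator, Subgroup.map_top_of_surjective e.toMonoidHom e.surjective]
  · rw [hc, h2]
    rw [Nat.card_congr (Equiv.subtypeEquiv e.toEquiv (fun x => Iff.rfl) :
      ↥(((Z hF).subgroupOf (U hF)).comap e.toMonoidHom) ≃ ↥((Z hF).subgroupOf (U hF)))]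
    rw [Nat.card_congr (Subgroup.subgroupOfEquivOfLe (H := Z hF) (K := U hF)
      (fun g ⟨b, hb⟩ => ⟨0, b, hb⟩)).toEquiv, card_Z]

end CfsgLib.Suzuki
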