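/-
The ovoid stabiliser coincides with the group cut out inside `Sp₄` by `g* = g^θ`.
-/
import Mathlib
import Cfsg.Prelude.Def_LieExceptional
import Cfsg.Prelude.Def_Sz
import Cfsg.Agent.Lib.Suzuki.Sylow

namespace CfsgLib.Suzuki

open Cfsg Matrix
open scoped Pointwise

local notation "SL4[" F "]" => Matrix.SpecialLinearGroup (Fin 4) F

variable {F : Type*} [Field F]

/-- The antidiagonal form as a matrix. -/
def formPres (g : Matrix (Fin 4) (Fin 4) F) : Prop := gᵀ * mW * g = mW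

theorem mW_eq_suzukiForm : (mW : Matrix (Fin 4) (Fin 4) F) = suzukiForm F := rfl

theorem altForm4_mW (u v : Fin 4 → F) : Lie.altForm4 u v = u ⬝ᵥ ((mW : Matrix (Fin 4) (Fin 4) F) *ᵥ v) := by
  simp [Lie.altForm4, mW, dotProduct, Matrix.mulVec, Fin.sum_univ_four]

theorem mem_Sp4_formPres (g : GL (Fin 4) F) :
    g ∈ Lie.Sp4 F ↔ formPres (g : Matrix (Fin 4) (Fin 4) F) := by
  have key : ∀ u v : Fin 4 → F,
      Lie.altForm4 ((g : Matrix (Fin 4) (Fin 4) F) *ᵥ u) ((g : Matrix (Fin 4) (Fin 4) F) *ᵥ v) =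
        u ⬝ᵥ (((g : Matrix (Fin 4) (Fin 4) F)ᵀ * mW * (g : Matrix (Fin 4) (Fin 4) F)) *ᵥ v) := by
    intro u v
    rw [altForm4_mW, ← Matrix.mulVec_mulVec, ← Matrix.mulVec_mulVec, Matrix.dotProduct_mulVec u,
      Matrix.vecMul_transpose]
  constructor
  · intro h
    unfold formPres
    ext i j
    have := h (Pi.single i 1) (Pi.single j 1)
    change Lie.altForm4 ((g : Matrix (Fin 4) (Fin 4) F) *ᵥ _) ((g : Matrix (Fin 4) (Fin 4) F) *ᵥ _) = _
      at this
    rw [key, altForm4_mW] at this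
    simpa using this
  · intro h u v
    show Lie.altForm4 ((g : Matrix (Fin 4) (Fin 4) F) *ᵥ u) ((g : Matrix (Fin 4) (Fin 4) F) *ᵥ v) = _
    rw [key, h, altForm4_mW]

theorem formPres_rows {g : Matrix (Fin 4) (Fin 4) F} (h : formPres g) : g * mW * gᵀ = mW := by
  have hJ : (mW : Matrix (Fin 4) (Fin 4) F) * mW = 1 := congrArg Subtype.val (wEl_mul_self (F := F))
  have h1 : (mW * gᵀ * mW) * g = 1 := by
    rw [Matrix.mul_assoc, Matrix.mul_assoc, ← Matrix.mul_assoc gᵀ, (h : gᵀ * mW * g = mW), hJ]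
  have h2 : g * (mW * gᵀ * mW) = 1 := mul_eq_one_comm.mp h1
  calc g * mW * gᵀ = g * (mW * gᵀ * mW) * mW := by
        simp only [Matrix.mul_assoc, hJ, Matrix.mul_one]
    _ = mW := by rw [h2, Matrix.one_mul]

theorem formPres_mul {g h : Matrix (Fin 4) (Fin 4) F} (hg : formPres g) (hh : formPres h) :
    formPres (g * h) := by
  unfold formPres
  rw [Matrix.transpose_mul]
  calc hᵀ * gᵀ * mW * (g * h) = hᵀ * (gᵀ * mW * g) * h := by simp only [Matrix.mul_assoc]
    _ = mW := by rw [(hg : gᵀ * mW * g = mW)]; exact hh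

variable [Fintype F] {m : ℕ} (hF : Fintype.card F = 2 ^ (2 * m + 1))
include hF

theorem formPres_mU (a b : F) : formPres (mU m a b) := by
  have h2 := two_eq_zero hF
  have hn : ∀ x : F, x + x = 0 := fun x => by linear_combination x * h2
  have h4 : (4 : F) = 0 := by linear_combination 2 * h2
  unfold formPres
  ext i j
  fin_cases i <;> fin_cases j <;>
    simp [mU, mW, fp, Matrix.mul_apply, Matrix.transpose_apply, Fin.sum_univ_four, Matrix.vecMul,
      dotProduct] <;> ring_nf <;> simp [h2, hn, h4]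

theorem formPres_mD (t : Fˣ) : formPres (mD m (t : F)) := by
  have h0 : (t : F) ≠ 0 := t.ne_zero
  have h1 : th m (t : F) ≠ 0 := fun h => h0 (th_eq_zero_iff.mp h)
  unfold formPres
  rw [mD, Matrix.diagonal_transpose]
  ext i j
  rw [Matrix.mul_diagonal, Matrix.diagonal_mul]
  fin_cases i <;> fin_cases j <;> simp [mW] <;> field_simp

theorem formPres_mW : formPres (mW : Matrix (Fin 4) (Fin 4) F) := by
  unfold formPres
  ext i j
  fin_cases i <;> fin_cases j <;>
    simp [mW, Matrix.mul_apply, Matrix.transpose_apply, Fin.sum_univ_four, Matrix.vecMul, dotProduct]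

theorem star4_mU (a b : F) : Lie.star4 (mU m a b) = (mU m a b).map (fun x => x ^ (2 ^ (m + 1))) := by
  have h2 := two_eq_zero hF
  have h3 : (3 : F) = 1 := by linear_combination h2
  show _ = (mU m a b).map (th m)
  ext p r
  fin_cases p <;> fin_cases r <;>
    simp [Lie.star4, Lie.pairOf, mU, fp, th_add hF, th_mul, th_pow, th_th hF, sub_eq hF, neg_eq hF] <;>
    (try ring_nf) <;> (try simp [h2, h3, neg_eq hF])

theorem star4_mD (t : Fˣ) :
    Lie.star4 (mD m (t : F)) = (mD m (t : F)).map (fun x => x ^ (2 ^ (m + 1))) := by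
  have h0 : (t : F) ≠ 0 := t.ne_zero
  have h1 : th m (t : F) ≠ 0 := fun h => h0 (th_eq_zero_iff.mp h)
  show _ = (mD m (t : F)).map (th m)
  ext p r
  fin_cases p <;> fin_cases r <;>
    simp [Lie.star4, Lie.pairOf, mD, th_mul, th_inv, th_th hF, Matrix.diagonal] <;> field_simp

theorem star4_mW :
    Lie.star4 (mW : Matrix (Fin 4) (Fin 4) F) = (mW : Matrix (Fin 4) (Fin 4) F).map (fun x => x ^ (2 ^ (m + 1))) := by
  show _ = (mW : Matrix (Fin 4) (Fin 4) F).map (th m)
  ext p r
  fin_cases p <;> fin_cases r <;>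
    simp [Lie.star4, Lie.pairOf, mW, neg_eq hF]

/-- The Plücker coordinates used in `g*`. -/
def pl (v u : Fin 4 → F) : Fin 4 → F := fun p =>
  v (Lie.pairOf p).1 * u (Lie.pairOf p).2 - v (Lie.pairOf p).2 * u (Lie.pairOf p).1

/-- Absolute points of the polarity. -/
def Absolute (m : ℕ) (v : Fin 4 → F) : Prop :=
  ∃ u : Fin 4 → F, Lie.altForm4 v u = 0 ∧ ∀ p, pl v u p = th m (v p)

theorem absolute_smul {v : Fin 4 → F} {c : F} (hc : c ≠ 0) (h : Absolute m v) :
    Absolute m (c • v) := by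
  obtain ⟨u, hB, hp⟩ := h
  refine ⟨(th m c / c) • u, ?_, fun p => ?_⟩
  · simp only [Lie.altForm4, Pi.smul_apply, smul_eq_mul] at hB ⊢
    linear_combination (c * (th m c / c)) * hB
  · have := hp p
    simp only [pl, Pi.smul_apply, smul_eq_mul, th_mul] at this ⊢
    rw [← this]
    field_simp

theorem absolute_inf : Absolute m (![1, 0, 0, 0] : Fin 4 → F) := by
  refine ⟨![0, 1, 0, 0], by simp [Lie.altForm4], fun p => ?_⟩
  fin_cases p <;> simp [pl, Lie.pairOf]

theorem absolute_pt (x y : F) : Absolute m ![fp m x y, y, x, 1] := by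
  have h2 := two_eq_zero hF
  refine ⟨![y + x * th m x, th m x, 1, 0], ?_, fun p => ?_⟩
  · simp [Lie.altForm4]
    linear_combination (y + x * th m x) * h2
  · fin_cases p <;> simp [pl, Lie.pairOf, fp, th_add hF, th_mul, th_pow, th_th hF, neg_eq hF, sub_eq hF]
    · linear_combination (x * y * th m x) * h2
    · linear_combination (x * y + x ^ 2 * th m x) * h2

theorem absolute_mem {v : Fin 4 → F} (hv : v ≠ 0) (h : Absolute m v) :
    Projectivization.mk F v hv ∈ suzukiOvoid F m := by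
  have h2 := two_eq_zero hF
  by_cases h3 : v 3 = 0
  · obtain ⟨u, hB, hp⟩ := h
    have p0 := hp 0
    have p1 := hp 1
    have p2 := hp 2
    have p3 := hp 3
    simp [pl, Lie.pairOf, h3] at p0 p1 p2 p3
    simp [Lie.altForm4, h3] at hB
    have hv2 : v 2 = 0 := by
      by_contra hne
      have hu3 : u 3 = 0 := p3.resolve_left hne
      rw [hu3, mul_zero] at p2
      exact hne (th_eq_zero_iff.mp p2.symm)
    have hv1 : v 1 = 0 := by
      by_contra hne
      rw [hv2, th_zero] at p2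
      have hu3 : u 3 = 0 := (mul_eq_zero.mp p2).resolve_left hne
      rw [hu3, mul_zero, hv2, zero_mul, zero_add, add_zero] at hB
      have hu2 : u 2 = 0 := (mul_eq_zero.mp hB).resolve_left hne
      rw [hu2, hv2, mul_zero, zero_mul, sub_zero] at p1
      exact hne (th_eq_zero_iff.mp p1.symm)
    have hv0 : v 0 ≠ 0 := by
      intro h0; apply hv; funext i; fin_cases i <;> assumption
    refine mem_ovoid_iff.mpr (Or.inl ((Projectivization.mk_eq_mk_iff' F _ _ _ _).mpr ⟨v 0, ?_⟩))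
    funext i
    fin_cases i <;> simp [hv1, hv2, h3]
  · have hw := absolute_smul hF (inv_ne_zero h3) h
    obtain ⟨u, hB, hp⟩ := hw
    set w := (v 3)⁻¹ • v with hwdef
    have w3 : w 3 = 1 := by simp [hwdef, h3]
    have p0 := hp 0
    have p1 := hp 1
    have p2 := hp 2
    have p3 := hp 3
    simp [pl, Lie.pairOf, w3, sub_eq hF] at p0 p1 p2 p3
    simp [Lie.altForm4, w3] at hB
    -- normalise `u` so that its last coordinate vanishes
    set e1 := u 1 + u 3 * w 1 with he1
    set e2 := u 2 + u 3 * w 2 with he2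
    set e0 := u 0 + u 3 * w 0 with he0
    have q2 : e1 = th m (w 2) := by rw [he1]; linear_combination p2
    have q3 : e2 = 1 := by rw [he2]; linear_combination p3
    have qB : e0 = w 1 * e2 + w 2 * e1 := by
      rw [he0, he1, he2]; linear_combination hB - (w 1 * u 2 + w 2 * u 1 + u 3 * w 1 * w 2) * h2
    have q0 : w 0 * e1 + w 1 * e0 = th m (w 0) := by
      rw [he1, he0]; linear_combination p0 + (u 3 * w 0 * w 1) * h2
    have q1 : w 0 * e2 + w 2 * e0 = th m (w 1) := by
      rw [he2, he0]; linear_combination p1 + (u 3 * w 0 * w 2) * h2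
    rw [q3, mul_one, qB, q3, mul_one, q2] at q1
    have hw0 : w 0 = fp m (w 2) (w 1) := by
      rw [fp]; linear_combination q1 - (w 2 * w 1 + th m (w 2) * w 2 ^ 2) * h2
    refine mem_ovoid_iff.mpr (Or.inr ⟨w 2, w 1,
      (Projectivization.mk_eq_mk_iff' F _ _ _ _).mpr ⟨v 3, ?_⟩⟩)
    funext i
    fin_cases i
    · show v 3 * fp m (w 2) (w 1) = v 0
      rw [← hw0, hwdef]; simp; field_simp
    · show v 3 * w 1 = v 1
      rw [hwdef]; simp; field_simp
    · show v 3 * w 2 = v 2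
      rw [hwdef]; simp; field_simp
    · show v 3 * 1 = v 3
      rw [mul_one]

theorem absolute_mulVec {g : Matrix (Fin 4) (Fin 4) F} (hg : formPres g)
    (hs : Lie.star4 g = g.map (fun x => x ^ (2 ^ (m + 1)))) {v : Fin 4 → F} (h : Absolute m v) :
    Absolute m (g *ᵥ v) := by
  have h2 := two_eq_zero hF
  obtain ⟨u, hB, hp⟩ := h
  refine ⟨g *ᵥ u, ?_, fun p => ?_⟩
  · rw [altForm4_mW, Matrix.mulVec_mulVec]
    calc g *ᵥ v ⬝ᵥ (mW * g) *ᵥ u = v ⬝ᵥ (gᵀ * mW * g) *ᵥ u := by
          simp only [← Matrix.mulVec_mulVec]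
          rw [Matrix.dotProduct_mulVec v, Matrix.vecMul_transpose]
      _ = 0 := by rw [(hg : gᵀ * mW * g = mW), ← altForm4_mW]; exact hB
  · have hthsum : th m ((g *ᵥ v) p) = ∑ j, th m (g p j) * th m (v j) := by
      simp only [Matrix.mulVec, dotProduct, Fin.sum_univ_four, th_add hF, th_mul]
    have hrow := congrFun (congrFun (formPres_rows hg) (Lie.pairOf p).1) (Lie.pairOf p).2
    have hs' : ∀ j, th m (g p j) = Lie.star4 g p j := fun j => by rw [hs]; rfl
    rw [hthsum, Fin.sum_univ_four]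
    simp only [hs', ← hp]
    simp only [Lie.altForm4] at hB
    have hz : (mW : Matrix (Fin 4) (Fin 4) F) (Lie.pairOf p).1 (Lie.pairOf p).2 = 0 := by
      fin_cases p <;> simp [mW, Lie.pairOf]
    rw [hz] at hrow
    simp [Matrix.mul_apply, Matrix.transpose_apply, Fin.sum_univ_four, mW, Matrix.vecMul, dotProduct]
      at hrow
    simp [pl, Lie.star4, Matrix.mulVec, dotProduct, Fin.sum_univ_four, Lie.pairOf, sub_eq hF]
    fin_cases p <;> simp [Lie.pairOf] at hrow ⊢
    · linear_combination (g 0 0 * g 1 3 + g 0 3 * g 1 0) * hB + (v 1 * u 2 + v 2 * u 1) * hrow +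
        (v 0 * u 0 * g 0 0 * g 1 0 + v 1 * u 1 * g 0 1 * g 1 1 + v 2 * u 2 * g 0 2 * g 1 2 +
          v 3 * u 3 * g 0 3 * g 1 3 - (g 0 0 * g 1 3 + g 0 3 * g 1 0) * (v 1 * u 2 + v 2 * u 1)) * h2
    · linear_combination (g 0 0 * g 2 3 + g 0 3 * g 2 0) * hB + (v 1 * u 2 + v 2 * u 1) * hrow +
        (v 0 * u 0 * g 0 0 * g 2 0 + v 1 * u 1 * g 0 1 * g 2 1 + v 2 * u 2 * g 0 2 * g 2 2 +
          v 3 * u 3 * g 0 3 * g 2 3 - (g 0 0 * g 2 3 + g 0 3 * g 2 0) * (v 1 * u 2 + v 2 * u 1)) * h2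
    · linear_combination (g 1 0 * g 3 3 + g 1 3 * g 3 0) * hB + (v 1 * u 2 + v 2 * u 1) * hrow +
        (v 0 * u 0 * g 1 0 * g 3 0 + v 1 * u 1 * g 1 1 * g 3 1 + v 2 * u 2 * g 1 2 * g 3 2 +
          v 3 * u 3 * g 1 3 * g 3 3 - (g 1 0 * g 3 3 + g 1 3 * g 3 0) * (v 1 * u 2 + v 2 * u 1)) * h2
    · linear_combination (g 2 0 * g 3 3 + g 2 3 * g 3 0) * hB + (v 1 * u 2 + v 2 * u 1) * hrow +
        (v 0 * u 0 * g 2 0 * g 3 0 + v 1 * u 1 * g 2 1 * g 3 1 + v 2 * u 2 * g 2 2 * g 3 2 +
          v 3 * u 3 * g 2 3 * g 3 3 - (g 2 0 * g 3 3 + g 2 3 * g 3 0) * (v 1 * u 2 + v 2 * u 1)) * h2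

theorem absolute_of_mem {v : Fin 4 → F} (hv : v ≠ 0)
    (h : Projectivization.mk F v hv ∈ suzukiOvoid F m) : Absolute m v := by
  rcases mem_ovoid_iff.mp h with h' | ⟨x, y, h'⟩
  · obtain ⟨c, hc⟩ := (Projectivization.mk_eq_mk_iff' F _ _ _ _).mp h'
    rw [← hc]
    exact absolute_smul hF (fun h0 => hv (by rw [← hc, h0, zero_smul])) (absolute_inf hF)
  · obtain ⟨c, hc⟩ := (Projectivization.mk_eq_mk_iff' F _ _ _ _).mp h'
    rw [← hc]
    exact absolute_smul hF (fun h0 => hv (by rw [← hc, h0, zero_smul])) (absolute_pt hF x y)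

theorem formPres_of_mem (hm : 1 ≤ m) {g : SL4[F]} (hg : g ∈ Cfsg.Sz F m) :
    formPres (g : Matrix (Fin 4) (Fin 4) F) := by
  rcases exists_closure_form hF hm ⟨g, hg⟩ with ⟨a, b, t, h⟩ | ⟨a, b, c, d, t, h⟩
  · have h' : g = uEl m a b * dEl m t := congrArg Subtype.val h
    rw [h', Matrix.SpecialLinearGroup.coe_mul]
    exact formPres_mul (formPres_mU hF a b) (formPres_mD hF t)
  · have h' : g = uEl m a b * wEl * (uEl m c d * dEl m t) := congrArg Subtype.val h
    simp only [h', Matrix.SpecialLinearGroup.coe_mul]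
    exact formPres_mul (formPres_mul (formPres_mU hF a b) (formPres_mW hF))
      (formPres_mul (formPres_mU hF c d) (formPres_mD hF t))

/-- The two definitions of the Suzuki group agree. -/
theorem map_toGL_eq (hm : 1 ≤ m) :
    (Cfsg.Sz F m).map Matrix.SpecialLinearGroup.toGL = Lie.Sz F (2 ^ (m + 1)) := by
  apply le_antisymm
  · rintro _ ⟨g, hg, rfl⟩
    have hU : ∀ a b : F, Matrix.SpecialLinearGroup.toGL (uEl m a b : SL4[F]) ∈ Lie.Sz F (2 ^ (m + 1)) :=
      fun a b => Subgroup.subset_closure ⟨(mem_Sp4_formPres _).mpr (formPres_mU hF a b), star4_mU hF a b⟩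
    have hD : ∀ t : Fˣ, Matrix.SpecialLinearGroup.toGL (dEl m t : SL4[F]) ∈ Lie.Sz F (2 ^ (m + 1)) :=
      fun t => Subgroup.subset_closure ⟨(mem_Sp4_formPres _).mpr (formPres_mD hF t), star4_mD hF t⟩
    have hW : Matrix.SpecialLinearGroup.toGL (wEl : SL4[F]) ∈ Lie.Sz F (2 ^ (m + 1)) :=
      Subgroup.subset_closure ⟨(mem_Sp4_formPres _).mpr (formPres_mW hF), star4_mW hF⟩
    rcases exists_closure_form hF hm ⟨g, hg⟩ with ⟨a, b, t, h⟩ | ⟨a, b, c, d, t, h⟩
    · have h' : g = uEl m a b * dEl m t := congrArg Subtype.val h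
      rw [h', map_mul]
      exact mul_mem (hU a b) (hD t)
    · have h' : g = uEl m a b * wEl * (uEl m c d * dEl m t) := congrArg Subtype.val h
      simp only [h', map_mul]
      exact mul_mem (mul_mem (hU a b) hW) (mul_mem (hU c d) (hD t))
  · rw [Lie.Sz, Subgroup.closure_le]
    rintro g ⟨hSp, hs⟩
    haveI := charTwo hF
    have hg := (mem_Sp4_formPres g).mp hSp
    set G := (g : Matrix (Fin 4) (Fin 4) F) with hG
    have hdet : G.det ≠ 0 := (Matrix.GeneralLinearGroup.det g).ne_zero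
    have hsurj : Function.Surjective (fun x : F => x ^ 2) :=
      Finite.injective_iff_surjective.mp CharTwo.sq_injective
    obtain ⟨r, hr⟩ := hsurj (G.det)⁻¹
    obtain ⟨k, hk⟩ := hsurj r
    simp only at hr hk
    have hk4 : k ^ 4 = (G.det)⁻¹ := by rw [← hr, ← hk]; ring
    have hk0 : k ≠ 0 := by
      intro h0; rw [h0, zero_pow (by norm_num)] at hk4; exact inv_ne_zero hdet hk4.symm
    have hdet1 : (k • G).det = 1 := by
      rw [Matrix.det_smul, Fintype.card_fin, hk4, inv_mul_cancel₀ hdet]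
    set h : SL4[F] := ⟨k • G, hdet1⟩ with hdef
    have hmem : h ∈ Cfsg.Sz F m := by
      refine mem_of_forall fun p hp => ?_
      induction p using Projectivization.ind with
      | h v hv =>
        have hne : (k • G) *ᵥ v ≠ 0 := by
          intro h0
          apply hv
          have h1 : (h⁻¹ * h : SL4[F]).1 *ᵥ v = 0 := by
            rw [Matrix.SpecialLinearGroup.coe_mul, ← Matrix.mulVec_mulVec]
            show _ *ᵥ ((k • G) *ᵥ v) = 0
            rw [h0, Matrix.mulVec_zero]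
          simpa using h1
        show Projectivization.mk F ((k • G) *ᵥ v) hne ∈ suzukiOvoid F m
        refine absolute_mem hF hne ?_
        rw [Matrix.smul_mulVec]
        exact absolute_smul hF hk0 (absolute_mulVec hF hg hs (absolute_of_mem hF hv hp))
    have hf : (k • G)ᵀ * mW * (k • G) = mW := formPres_of_mem hF hm hmem
    rw [Matrix.transpose_smul, Matrix.smul_mul, Matrix.smul_mul, Matrix.mul_smul, smul_smul,
      (hg : Gᵀ * mW * G = mW)] at hf
    have hkk : k * k = 1 := by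
      have := congrFun (congrFun hf 0) 3
      simpa [mW] using this
    have hk1 : k = 1 := CharTwo.sq_injective (show k ^ 2 = (1 : F) ^ 2 by rw [one_pow, sq]; exact hkk)
    refine ⟨h, hmem, Units.ext ?_⟩
    show k • G = G
    rw [hk1, one_smul]

/-- The isomorphism between the two models. -/
noncomputable def lieEquiv (hm : 1 ≤ m) : ↥(Cfsg.Sz F m) ≃* ↥(Lie.Sz F (2 ^ (m + 1))) :=
  ((Cfsg.Sz F m).equivMapOfInjective _ Matrix.SpecialLinearGroup.toGL_injective).trans
    (MulEquiv.subgroupCongr (map_toGL_eq hF hm))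

end CfsgLib.Suzuki
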