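/-
Fixed points and conjugation of unipotent elements of the Suzuki group.
-/
import Mathlib
import Cfsg.Prelude.Def_LieExceptional
import Cfsg.Agent.Lib.Suzuki.Sylow

namespace CfsgLib.Suzuki

open Cfsg Matrix
open scoped Pointwise

variable {F : Type*} [Field F] [Fintype F] {m : ℕ} (hF : Fintype.card F = 2 ^ (2 * m + 1))
include hF

theorem eq_one_iff_uS {a b : F} : uS hF a b = 1 ↔ a = 0 ∧ b = 0 := by
  constructor
  · intro h
    exact uS_inj hF (h.trans (uS_zero hF).symm)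
  · rintro ⟨rfl, rfl⟩
    exact uS_zero hF

theorem fix_unique {g : ↥(Cfsg.Sz F m)} (hg : g ∈ U hF) (h1 : g ≠ 1)
    {p : Projectivization F (Fin 4 → F)} (hp : p ∈ suzukiOvoid F m) (hfix : g • p = p) :
    p = suzukiPointInfinity F := by
  obtain ⟨a, b, rfl⟩ := hg
  rcases mem_ovoid_iff.mp hp with h | ⟨x, y, rfl⟩
  · exact h
  · exfalso
    have h2 : (uEl m a b : Matrix.SpecialLinearGroup (Fin 4) F) • pt m x y = pt m x y := hfix
    rw [uEl_smul_pt hF] at h2
    obtain ⟨e1, e2⟩ := pt_injective h2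
    have ha : a = 0 := add_eq_left.mp e1
    rw [ha, th_zero, zero_mul, add_zero] at e2
    exact h1 ((eq_one_iff_uS hF).mpr ⟨ha, add_eq_left.mp e2⟩)

/-- A conjugator between non-trivial elements of the root group fixes infinity. -/
theorem conj_fix_inf {g x : ↥(Cfsg.Sz F m)} (hg : g ∈ U hF) (h1 : g ≠ 1)
    (hx : x * g * x⁻¹ ∈ U hF) : x • suzukiPointInfinity F = suzukiPointInfinity F := by
  refine fix_unique hF hx (fun h => h1 ?_)
    (smul_mem_ovoid x.2 inf_mem : x • suzukiPointInfinity F ∈ suzukiOvoid F m) ?_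
  · simpa [mul_assoc] using congrArg (fun y => x⁻¹ * y * x) h
  · obtain ⟨a, b, rfl⟩ := hg
    rw [mul_smul, mul_smul, inv_smul_smul, smul_uS_inf]

theorem uS_conj_uS (r s a b : F) :
    uS hF r s * uS hF a b * (uS hF r s)⁻¹ = uS hF a (b + (th m r * a + th m a * r)) := by
  have h := uS_commutator hF r s a b
  rw [mul_inv_eq_iff_eq_mul] at h
  rw [h, uS_mul, th_zero, zero_mul, add_zero, zero_add, add_comm b]

theorem conj_uS (r s : F) (t : Fˣ) (a b : F) :
    uS hF r s * dS hF t * uS hF a b * (uS hF r s * dS hF t)⁻¹ =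
      uS hF (th m (t : F) * a) (th m (t : F) * (t : F) ^ 2 * b +
        (th m r * (th m (t : F) * a) + th m (th m (t : F) * a) * r)) := by
  calc _ = uS hF r s * (dS hF t * uS hF a b * (dS hF t)⁻¹) * (uS hF r s)⁻¹ := by group
    _ = _ := by rw [dS_uS, uS_conj_uS]

theorem conj_uS_zero (r s : F) (t : Fˣ) (b : F) :
    uS hF r s * dS hF t * uS hF 0 b * (uS hF r s * dS hF t)⁻¹ =
      uS hF 0 (th m (t : F) * (t : F) ^ 2 * b) := by
  rw [conj_uS]
  simp

theorem uS_sq (a b : F) : uS hF a b * uS hF a b = uS hF 0 (th m a * a) := by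
  have h2 := two_eq_zero hF
  rw [uS_mul]
  congr 1
  · linear_combination a * h2
  · linear_combination b * h2

theorem mem_Z_of_sq {g : ↥(Cfsg.Sz F m)} (hg : g ∈ U hF) (h : g * g = 1) : g ∈ Z hF := by
  obtain ⟨a, b, rfl⟩ := hg
  rw [uS_sq, eq_one_iff_uS] at h
  have ha : a = 0 := by
    rcases mul_eq_zero.mp h.2 with h' | h'
    · exact th_eq_zero_iff.mp h'
    · exact h'
  subst ha
  exact ⟨b, rfl⟩

theorem exists_conj_le_U (hm : 1 ≤ m) {E : Subgroup ↥(Cfsg.Sz F m)} (hE : IsPGroup 2 E) :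
    ∃ g : ↥(Cfsg.Sz F m), E.map (MulAut.conj g).toMonoidHom ≤ U hF := by
  obtain ⟨P, hP⟩ := hE.exists_le_sylow
  obtain ⟨g, hg⟩ := exists_conj_eq hF hm P
  refine ⟨g⁻¹, ?_⟩
  rintro _ ⟨e, he, rfl⟩
  have h := hP he
  rw [hg] at h
  obtain ⟨u, hu, rfl⟩ := h
  simpa [mul_assoc] using hu

end CfsgLib.Suzuki
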