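/-
Elements with fixed points: the split torus, centralisers, counting conjugates of TI subgroups.
-/
import Mathlib
import Cfsg.Prelude.Def_LieExceptional
import Cfsg.Agent.Lib.Suzuki.Fixed

namespace CfsgLib.Suzuki

open Cfsg Matrix
open scoped Pointwise

section General

variable {G : Type*} [Group G]

/-- The non-trivial elements conjugate into `H`. -/
def conjSet (H : Subgroup G) : Set G := {z | z ≠ 1 ∧ ∃ g : G, g⁻¹ * z * g ∈ H}

theorem card_conjSet [Finite G] (H : Subgroup G)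
    (hTI : ∀ h ∈ H, h ≠ 1 → ∀ x : G, x * h * x⁻¹ ∈ H → x ∈ Subgroup.normalizer (H : Set G)) :
    Nat.card (conjSet H) * Nat.card (Subgroup.normalizer (H : Set G)) =
      Nat.card G * (Nat.card H - 1) := by
  classical
  haveI : Fintype G := Fintype.ofFinite G
  set N := Subgroup.normalizer (H : Set G)
  let f : G × {h : H // h ≠ 1} → conjSet H := fun p =>
    ⟨p.1 * (p.2.1 : G) * p.1⁻¹, fun h => p.2.2 (Subtype.ext (by
        have h' := congrArg (fun y => p.1⁻¹ * y * p.1) h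
        simpa [mul_assoc] using h')), p.1, by
      have e : p.1⁻¹ * (p.1 * (p.2.1 : G) * p.1⁻¹) * p.1 = (p.2.1 : G) := by group
      rw [e]; exact p.2.1.2⟩
  have hfib : ∀ z : conjSet H, Nat.card {p // f p = z} = Nat.card N := by
    rintro ⟨z, hz1, g0, hg0⟩
    have hy0 : g0⁻¹ * z * g0 ≠ 1 := fun h => hz1 (by
      have h' := congrArg (fun y => g0 * y * g0⁻¹) h
      simpa [mul_assoc] using h')
    have hmem : ∀ n : N, (n : G)⁻¹ * (g0⁻¹ * z * g0) * n ∈ H := fun n =>
      (Subgroup.mem_normalizer_iff''.mp n.2 _).mp hg0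
    refine (Nat.card_congr (Equiv.ofBijective (fun n : N =>
      (⟨(g0 * n, ⟨⟨(n : G)⁻¹ * (g0⁻¹ * z * g0) * n, hmem n⟩, fun h => hy0 ?_⟩), ?_⟩ :
        {p // f p = ⟨z, hz1, g0, hg0⟩})) ⟨?_, ?_⟩)).symm
    · have h' := congrArg (fun y => (n : G) * y * (n : G)⁻¹) (congrArg Subtype.val h)
      simpa [mul_assoc] using h'
    · apply Subtype.ext
      show g0 * (n : G) * ((n : G)⁻¹ * (g0⁻¹ * z * g0) * n) * (g0 * (n : G))⁻¹ = z
      group
    · intro a b h
      exact Subtype.ext (mul_left_cancel (congrArg (fun p => p.1.1) h))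
    · rintro ⟨⟨g, ⟨⟨y, hy⟩, hy1⟩⟩, hp⟩
      have hp' : g * y * g⁻¹ = z := congrArg Subtype.val hp
      have hy1' : y ≠ 1 := fun h => hy1 (Subtype.ext h)
      have hn : g0⁻¹ * g ∈ N := by
        refine hTI y hy hy1' _ ?_
        have e : g0⁻¹ * g * y * (g0⁻¹ * g)⁻¹ = g0⁻¹ * (g * y * g⁻¹) * g0 := by group
        rw [e, hp']
        exact hg0
      refine ⟨⟨g0⁻¹ * g, hn⟩, Subtype.ext (Prod.ext ?_ (Subtype.ext (Subtype.ext ?_)))⟩
      · show g0 * (g0⁻¹ * g) = g
        group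
      · show (g0⁻¹ * g)⁻¹ * (g0⁻¹ * z * g0) * (g0⁻¹ * g) = y
        rw [← hp']; group
  have h1 : Nat.card (G × {h : H // h ≠ 1}) = Nat.card (conjSet H) * Nat.card N := by
    rw [← Nat.card_congr (Equiv.sigmaFiberEquiv f), Nat.card_sigma,
      Finset.sum_congr rfl (fun z _ => hfib z), Finset.sum_const, Finset.card_univ, smul_eq_mul,
      ← Nat.card_eq_fintype_card]
  rw [← h1, Nat.card_prod]
  congr 1
  rw [Nat.card_eq_fintype_card, Nat.card_eq_fintype_card, Fintype.card_subtype_compl,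
    Fintype.card_subtype_eq]

end General

variable {F : Type*} [Field F] [Fintype F] {m : ℕ} (hF : Fintype.card F = 2 ^ (2 * m + 1))
include hF

/-- The torus as a homomorphism. -/
def dHomS : Fˣ →* ↥(Cfsg.Sz F m) where
  toFun := dS hF
  map_one' := dS_one hF
  map_mul' t s := (dS_mul hF t s).symm

/-- The split torus. -/
def T : Subgroup ↥(Cfsg.Sz F m) := (dHomS hF).range

theorem mem_T {g : ↥(Cfsg.Sz F m)} : g ∈ T hF ↔ ∃ t, g = dS hF t := by
  constructor
  · rintro ⟨t, rfl⟩; exact ⟨t, rfl⟩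
  · rintro ⟨t, rfl⟩; exact ⟨t, rfl⟩

theorem card_T : Nat.card (T hF) = 2 ^ (2 * m + 1) - 1 := by
  rw [T, ← Nat.card_congr (MonoidHom.ofInjective (f := dHomS hF) (fun a b h => dS_inj hF h)).toEquiv,
    Nat.card_units, Nat.card_eq_fintype_card, hF]

theorem isCyclic_T : IsCyclic (T hF) :=
  isCyclic_of_surjective (dHomS hF).rangeRestrict (dHomS hF).rangeRestrict_surjective

theorem fix_torus (hm : 1 ≤ m) {t : Fˣ} (ht : t ≠ 1) {p : Projectivization F (Fin 4 → F)}
    (hp : p ∈ suzukiOvoid F m) (h : dS hF t • p = p) :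
    p = suzukiPointInfinity F ∨ p = suzukiPointZero F := by
  by_contra hne
  push Not at hne
  refine ht (dS_inj hF ?_)
  rw [dS_one]
  refine eq_one_of_fix_three hF hm hp inf_mem (pt_mem 0 0) hne.1 (pt_ne_inf _ _).symm ?_ h
    (smul_dS_inf hF t) ?_
  · rw [pt_zero]; exact hne.2
  · rw [pt_zero]; exact smul_dS_zero hF t

/-- A conjugator between non-trivial torus elements. -/
theorem conj_torus (hm : 1 ≤ m) {t s : Fˣ} (ht : t ≠ 1) {x : ↥(Cfsg.Sz F m)}
    (hx : x * dS hF t * x⁻¹ = dS hF s) :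
    (∃ r, x = dS hF r ∧ s = t) ∨ (∃ r, x = wS hF * dS hF r ∧ s = t⁻¹) := by
  have hfix : ∀ p : Projectivization F (Fin 4 → F), dS hF t • p = p → dS hF s • (x • p) = x • p := by
    intro p hp
    rw [← hx, mul_smul, mul_smul, inv_smul_smul, hp]
  have hs : s ≠ 1 := by
    intro h
    rw [h, dS_one, mul_inv_eq_one] at hx
    exact ht (dS_inj hF ((mul_eq_left.mp hx).trans (dS_one hF).symm))
  have h1 := fix_torus hF hm hs (smul_mem_ovoid x.2 inf_mem) (hfix _ (smul_dS_inf hF t))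
  have h2 := fix_torus hF hm hs (smul_mem_ovoid x.2 (pt_zero (F := F) (m := m) ▸ pt_mem 0 0))
    (hfix _ (smul_dS_zero hF t))
  have hne : x • suzukiPointInfinity F ≠ x • suzukiPointZero F := fun h => by
    have := MulAction.injective x h
    rw [← pt_zero (m := m)] at this
    exact pt_ne_inf _ _ this.symm
  rcases h1 with h1 | h1
  · have h2' : x • suzukiPointZero F = suzukiPointZero F :=
      h2.resolve_left (fun h => hne (h1.trans h.symm))
    obtain ⟨r, rfl⟩ := two_point hF hm h1 h2'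
    refine Or.inl ⟨r, rfl, dS_inj hF ?_⟩
    rw [← hx, dS_inv, dS_mul, dS_mul, mul_comm r t, mul_inv_cancel_right]
  · have h2' : x • suzukiPointZero F = suzukiPointInfinity F :=
      h2.resolve_right (fun h => hne (h1.trans h.symm))
    obtain ⟨r, hr⟩ := two_point hF hm (g := wS hF * x)
      (by rw [mul_smul]; exact (congrArg (wS hF • ·) h1).trans (smul_wS_zero hF))
      (by rw [mul_smul]; exact (congrArg (wS hF • ·) h2').trans (smul_wS_inf hF))
    obtain rfl : x = wS hF * dS hF r := by rw [← hr, ← mul_assoc, wS_mul_self, one_mul]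
    refine Or.inr ⟨r, rfl, dS_inj hF ?_⟩
    rw [← hx, _root_.mul_inv_rev, wS_inv, dS_inv, mul_assoc (wS hF), dS_mul, ← mul_assoc,
      mul_assoc (wS hF) (dS hF (r * t)), dS_mul, mul_comm r t, mul_inv_cancel_right, wS_dS]

theorem inv_ne_self {t : Fˣ} (ht : t ≠ 1) : t⁻¹ ≠ t := by
  intro h
  haveI := charTwo hF
  refine ht (Units.ext (CharTwo.sq_injective ?_))
  show (t : F) ^ 2 = ((1 : Fˣ) : F) ^ 2
  rw [Units.val_one, one_pow, sq]
  calc (t : F) * t = ((t⁻¹ : Fˣ) : F) * t := by rw [h]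
    _ = 1 := Units.inv_mul t

theorem centralizer_torus (hm : 1 ≤ m) {t : Fˣ} (ht : t ≠ 1) :
    Subgroup.centralizer ({dS hF t} : Set ↥(Cfsg.Sz F m)) = T hF := by
  ext x
  rw [Subgroup.mem_centralizer_singleton_iff, mem_T]
  constructor
  · intro h
    have hx : x * dS hF t * x⁻¹ = dS hF t := by
      rw [mul_inv_eq_iff_eq_mul]
      first | exact h | exact h.symm
    rcases conj_torus hF hm ht hx with ⟨r, rfl, -⟩ | ⟨r, -, h'⟩
    · exact ⟨r, rfl⟩
    · exact absurd h'.symm (inv_ne_self hF ht)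
  · rintro ⟨r, rfl⟩
    rw [dS_mul, dS_mul, mul_comm]

theorem centralizer_unipotent (hm : 1 ≤ m) {u : ↥(Cfsg.Sz F m)} (hu : u ∈ U hF) (h1 : u ≠ 1) :
    Subgroup.centralizer ({u} : Set ↥(Cfsg.Sz F m)) ≤ U hF := by
  intro x hx
  rw [Subgroup.mem_centralizer_singleton_iff] at hx
  have hx' : x * u * x⁻¹ = u := by
    rw [mul_inv_eq_iff_eq_mul]
    first | exact hx | exact hx.symm
  obtain ⟨r, s, t, rfl⟩ := (mem_stabInf_iff hF hm).mp (conj_fix_inf hF hu h1 (by rw [hx']; exact hu))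
  obtain ⟨a, b, rfl⟩ := hu
  rw [conj_uS] at hx'
  obtain ⟨e1, e2⟩ := uS_inj hF hx'
  have ht : t = 1 := by
    apply Units.ext
    by_cases ha : a = 0
    · subst ha
      have hb : b ≠ 0 := fun h => h1 (by rw [h, uS_zero])
      simp only [mul_zero, th_zero, zero_mul, add_zero] at e2
      exact eq_one_of_th_sq hF ((mul_eq_right₀ hb).mp e2)
    · exact th_injective hF (((mul_eq_right₀ ha).mp e1).trans th_one.symm)
  rw [ht, dS_one, mul_one]
  exact ⟨r, s, rfl⟩

theorem TI_T (hm : 1 ≤ m) : ∀ h ∈ T hF, h ≠ 1 → ∀ x : ↥(Cfsg.Sz F m), x * h * x⁻¹ ∈ T hF →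
    x ∈ Subgroup.normalizer (T hF : Set ↥(Cfsg.Sz F m)) := by
  intro h hh h1 x hx
  obtain ⟨t, rfl⟩ := (mem_T hF).mp hh
  obtain ⟨s, hs⟩ := (mem_T hF).mp hx
  have ht : t ≠ 1 := fun e => h1 (by rw [e, dS_one])
  have hd : ∀ r, dS hF r ∈ Subgroup.normalizer (T hF : Set ↥(Cfsg.Sz F m)) := fun r =>
    Subgroup.le_normalizer ((mem_T hF).mpr ⟨r, rfl⟩)
  rcases conj_torus hF hm ht hs with ⟨r, rfl, -⟩ | ⟨r, rfl, -⟩
  · exact hd r
  · refine mul_mem ?_ (hd r)
    rw [Subgroup.mem_normalizer_iff]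
    intro y
    constructor
    · intro hy
      obtain ⟨a, rfl⟩ := (mem_T hF).mp hy
      exact (mem_T hF).mpr ⟨a⁻¹, by rw [wS_inv, wS_dS]⟩
    · intro hy
      obtain ⟨a, ha⟩ := (mem_T hF).mp hy
      refine (mem_T hF).mpr ⟨a⁻¹, ?_⟩
      rw [← wS_dS hF a, ← ha, wS_inv]
      simp only [mul_assoc, wS_mul_self, mul_one]
      rw [← mul_assoc, wS_mul_self, one_mul]

theorem card_normalizer_T (hm : 1 ≤ m) :
    Nat.card (Subgroup.normalizer (T hF : Set ↥(Cfsg.Sz F m))) = 2 * (2 ^ (2 * m + 1) - 1) := by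
  obtain ⟨t0, ht0, ht1⟩ := exists_not_zero_one hF hm
  set t := Units.mk0 t0 ht0
  have ht : t ≠ 1 := fun h => ht1 (congrArg Units.val h)
  have hmem : ∀ x, x ∈ Subgroup.normalizer (T hF : Set ↥(Cfsg.Sz F m)) ↔
      ∃ r, x = dS hF r ∨ x = wS hF * dS hF r := by
    intro x
    constructor
    · intro hx
      obtain ⟨s, hs⟩ := (mem_T hF).mp ((Subgroup.mem_normalizer_iff.mp hx _).mp ((mem_T hF).mpr ⟨t, rfl⟩))
      rcases conj_torus hF hm ht hs with ⟨r, h, -⟩ | ⟨r, h, -⟩
      · exact ⟨r, Or.inl h⟩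
      · exact ⟨r, Or.inr h⟩
    · rintro ⟨r, rfl | rfl⟩
      · exact Subgroup.le_normalizer ((mem_T hF).mpr ⟨r, rfl⟩)
      · refine TI_T hF hm (dS hF t) ((mem_T hF).mpr ⟨t, rfl⟩)
          (fun h => ht (dS_inj hF (h.trans (dS_one hF).symm))) _ ((mem_T hF).mpr ⟨t⁻¹, ?_⟩)
        rw [_root_.mul_inv_rev, wS_inv, dS_inv, mul_assoc (wS hF), dS_mul, ← mul_assoc,
          mul_assoc (wS hF) (dS hF (r * t)), dS_mul, mul_comm r t, mul_inv_cancel_right, wS_dS]
  let f : Fˣ ⊕ Fˣ → ↥(Subgroup.normalizer (T hF : Set ↥(Cfsg.Sz F m))) :=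
    Sum.elim (fun r => ⟨dS hF r, (hmem _).mpr ⟨r, Or.inl rfl⟩⟩)
      (fun r => ⟨wS hF * dS hF r, (hmem _).mpr ⟨r, Or.inr rfl⟩⟩)
  have hne : ∀ r s, dS hF r ≠ wS hF * dS hF s := fun r s h => by
    have h' := congrArg (fun g : ↥(Cfsg.Sz F m) => g • suzukiPointInfinity F) h
    simp only [mul_smul, smul_dS_inf, smul_wS_inf] at h'
    rw [← pt_zero (m := m)] at h'
    exact pt_ne_inf _ _ h'.symm
  have hf : Function.Bijective f := by
    constructor
    · rintro (r | r) (s | s) h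
      · exact congrArg Sum.inl (dS_inj hF (congrArg Subtype.val h))
      · exact absurd (congrArg Subtype.val h) (hne r s)
      · exact absurd (congrArg Subtype.val h).symm (hne s r)
      · exact congrArg Sum.inr (dS_inj hF (mul_left_cancel (congrArg Subtype.val h)))
    · rintro ⟨x, hx⟩
      obtain ⟨r, rfl | rfl⟩ := (hmem x).mp hx
      · exact ⟨Sum.inl r, rfl⟩
      · exact ⟨Sum.inr r, rfl⟩
  rw [← Nat.card_congr (Equiv.ofBijective f hf), Nat.card_sum, Nat.card_units,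
    Nat.card_eq_fintype_card (α := F), hF]
  omega

/-- An element fixes no point of the ovoid. -/
def FPF (g : ↥(Cfsg.Sz F m)) : Prop := ∀ p ∈ suzukiOvoid F m, g • p ≠ p

theorem classify_point (hm : 1 ≤ m) {g : ↥(Cfsg.Sz F m)} (h1 : g ≠ 1)
    {p : Projectivization F (Fin 4 → F)} (hp : p ∈ suzukiOvoid F m) (hfix : g • p = p) :
    g ∈ conjSet (U hF) ∨ g ∈ conjSet (T hF) := by
  obtain ⟨k, hk⟩ := exists_to_inf hF hp
  have hfix' : (k * g * k⁻¹) • suzukiPointInfinity F = suzukiPointInfinity F := by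
    rw [← hk, mul_smul, mul_smul, inv_smul_smul, hfix]
  obtain ⟨a, b, t, ht⟩ := (mem_stabInf_iff hF hm).mp hfix'
  by_cases ht1 : t = 1
  · left
    rw [ht1, dS_one, mul_one] at ht
    exact ⟨h1, k⁻¹, by rw [inv_inv]; exact ⟨a, b, ht⟩⟩
  · right
    -- conjugate `uS a b * dS t` to `dS t` inside the root group
    have hT : 1 + th m (t : F) ≠ 0 := by
      rw [← sub_eq hF, sub_ne_zero, ← th_one (F := F) (m := m)]
      exact fun h => ht1 (Units.ext (th_injective hF h).symm)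
    have hL : 1 + th m (t : F) * (t : F) ^ 2 ≠ 0 := by
      rw [← sub_eq hF, sub_ne_zero]
      exact fun h => ht1 (Units.ext (eq_one_of_th_sq hF h.symm))
    have key : ∀ c d : F, uS hF c d * dS hF t * (uS hF c d)⁻¹ =
        uS hF (c + th m (t : F) * c)
          (d + th m (t : F) * (t : F) ^ 2 * (d + th m c * c) + th m c * (th m (t : F) * c)) *
          dS hF t := by
      intro c d
      rw [uS_inv, mul_assoc, dS_mul_uS, ← mul_assoc, uS_mul]
    set c := a / (1 + th m (t : F))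
    set d := (b - th m (t : F) * (t : F) ^ 2 * (th m c * c) - th m c * (th m (t : F) * c)) /
      (1 + th m (t : F) * (t : F) ^ 2) with hd
    have e : uS hF c d * dS hF t * (uS hF c d)⁻¹ = k * g * k⁻¹ := by
      rw [key, ht]
      congr 2
      · rw [show c + th m (t : F) * c = (1 + th m (t : F)) * c by ring, mul_div_cancel₀ _ hT]
      · have hd' : d * (1 + th m (t : F) * (t : F) ^ 2) =
            b - th m (t : F) * (t : F) ^ 2 * (th m c * c) - th m c * (th m (t : F) * c) := by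
          rw [hd, div_mul_cancel₀ _ hL]
        linear_combination hd'
    refine ⟨h1, k⁻¹ * uS hF c d, (mem_T hF).mpr ⟨t, ?_⟩⟩
    calc (k⁻¹ * uS hF c d)⁻¹ * g * (k⁻¹ * uS hF c d)
        = (uS hF c d)⁻¹ * (k * g * k⁻¹) * uS hF c d := by group
      _ = dS hF t := by rw [← e]; group

theorem fix_of_conjSet {g : ↥(Cfsg.Sz F m)} (h : g ∈ conjSet (U hF) ∨ g ∈ conjSet (T hF)) :
    ∃ p ∈ suzukiOvoid F m, g • p = p := by
  have : ∃ k : ↥(Cfsg.Sz F m), (k⁻¹ * g * k) • suzukiPointInfinity F = suzukiPointInfinity F := by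
    rcases h with ⟨-, k, a, b, hk⟩ | ⟨-, k, hk⟩
    · exact ⟨k, by rw [hk]; exact smul_uS_inf hF a b⟩
    · obtain ⟨t, ht⟩ := (mem_T hF).mp hk
      exact ⟨k, by rw [ht]; exact smul_dS_inf hF t⟩
  obtain ⟨k, hk⟩ := this
  refine ⟨k • suzukiPointInfinity F, smul_mem_ovoid k.2 inf_mem, ?_⟩
  rw [mul_smul, mul_smul, inv_smul_eq_iff] at hk
  exact hk

/-- Non-trivial powers of a fixed point free element are fixed point free. -/
theorem fpf_pow (hm : 1 ≤ m) {x : ↥(Cfsg.Sz F m)} (hx : FPF x) {y : ↥(Cfsg.Sz F m)}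
    (hy : y ≠ 1) (hc : Commute x y) : FPF y := by
  intro p hp hfix
  rcases classify_point hF hm hy hp hfix with ⟨-, k, hk⟩ | ⟨-, k, hk⟩
  · have hne : k⁻¹ * y * k ≠ 1 := fun h => hy (by
      have h' := congrArg (fun z => k * z * k⁻¹) h
      simpa [mul_assoc] using h')
    have hmem : k⁻¹ * x * k ∈ U hF := by
      refine centralizer_unipotent hF hm hk hne ?_
      rw [Subgroup.mem_centralizer_singleton_iff]
      calc _ = k⁻¹ * (x * y) * k := by group
        _ = k⁻¹ * (y * x) * k := by rw [hc.eq]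
        _ = _ := by group
    obtain ⟨q, hq, hqx⟩ := fix_of_conjSet hF (Or.inl ⟨fun h => hx p hp (by rw [h, one_smul]), k, hmem⟩)
    exact hx q hq hqx
  · obtain ⟨t, ht⟩ := (mem_T hF).mp hk
    have ht1 : t ≠ 1 := by
      rintro rfl
      rw [dS_one] at ht
      refine hy ?_
      have h' := congrArg (fun z => k * z * k⁻¹) ht
      simpa [mul_assoc] using h'
    have hmem : k⁻¹ * x * k ∈ T hF := by
      rw [← centralizer_torus hF hm ht1, Subgroup.mem_centralizer_singleton_iff, ← ht]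
      calc _ = k⁻¹ * (x * y) * k := by group
        _ = k⁻¹ * (y * x) * k := by rw [hc.eq]
        _ = _ := by group
    obtain ⟨q, hq, hqx⟩ := fix_of_conjSet hF (Or.inr ⟨fun h => hx p hp (by rw [h, one_smul]), k, hmem⟩)
    exact hx q hq hqx

theorem disjoint_conjSet {g : ↥(Cfsg.Sz F m)} (h1 : g ∈ conjSet (U hF)) : g ∉ conjSet (T hF) := by
  rintro ⟨hg, k, hk⟩
  obtain ⟨-, l, hl⟩ := h1
  have o1 : orderOf g ∣ Nat.card (U hF) := by
    have := Subgroup.orderOf_dvd_natCard (U hF) hl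
    have e : orderOf (l⁻¹ * g * l) = orderOf g := by
      simpa using (MulEquiv.orderOf_eq (MulAut.conj l⁻¹) g)
    rwa [e] at this
  have o2 : orderOf g ∣ Nat.card (T hF) := by
    have := Subgroup.orderOf_dvd_natCard (T hF) hk
    have e : orderOf (k⁻¹ * g * k) = orderOf g := by
      simpa using (MulEquiv.orderOf_eq (MulAut.conj k⁻¹) g)
    rwa [e] at this
  rw [card_U] at o1
  rw [card_T] at o2
  have hcop : Nat.Coprime ((2 ^ (2 * m + 1)) ^ 2) (2 ^ (2 * m + 1) - 1) := by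
    rw [← pow_mul]
    apply Nat.Coprime.pow_left
    rw [Nat.coprime_two_left, Nat.odd_iff]
    have : 2 ^ (2 * m + 1) = 2 * 2 ^ (2 * m) := by rw [pow_succ]; ring
    have := Nat.one_le_two_pow (n := 2 * m)
    omega
  exact hg (orderOf_eq_one_iff.mp (Nat.eq_one_of_dvd_coprimes hcop o1 o2))

/-- The number of fixed point free elements. -/
theorem card_fpf (hm : 1 ≤ m) :
    2 * Nat.card {g : ↥(Cfsg.Sz F m) // g ≠ 1 ∧ FPF g} =
      (2 ^ (2 * m + 1)) ^ 3 * (2 ^ (2 * m + 1) - 1) ^ 2 := by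
  classical
  haveI : Fintype ↥(Cfsg.Sz F m) := Fintype.ofFinite _
  have hU := card_conjSet (U hF) (fun h hh h1 x hx => by
    rw [normalizer_U hF hm]; exact conj_fix_inf hF hh h1 hx)
  have hT := card_conjSet (T hF) (TI_T hF hm)
  rw [normalizer_U hF hm, card_stabInf hF hm, card_U, card_Sz hF hm] at hU
  rw [card_normalizer_T hF hm, card_T, card_Sz hF hm] at hT
  have hsplit : Nat.card {g : ↥(Cfsg.Sz F m) // g ≠ 1 ∧ FPF g} +
      (Nat.card (conjSet (U hF)) + Nat.card (conjSet (T hF))) + 1 = Nat.card ↥(Cfsg.Sz F m) := by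
    set A := Finset.univ.filter (fun g : ↥(Cfsg.Sz F m) => g ≠ 1 ∧ FPF g)
    set B := Finset.univ.filter (fun g : ↥(Cfsg.Sz F m) => g ∈ conjSet (U hF))
    set C := Finset.univ.filter (fun g : ↥(Cfsg.Sz F m) => g ∈ conjSet (T hF))
    have eA : Nat.card {g : ↥(Cfsg.Sz F m) // g ≠ 1 ∧ FPF g} = A.card := by
      rw [Nat.card_eq_fintype_card, Fintype.card_subtype]
    have eB : Nat.card (conjSet (U hF)) = B.card := by
      rw [Nat.card_eq_fintype_card]; exact Fintype.card_subtype _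
    have eC : Nat.card (conjSet (T hF)) = C.card := by
      rw [Nat.card_eq_fintype_card]; exact Fintype.card_subtype _
    have hBC : Disjoint B C := Finset.disjoint_left.mpr fun g hb hc =>
      disjoint_conjSet hF (Finset.mem_filter.mp hb).2 (Finset.mem_filter.mp hc).2
    have hA : Disjoint A (B ∪ C) := Finset.disjoint_left.mpr fun g ha hbc => by
      obtain ⟨p, hp, hpg⟩ := fix_of_conjSet hF (g := g) (by
        rcases Finset.mem_union.mp hbc with h | h
        · exact Or.inl (Finset.mem_filter.mp h).2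
        · exact Or.inr (Finset.mem_filter.mp h).2)
      exact (Finset.mem_filter.mp ha).2.2 p hp hpg
    have hall : A ∪ (B ∪ C) = Finset.univ.erase 1 := by
      ext g
      simp only [A, B, C, Finset.mem_union, Finset.mem_filter, Finset.mem_univ, true_and,
        Finset.mem_erase, ne_eq, and_true]
      constructor
      · rintro (h | h | h)
        · exact h.1
        · exact h.1
        · exact h.1
      · intro h
        by_cases hf : FPF g
        · exact Or.inl ⟨h, hf⟩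
        · simp only [FPF, not_forall, not_not] at hf
          obtain ⟨p, hp, hpg⟩ := hf
          exact Or.inr (classify_point hF hm h hp hpg)
    rw [eA, eB, eC, ← Finset.card_union_of_disjoint hBC, ← Finset.card_union_of_disjoint hA, hall,
      Nat.card_eq_fintype_card]
    exact Finset.card_erase_add_one (Finset.mem_univ _)
  have hq : 2 ≤ 2 ^ (2 * m + 1) := by
    calc 2 = 2 ^ 1 := by norm_num
      _ ≤ _ := Nat.pow_le_pow_right (by norm_num) (by omega)
  rw [card_Sz hF hm] at hsplit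
  generalize Nat.card {g : ↥(Cfsg.Sz F m) // g ≠ 1 ∧ FPF g} = R at *
  generalize Nat.card (conjSet (U hF)) = a at *
  generalize Nat.card (conjSet (T hF)) = b at *
  generalize 2 ^ (2 * m + 1) = q at *
  obtain ⟨r, rfl⟩ : ∃ r, q = r + 2 := ⟨q - 2, by omega⟩
  have hq2 : 1 ≤ (r + 2) ^ 2 := Nat.one_le_pow _ _ (by omega)
  rw [show r + 2 - 1 = r + 1 by omega] at *
  rw [show r + 1 - 1 = r by omega] at hT
  obtain ⟨w, hw⟩ : ∃ w, (r + 2) ^ 2 = w + 1 := ⟨(r + 2) ^ 2 - 1, by omega⟩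
  rw [show (r + 2) ^ 2 - 1 = w by omega] at hU
  zify at *
  have ha : (a : ℤ) = (((r : ℤ) + 2) ^ 2 + 1) * w := by
    apply mul_right_cancel₀ (show ((r : ℤ) + 2) ^ 2 * (r + 1) ≠ 0 by positivity)
    linear_combination hU
  have hb : 2 * (b : ℤ) = ((r : ℤ) + 2) ^ 2 * (((r : ℤ) + 2) ^ 2 + 1) * r := by
    apply mul_right_cancel₀ (show ((r : ℤ) + 1) ≠ 0 by positivity)
    linear_combination hT
  linear_combination 2 * hsplit - 2 * ha - hb + 2 * (((r : ℤ) + 2) ^ 2 + 1) * hw

end CfsgLib.Suzuki
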