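/-
Fixed point free elements of the Suzuki group: irreducible characteristic polynomial, possible
orders, cyclic centralisers.
-/
import Mathlib
import Cfsg.Prelude.Def_LieExceptional
import Cfsg.Prelude.Def_Sz
import Cfsg.Agent.Lib.Suzuki.Lie
import Cfsg.Agent.Lib.Suzuki.Torus
import Cfsg.Agent.Lib.SuzukiBasic
import Cfsg.Agent.Lib.CyclicVector

namespace CfsgLib.Suzuki

open Cfsg Matrix Polynomial
open scoped Pointwise

variable {F : Type*} [Field F] [Fintype F] {m : ℕ} (hF : Fintype.card F = 2 ^ (2 * m + 1))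
include hF

theorem fpf_orderOf_dvd (hm : 1 ≤ m) {x : ↥(Cfsg.Sz F m)} (hx : FPF x) :
    orderOf x ∣ Fintype.card F ^ 2 + 1 := by
  classical
  haveI : Fintype (MulAction.orbitRel.Quotient (Subgroup.zpowers x) (suzukiOvoid F m)) :=
    Fintype.ofFinite _
  have hstab : ∀ p : suzukiOvoid F m, MulAction.stabilizer (Subgroup.zpowers x) p = ⊥ := by
    intro p
    rw [Subgroup.eq_bot_iff_forall]
    rintro ⟨y, hy⟩ hfix
    by_contra hne
    obtain ⟨j, rfl⟩ := Subgroup.mem_zpowers_iff.mp hy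
    exact fpf_pow hF hm hx (fun h => hne (Subtype.ext h)) (Commute.self_zpow x j) p.1 p.2
      (congrArg Subtype.val hfix)
  have e := Nat.card_congr
    (MulAction.selfEquivSigmaOrbitsQuotientStabilizer (Subgroup.zpowers x) (suzukiOvoid F m))
  rw [card_ovoid, Nat.card_sigma] at e
  simp only [hstab, ← Subgroup.index_eq_card, Subgroup.index_bot, Finset.sum_const,
    Nat.card_zpowers, smul_eq_mul] at e
  rw [e]
  exact dvd_mul_left _ _

theorem isSz_mat (hm : 1 ≤ m) (x : ↥(Cfsg.Sz F m)) :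
    IsSz (2 ^ (m + 1)) ((lieEquiv hF hm x : ↥(Lie.Sz F (2 ^ (m + 1)))) : GL (Fin 4) F) := by
  haveI := charTwo hF
  exact mem_Sz_iff.mp (lieEquiv hF hm x).2

theorem lieEquiv_val (hm : 1 ≤ m) (x : ↥(Cfsg.Sz F m)) :
    (((lieEquiv hF hm x : ↥(Lie.Sz F (2 ^ (m + 1)))) : GL (Fin 4) F) : Matrix (Fin 4) (Fin 4) F) =
      x.1.1 := rfl

theorem four_le_card (hm : 1 ≤ m) : 8 ≤ Fintype.card F := by
  rw [hF]
  calc 8 = 2 ^ 3 := by norm_num
    _ ≤ _ := Nat.pow_le_pow_right (by norm_num) (by omega)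

theorem card_even : ∃ r, Fintype.card F = 2 * r :=
  ⟨2 ^ (2 * m), by rw [hF, pow_succ, mul_comm]⟩

theorem odd_sq_add_one : ¬ 2 ∣ Fintype.card F ^ 2 + 1 := by
  obtain ⟨r, hr⟩ := card_even hF
  rw [hr, mul_pow, show (2 : ℕ) ^ 2 * r ^ 2 = 2 * (2 * r ^ 2) by ring]
  omega

theorem fpf_pow_four_ne (hm : 1 ≤ m) {x : ↥(Cfsg.Sz F m)} (hx1 : x ≠ 1) (hx : FPF x) : x ^ 4 ≠ 1 := by
  intro h
  have hd : orderOf x ∣ 2 ^ 2 := orderOf_dvd_of_pow_eq_one h
  obtain ⟨i, -, hi⟩ := (Nat.dvd_prime_pow Nat.prime_two).mp hd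
  rcases Nat.eq_zero_or_pos i with rfl | hpos
  · exact hx1 (orderOf_eq_one_iff.mp hi)
  · exact odd_sq_add_one hF ((dvd_pow_self 2 hpos.ne').trans (hi ▸ fpf_orderOf_dvd hF hm hx))

theorem charpoly_eval_one (hm : 1 ≤ m) {x : ↥(Cfsg.Sz F m)} (hx : x ^ 4 ≠ 1) :
    x.1.1.charpoly.eval 1 ≠ 0 := by
  haveI := charTwo hF
  intro h
  rw [Matrix.eval_charpoly, map_one] at h
  obtain ⟨v, hv, hv0⟩ := Matrix.exists_mulVec_eq_zero_iff.mpr h
  rw [Matrix.sub_mulVec, Matrix.one_mulVec, sub_eq_zero] at hv0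
  apply hx
  apply (lieEquiv hF hm).injective
  rw [map_pow, map_one]
  exact Subtype.ext (by
    rw [Subgroup.coe_pow, Subgroup.coe_one]
    exact pow_four_eq_one (isSz_mat hF hm x) hv (by rw [lieEquiv_val]; exact hv0.symm))

omit hF in
theorem mat_pow (x : ↥(Cfsg.Sz F m)) (i : ℕ) : (x ^ i).1.1 = x.1.1 ^ i := by
  induction i with
  | zero => simp
  | succ i ih =>
    rw [pow_succ, pow_succ, ← ih]
    rfl

omit hF in
theorem mat_mul (x y : ↥(Cfsg.Sz F m)) : (x * y).1.1 = x.1.1 * y.1.1 := rfl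

omit hF in
theorem mat_injective {x y : ↥(Cfsg.Sz F m)} (h : x.1.1 = y.1.1) : x = y :=
  Subtype.ext (Subtype.ext h)

omit hF in
theorem mat_orderOf (x : ↥(Cfsg.Sz F m)) : x.1.1 ^ orderOf x = 1 := by
  rw [← mat_pow, pow_orderOf_eq_one]; rfl

omit hF in
theorem gcd_q_sub {q k : ℕ} (hq : 2 ∣ q) (hk : k ∣ q ^ 2 + 1) {d : ℕ} (hd : d = 1 ∨ d = 2 ∨ d = 3)
    (h : k ∣ q ^ d - 1) : k = 1 := by
  obtain ⟨r, rfl⟩ := hq
  have hk2 : Nat.Coprime k 2 := by
    refine Nat.Coprime.coprime_dvd_left hk ?_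
    rw [Nat.coprime_two_right, Nat.odd_iff, mul_pow]
    omega
  rcases Nat.eq_zero_or_pos r with rfl | hr
  · simpa using hk
  obtain ⟨s, hs⟩ : ∃ s, 2 * r = s + 1 := ⟨2 * r - 1, by omega⟩
  rw [hs] at hk h
  have key : k ∣ 2 := by
    rcases hd with rfl | rfl | rfl
    · rw [pow_one, Nat.add_sub_cancel] at h
      have h1 : (s + 1) ^ 2 + 1 = s * (s + 2) + 2 := by ring
      rw [h1] at hk
      exact (Nat.dvd_add_right (dvd_mul_of_dvd_left h _)).mp hk
    · have h1 : 1 ≤ (s + 1) ^ 2 := Nat.one_le_pow _ _ (by omega)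
      have h2 := Nat.dvd_sub hk h
      rwa [show (s + 1) ^ 2 + 1 - ((s + 1) ^ 2 - 1) = 2 by omega] at h2
    · have h1 : (s + 1) ^ 3 - 1 + (s + 2) = (s + 1) * ((s + 1) ^ 2 + 1) := by
        have : 1 ≤ (s + 1) ^ 3 := Nat.one_le_pow _ _ (by omega)
        have e : (s + 1) ^ 3 + (s + 1) = (s + 1) * ((s + 1) ^ 2 + 1) := by ring
        omega
      have h2 : k ∣ s + 2 := (Nat.dvd_add_right h).mp (h1 ▸ dvd_mul_of_dvd_right hk _)
      have h3 : (s + 1) ^ 2 + 1 = s * (s + 2) + 2 := by ring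
      rw [h3] at hk
      exact (Nat.dvd_add_right (dvd_mul_of_dvd_right h2 _)).mp hk
  exact Nat.Coprime.eq_one_of_dvd hk2 key

/-- The characteristic polynomial of a fixed point free element is irreducible. -/
theorem charpoly_irreducible (hm : 1 ≤ m) {x : ↥(Cfsg.Sz F m)} (hx1 : x ≠ 1) (hx : FPF x) :
    Irreducible x.1.1.charpoly := by
  classical
  have hev := charpoly_eval_one hF hm (fpf_pow_four_ne hF hm hx1 hx)
  have hdvd := Matrix.minpoly_dvd_charpoly x.1.1
  have hint : IsIntegral F x.1.1 := Matrix.isIntegral _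
  have hdeg : x.1.1.charpoly.natDegree = 4 := by
    rw [Matrix.charpoly_natDegree_eq_dim, Fintype.card_fin]
  have hμ1 : ¬ IsUnit (minpoly F x.1.1) := minpoly.not_isUnit F x.1.1
  obtain ⟨p, hpm, hpi, hp⟩ := Polynomial.exists_monic_irreducible_factor _ hμ1
  suffices h4 : 4 ≤ p.natDegree by
    have e : x.1.1.charpoly = p := Polynomial.eq_of_monic_of_dvd_of_natDegree_le hpm
      (Matrix.charpoly_monic _) (hp.trans hdvd) (by rw [hdeg]; exact h4)
    rw [e]; exact hpi
  by_contra hlt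
  push Not at hlt
  haveI : Fact (Irreducible p) := ⟨hpi⟩
  haveI : Module.Finite F (AdjoinRoot p) := (AdjoinRoot.powerBasis hpi.ne_zero).finite
  haveI : Finite (AdjoinRoot p) := Module.finite_of_finite F
  haveI : Fintype (AdjoinRoot p) := Fintype.ofFinite _
  have hcard : Fintype.card (AdjoinRoot p) = Fintype.card F ^ p.natDegree := by
    rw [← Nat.card_eq_fintype_card, Module.natCard_eq_pow_finrank (K := F), Nat.card_eq_fintype_card,
      (AdjoinRoot.powerBasis hpi.ne_zero).finrank, AdjoinRoot.powerBasis_dim]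
  have hroot : (AdjoinRoot.root p) ^ orderOf x = 1 := by
    have h1 : minpoly F x.1.1 ∣ X ^ orderOf x - 1 :=
      minpoly.dvd F _ (by rw [map_sub, map_pow, aeval_X, map_one, mat_orderOf, sub_self])
    have h2 := AdjoinRoot.mk_eq_zero.mpr (hp.trans h1)
    rwa [map_sub, map_pow, map_one, AdjoinRoot.mk_X, sub_eq_zero] at h2
  have hne : AdjoinRoot.root p ≠ 0 := by
    intro h
    rw [h, zero_pow (orderOf_pos x).ne'] at hroot
    exact zero_ne_one hroot
  have hfrob := FiniteField.pow_card_sub_one_eq_one _ hne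
  rw [hcard] at hfrob
  have hd : p.natDegree = 1 ∨ p.natDegree = 2 ∨ p.natDegree = 3 := by
    have := hpi.natDegree_pos
    omega
  obtain ⟨r, hr⟩ := card_even hF
  have hone : orderOf (AdjoinRoot.root p) = 1 :=
    gcd_q_sub ⟨r, hr⟩ ((orderOf_dvd_of_pow_eq_one hroot).trans (fpf_orderOf_dvd hF hm hx)) hd
      (orderOf_dvd_of_pow_eq_one hfrob)
  rw [orderOf_eq_one_iff, ← AdjoinRoot.mk_X, ← map_one (AdjoinRoot.mk p), AdjoinRoot.mk_eq_mk] at hone
  have hass : Associated p (X - C (1 : F)) :=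
    hpi.associated_of_dvd (Polynomial.irreducible_X_sub_C 1) (by rwa [map_one])
  refine hev ?_
  have h1 : (X - C (1 : F)) ∣ x.1.1.charpoly := hass.symm.dvd.trans (hp.trans hdvd)
  exact (dvd_iff_isRoot.mp h1)

/-- `P(M) = 0` iff the characteristic polynomial divides `P`. -/
theorem aeval_eq_zero_iff (hm : 1 ≤ m) {x : ↥(Cfsg.Sz F m)} (hx1 : x ≠ 1) (hx : FPF x) (P : F[X]) :
    aeval x.1.1 P = 0 ↔ x.1.1.charpoly ∣ P := by
  constructor
  · intro h
    rw [minpoly.eq_of_irreducible_of_monic (x := x.1.1) (charpoly_irreducible hF hm hx1 hx)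
      (Matrix.aeval_self_charpoly _) (Matrix.charpoly_monic _)]
    exact minpoly.dvd F _ h
  · rintro ⟨Q, rfl⟩
    rw [map_mul, Matrix.aeval_self_charpoly, zero_mul]

theorem exists_cyc (hm : 1 ≤ m) {x : ↥(Cfsg.Sz F m)} (hx1 : x ≠ 1) (hx : FPF x) :
    CfsgLib.CyclicVector.Cyc x.1.1 (Pi.single 0 1) := by
  classical
  set v : Fin 4 → F := Pi.single 0 1
  let L : ↥(Polynomial.degreeLT F 4) →ₗ[F] (Fin 4 → F) :=
    { toFun := fun p => aeval x.1.1 (p : F[X]) *ᵥ v
      map_add' := fun p r => by rw [Submodule.coe_add, map_add, Matrix.add_mulVec]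
      map_smul' := fun c p => by rw [Submodule.coe_smul, map_smul, Matrix.smul_mulVec]; rfl }
  have hinj : Function.Injective L := by
    rw [← LinearMap.ker_eq_bot, Submodule.eq_bot_iff]
    rintro ⟨p, hp⟩ hker
    by_contra hne
    have hp0 : p ≠ 0 := fun h => hne (Subtype.ext h)
    have hirr := charpoly_irreducible hF hm hx1 hx
    have hnd : ¬ x.1.1.charpoly ∣ p := by
      intro hd
      have h1 := Polynomial.natDegree_le_of_dvd hd hp0
      rw [Matrix.charpoly_natDegree_eq_dim, Fintype.card_fin] at h1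
      rw [Polynomial.mem_degreeLT, Polynomial.degree_eq_natDegree hp0] at hp
      norm_cast at hp
      omega
    obtain ⟨a, b, hab⟩ := (hirr.coprime_iff_not_dvd.mpr hnd)
    have h2 := congrArg (fun P => aeval x.1.1 P *ᵥ v) hab
    simp only [map_add, map_mul, Matrix.aeval_self_charpoly, mul_zero, zero_add, map_one,
      Matrix.one_mulVec, ← Matrix.mulVec_mulVec] at h2
    have h3 : aeval x.1.1 p *ᵥ v = 0 := hker
    rw [h3, Matrix.mulVec_zero] at h2
    have := congrFun h2 0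
    simp [v] at this
  have hfin : Module.finrank F ↥(Polynomial.degreeLT F 4) = 4 := by
    rw [(Polynomial.degreeLTEquiv F 4).finrank_eq, Module.finrank_fin_fun]
  haveI : Module.Finite F ↥(Polynomial.degreeLT F 4) :=
    Module.Finite.equiv (Polynomial.degreeLTEquiv F 4).symm
  have hsurj : Function.Surjective L :=
    (LinearMap.injective_iff_surjective_of_finrank_eq_finrank
      (by rw [hfin, Module.finrank_fin_fun])).mp hinj
  intro w
  obtain ⟨p, hp⟩ := hsurj w
  exact ⟨p, hp⟩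

theorem exists_poly (hm : 1 ≤ m) {x : ↥(Cfsg.Sz F m)} (hx1 : x ≠ 1) (hx : FPF x)
    {y : ↥(Cfsg.Sz F m)} (hy : y ∈ Subgroup.centralizer ({x} : Set ↥(Cfsg.Sz F m))) :
    ∃ P : F[X], y.1.1 = aeval x.1.1 P := by
  refine CfsgLib.CyclicVector.exists_poly_of_commute (exists_cyc hF hm hx1 hx) ?_
  rw [Subgroup.mem_centralizer_singleton_iff] at hy
  have h := congrArg (fun g : ↥(Cfsg.Sz F m) => g.1.1) hy
  first
    | exact h
    | exact h.symm

/-- The centraliser of a fixed point free element is cyclic. -/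
theorem fpf_centralizer_cyclic (hm : 1 ≤ m) {x : ↥(Cfsg.Sz F m)} (hx1 : x ≠ 1) (hx : FPF x) :
    IsCyclic (Subgroup.centralizer ({x} : Set ↥(Cfsg.Sz F m))) := by
  classical
  haveI : Fact (Irreducible x.1.1.charpoly) := ⟨charpoly_irreducible hF hm hx1 hx⟩
  choose P hP using fun y : Subgroup.centralizer ({x} : Set ↥(Cfsg.Sz F m)) =>
    exists_poly hF hm hx1 hx y.2
  have key : ∀ Q R : F[X], aeval x.1.1 Q = aeval x.1.1 R →
      AdjoinRoot.mk x.1.1.charpoly Q = AdjoinRoot.mk x.1.1.charpoly R := by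
    intro Q R h
    rw [AdjoinRoot.mk_eq_mk, ← aeval_eq_zero_iff hF hm hx1 hx, map_sub, h, sub_self]
  let f : Subgroup.centralizer ({x} : Set ↥(Cfsg.Sz F m)) →* AdjoinRoot x.1.1.charpoly :=
    { toFun := fun y => AdjoinRoot.mk _ (P y)
      map_one' := by
        rw [← map_one (AdjoinRoot.mk x.1.1.charpoly)]
        exact key _ _ (by rw [map_one, ← hP]; rfl)
      map_mul' := fun a b => by
        rw [← map_mul]
        exact key _ _ (by rw [map_mul, ← hP, ← hP, ← hP]; rfl) }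
  refine isCyclic_of_injective_ringHom f ?_
  intro a b h
  have h' : AdjoinRoot.mk x.1.1.charpoly (P a) = AdjoinRoot.mk _ (P b) := h
  rw [AdjoinRoot.mk_eq_mk, ← aeval_eq_zero_iff hF hm hx1 hx, map_sub, sub_eq_zero] at h'
  exact Subtype.ext (mat_injective ((hP a).trans (h'.trans (hP b).symm)))

/-- At most four conjugates of a fixed point free element lie in its centraliser. -/
theorem fpf_card_conj_le (hm : 1 ≤ m) {x : ↥(Cfsg.Sz F m)} (hx1 : x ≠ 1) (hx : FPF x) :
    Nat.card {y : ↥(Cfsg.Sz F m) //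
      y ∈ Subgroup.centralizer ({x} : Set ↥(Cfsg.Sz F m)) ∧ ∃ g, g * x * g⁻¹ = y} ≤ 4 := by
  classical
  haveI : Fact (Irreducible x.1.1.charpoly) := ⟨charpoly_irreducible hF hm hx1 hx⟩
  set μ := x.1.1.charpoly with hμ
  choose P hP using fun y : {y : ↥(Cfsg.Sz F m) //
      y ∈ Subgroup.centralizer ({x} : Set ↥(Cfsg.Sz F m)) ∧ ∃ g, g * x * g⁻¹ = y} =>
    exists_poly hF hm hx1 hx y.2.1
  have hroot : ∀ y, AdjoinRoot.mk μ (P y) ∈ (μ.map (AdjoinRoot.of μ)).roots.toFinset := by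
    intro y
    obtain ⟨g, hg⟩ := y.2.2
    have hch : y.1.1.1.charpoly = μ := by
      rw [← hg, hμ, mat_mul, Matrix.charpoly_mul_comm, ← mat_mul, inv_mul_cancel_left]
    have h0 : aeval x.1.1 (μ.comp (P y)) = 0 := by
      rw [aeval_comp, ← hP y, ← hch, Matrix.aeval_self_charpoly]
    rw [aeval_eq_zero_iff hF hm hx1 hx, ← hμ, ← AdjoinRoot.mk_eq_zero, ← AdjoinRoot.aeval_eq,
      aeval_comp, AdjoinRoot.aeval_eq] at h0
    rw [Multiset.mem_toFinset, mem_roots
      ((Polynomial.map_ne_zero_iff (AdjoinRoot.of μ).injective).mpr (Matrix.charpoly_monic _).ne_zero),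
      IsRoot.def, Polynomial.eval_map]
    exact h0
  have hinj : Function.Injective (fun y => (⟨AdjoinRoot.mk μ (P y), hroot y⟩ :
      {r // r ∈ (μ.map (AdjoinRoot.of μ)).roots.toFinset})) := by
    intro a b h
    have h' := congrArg Subtype.val h
    rw [AdjoinRoot.mk_eq_mk, hμ, ← aeval_eq_zero_iff hF hm hx1 hx, map_sub, sub_eq_zero] at h'
    exact Subtype.ext (mat_injective ((hP a).trans (h'.trans (hP b).symm)))
  refine (Nat.card_le_card_of_injective _ hinj).trans ?_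
  rw [Nat.card_eq_fintype_card, Fintype.card_coe]
  refine (Multiset.toFinset_card_le _).trans ((Polynomial.card_roots' _).trans ?_)
  rw [Polynomial.natDegree_map, hμ, Matrix.charpoly_natDegree_eq_dim, Fintype.card_fin]

omit [Fintype F] hF in
/-- The relation `z + 1/z = w + 1/w`. -/
theorem eq_or_inv {K : Type*} [Field K] {z w : K} (hz : z ≠ 0) (hw : w ≠ 0)
    (h : z + z⁻¹ = w + w⁻¹) : z = w ∨ z * w = 1 := by
  have h' : (z - w) * (z * w - 1) = 0 := by
    field_simp at h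
    linear_combination h
  rcases mul_eq_zero.mp h' with h1 | h1
  · exact Or.inl (sub_eq_zero.mp h1)
  · exact Or.inr (sub_eq_zero.mp h1)

/-- The two characteristic coefficients of a Suzuki matrix. -/
theorem charpoly_form (hm : 1 ≤ m) (x : ↥(Cfsg.Sz F m)) :
    x.1.1.charpoly = X ^ 4 - C x.1.1.trace * X ^ 3 + C (x.1.1.trace ^ 2 ^ (m + 1)) * X ^ 2 -
      C x.1.1.trace * X + 1 := by
  haveI := charTwo hF
  obtain ⟨hsp, hstar⟩ := isSz_mat hF hm x
  set g := ((lieEquiv hF hm x : ↥(Lie.Sz F (2 ^ (m + 1)))) : GL (Fin 4) F)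
  have hM : g.1 = x.1.1 := rfl
  have h2 := two_eq_zero hF
  have hadj : x.1.1.adjugate.trace = x.1.1.trace := by
    have e : x.1.1.adjugate = (g⁻¹).1 := by
      calc x.1.1.adjugate = x.1.1.adjugate * (g.1 * (g⁻¹).1) := by
            rw [← Units.val_mul, mul_inv_cancel, Units.val_one, Matrix.mul_one]
        _ = (g⁻¹).1 := by
            rw [hM, ← Matrix.mul_assoc, Matrix.adjugate_mul, x.1.2, one_smul, Matrix.one_mul]
    rw [e, inv_eq hsp, Matrix.trace_mul_comm, ← Matrix.mul_assoc, J_sq, Matrix.one_mul,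
      Matrix.trace_transpose, hM]
  have he : e2 x.1.1 = x.1.1.trace ^ 2 ^ (m + 1) := by
    have h1 : e2 g.1 = (Lie.star4 g.1).trace := by
      have r03 := col_rel hsp 0 3
      have r12 := row_rel hsp 1 2
      simp [J] at r03 r12
      simp [e2, Matrix.trace, Matrix.diag_apply, Fin.sum_univ_four, Lie.star4, Lie.pairOf]
      have h4 : (4 : F) = 0 := by linear_combination 2 * h2
      linear_combination (norm := (ring_nf; simp [h2, h4])) r03 + r12
    rw [hM] at h1 hstar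
    rw [h1, hstar]
    simp only [Matrix.trace, Matrix.diag_apply, Matrix.map_apply, Fin.sum_univ_four, add_pow_char_pow]
  rw [charpoly_four, hadj, he, x.1.2, map_one]

/-- A fixed point free element has order dividing `q ± 2^(m+1) + 1`. -/
theorem fpf_orderOf_cases (hm : 1 ≤ m) {x : ↥(Cfsg.Sz F m)} (hx1 : x ≠ 1) (hx : FPF x) :
    orderOf x ∣ 2 ^ (2 * m + 1) + 2 ^ (m + 1) + 1 ∨
      orderOf x ∣ 2 ^ (2 * m + 1) - 2 ^ (m + 1) + 1 := by
  classical
  have hirr := charpoly_irreducible hF hm hx1 hx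
  haveI : Fact (Irreducible x.1.1.charpoly) := ⟨hirr⟩
  set μ := x.1.1.charpoly with hμ
  haveI := charTwo hF
  haveI : CharP (AdjoinRoot μ) 2 := charP_of_injective_algebraMap (algebraMap F (AdjoinRoot μ)).injective 2
  haveI : Fact (Nat.Prime 2) := ⟨Nat.prime_two⟩
  set l : AdjoinRoot μ := AdjoinRoot.root μ with hl
  set t : AdjoinRoot μ := algebraMap F (AdjoinRoot μ) x.1.1.trace with ht
  set q := 2 ^ (2 * m + 1) with hq
  set s := 2 ^ (m + 1) with hs
  have hl1 : ∀ i : ℕ, l ^ i = 1 ↔ x ^ i = 1 := by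
    intro i
    have h1 : l ^ i = 1 ↔ μ ∣ X ^ i - 1 := by
      rw [← AdjoinRoot.mk_eq_zero, map_sub, map_pow, map_one, AdjoinRoot.mk_X, sub_eq_zero]
    rw [h1, hμ, ← aeval_eq_zero_iff hF hm hx1 hx, map_sub, map_pow, aeval_X, map_one, sub_eq_zero,
      ← mat_pow]
    exact ⟨fun h => mat_injective h, fun h => by rw [h]; rfl⟩
  have hk : orderOf l = orderOf x := orderOf_eq_orderOf_iff.mpr hl1
  have hkq : orderOf x ∣ q ^ 2 + 1 := hF ▸ fpf_orderOf_dvd hF hm hx
  have hq8 : 8 ≤ q := hF ▸ four_le_card hF hm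
  have hl0 : l ≠ 0 := fun h => by
    have h1 := (hl1 (orderOf x)).mpr (pow_orderOf_eq_one x)
    rw [h, zero_pow (orderOf_pos x).ne'] at h1
    exact zero_ne_one h1
  have h2 : (2 : AdjoinRoot μ) = 0 := CharTwo.two_eq_zero
  have hroot : l ^ 4 + t * l ^ 3 + t ^ s * l ^ 2 + t * l + 1 = 0 := by
    have h0 : AdjoinRoot.mk μ μ = 0 := AdjoinRoot.mk_self
    rw [charpoly_form hF hm x] at hμ
    conv at h0 => lhs; arg 2; rw [hμ]
    simp only [map_add, map_sub, map_mul, map_pow, map_one, AdjoinRoot.mk_X, AdjoinRoot.mk_C] at h0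
    rw [ht, AdjoinRoot.algebraMap_eq, hl, hs]
    linear_combination h0 + (AdjoinRoot.of μ x.1.1.trace * AdjoinRoot.root μ ^ 3 +
      AdjoinRoot.of μ x.1.1.trace * AdjoinRoot.root μ) * h2
  set u := l + l⁻¹ with hu
  have hquad : u ^ 2 + t * u + t ^ s = 0 := by
    apply mul_right_cancel₀ (pow_ne_zero 2 hl0)
    rw [zero_mul, hu]
    field_simp
    linear_combination hroot + l ^ 2 * h2
  have haddq : ∀ a b : AdjoinRoot μ, (a + b) ^ q = a ^ q + b ^ q := fun a b => add_pow_char_pow a b 2 _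
  have hadds : ∀ a b : AdjoinRoot μ, (a + b) ^ s = a ^ s + b ^ s := fun a b => add_pow_char_pow a b 2 _
  have htq : t ^ q = t := by
    rw [ht, ← map_pow, ← hF, FiniteField.pow_card]
  set v := u ^ q with hv
  have hquad' : v ^ 2 + t * v + t ^ s = 0 := by
    have h := congrArg (· ^ q) hquad
    simp only [haddq, mul_pow, zero_pow (show q ≠ 0 by omega), htq, pow_right_comm _ s q,
      pow_right_comm u 2 q] at h
    exact h
  have hqk : ∀ d : ℕ, d = 1 ∨ d = 2 ∨ d = 3 → ¬ orderOf x ∣ q ^ d - 1 := fun d hd h =>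
    hx1 (orderOf_eq_one_iff.mp
      (gcd_q_sub (dvd_pow_self 2 (show 2 * m + 1 ≠ 0 by omega)) hkq hd h))
  set w := l ^ q with hw
  have hw0 : w ≠ 0 := pow_ne_zero _ hl0
  have hvw : v = w + w⁻¹ := by rw [hv, hu, haddq, inv_pow]
  have huv : u ≠ v := by
    intro h
    rw [hvw, hu] at h
    rcases eq_or_inv hl0 hw0 h with h1 | h1
    · refine hqk 1 (Or.inl rfl) (orderOf_dvd_of_pow_eq_one ((hl1 _).mp ?_))
      apply mul_right_cancel₀ hl0
      rw [pow_one, ← pow_succ, Nat.sub_add_cancel (show 1 ≤ q by omega), one_mul, ← hw, ← h1]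
    · have h3 : orderOf x ∣ q + 1 := by
        refine orderOf_dvd_of_pow_eq_one ((hl1 _).mp ?_)
        rw [pow_succ, ← hw, mul_comm]; exact h1
      refine hqk 2 (Or.inr (Or.inl rfl)) (dvd_trans h3 ?_)
      rw [show q ^ 2 - 1 = (q + 1) * (q - 1) by rw [← Nat.sq_sub_sq]]
      exact dvd_mul_right _ _
  have htsum : t = u + v := by
    have h' : (u - v) * (u + v + t) = 0 := by linear_combination hquad - hquad'
    have h'' := (mul_eq_zero.mp h').resolve_left (sub_ne_zero.mpr huv)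
    linear_combination h'' - (u + v) * h2
  have hprod : u ^ s + v ^ s = u * v := by
    rw [← hadds, ← htsum]
    linear_combination hquad - u * htsum + (-(u * v) - u ^ 2) * h2
  -- apply the `s`-th power
  have hss : s * s = 2 * q := by rw [hs, hq, ← pow_add, ← pow_succ']; congr 1; omega
  have hlqq : l ^ (q * q) = l⁻¹ := by
    apply eq_inv_of_mul_eq_one_left
    rw [← pow_succ, ← sq]
    exact (hl1 _).mpr (orderOf_dvd_iff_pow_eq_one.mp hkq)
  have huqq : v ^ q = u := by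
    rw [hvw, haddq, hw, inv_pow, ← pow_mul, hlqq, inv_inv, hu, add_comm]
  have hus : u ^ s * v ^ s = u ^ 2 + v ^ 2 := by
    have h := congrArg (· ^ s) hprod
    simp only [hadds, mul_pow, ← pow_mul, hss] at h
    rw [← h, mul_comm 2 q, pow_mul, pow_mul, ← hv, huqq, add_comm]
  set A := l * w + (l * w)⁻¹ with hA
  set B := l * w⁻¹ + (l * w⁻¹)⁻¹ with hB
  have hAB1 : A + B = u * v := by
    rw [hA, hB, hvw, hu, _root_.mul_inv_rev, _root_.mul_inv_rev, inv_inv]; ring
  have hAB2 : A * B = u ^ 2 + v ^ 2 := by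
    rw [hA, hB, hvw, hu, _root_.mul_inv_rev, _root_.mul_inv_rev, inv_inv]
    field_simp
    linear_combination (-(2 * l ^ 2 * w ^ 2)) * h2
  have hz : (u ^ s - A) * (u ^ s - B) = 0 := by
    linear_combination (-(u ^ s)) * hAB1 + hAB2 + u ^ s * hprod - hus
  have hls : u ^ s = l ^ s + (l ^ s)⁻¹ := by rw [hu, hadds, inv_pow]
  have hs2 : 4 ≤ s := by
    calc 4 = 2 ^ 2 := by norm_num
      _ ≤ _ := Nat.pow_le_pow_right (by norm_num) (by omega)
  have hsq : s + 2 ≤ q := by nlinarith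
  have bad : ∀ j : ℕ, (j = q + s - 1 ∨ j = q - s - 1) → orderOf x ∣ j → False := by
    intro j hj hd
    apply hx1
    rw [← orderOf_eq_one_iff]
    have hd' : orderOf x ∣ (q + s - 1) * (q - s - 1) := by
      rcases hj with rfl | rfl
      · exact dvd_mul_of_dvd_left hd _
      · exact dvd_mul_of_dvd_right hd _
    have e : (q + s - 1) * (q - s - 1) + 4 * q = q ^ 2 + 1 := by
      obtain ⟨a, ha⟩ : ∃ a, q = s + 1 + a := ⟨q - s - 1, by omega⟩
      rw [ha, show s + 1 + a + s - 1 = 2 * s + a by omega, show s + 1 + a - s - 1 = a by omega]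
      rw [ha] at hss
      nlinarith
    have h4 : orderOf x ∣ 4 * q := (Nat.dvd_add_right hd').mp (e ▸ hkq)
    have hcop : Nat.Coprime (orderOf x) (4 * q) := by
      refine Nat.Coprime.coprime_dvd_left hkq ?_
      rw [show 4 * q = 2 ^ (2 * m + 3) by rw [hq]; ring]
      refine Nat.Coprime.pow_right _ ?_
      rw [Nat.coprime_two_right, Nat.odd_iff, hq, ← pow_mul]
      have : 2 ^ ((2 * m + 1) * 2) = 2 * 2 ^ (4 * m + 1) := by rw [← pow_succ']; congr 1; ring
      omega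
    exact Nat.Coprime.eq_one_of_dvd hcop h4
  have dvd_of : ∀ j : ℕ, l ^ j = 1 → orderOf x ∣ j := fun j h => orderOf_dvd_of_pow_eq_one ((hl1 j).mp h)
  have hls0 : l ^ s ≠ 0 := pow_ne_zero _ hl0
  rcases mul_eq_zero.mp hz with h | h
  · have h' : l ^ s + (l ^ s)⁻¹ = l * w + (l * w)⁻¹ := by rw [← hls, ← hA]; exact sub_eq_zero.mp h
    rcases eq_or_inv hls0 (mul_ne_zero hl0 hw0) h' with h1 | h1
    · right
      refine dvd_of _ ?_
      apply mul_right_cancel₀ hls0
      rw [one_mul, ← pow_add, show q - s + 1 + s = q + 1 by omega, pow_succ, ← hw, mul_comm, ← h1]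
    · left
      refine dvd_of _ ?_
      rw [show q + s + 1 = s + (1 + q) by omega, pow_add, pow_add, pow_one, ← hw]
      exact h1
  · exfalso
    have h' : l ^ s + (l ^ s)⁻¹ = l * w⁻¹ + (l * w⁻¹)⁻¹ := by
      rw [← hls, ← hB]; exact sub_eq_zero.mp h
    rcases eq_or_inv hls0 (mul_ne_zero hl0 (inv_ne_zero hw0)) h' with h1 | h1
    · refine bad (q + s - 1) (Or.inl rfl) (dvd_of _ ?_)
      apply mul_right_cancel₀ hl0
      rw [one_mul, ← pow_succ, show q + s - 1 + 1 = s + q by omega, pow_add, ← hw, h1,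
        inv_mul_cancel_right₀ hw0]
    · refine bad (q - s - 1) (Or.inr rfl) (dvd_of _ ?_)
      apply mul_right_cancel₀ (mul_ne_zero hls0 hl0)
      rw [one_mul, ← pow_succ, ← pow_add, show q - s - 1 + (s + 1) = q by omega, ← hw, pow_succ]
      field_simp at h1
      linear_combination -h1

end CfsgLib.Suzuki
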