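/-
The cyclic tori of orders `q ± 2^(m+1) + 1` and the partition of the Suzuki group.
-/
import Mathlib
import Cfsg.Prelude.Def_LieExceptional
import Cfsg.Agent.Lib.Suzuki.Fpf

namespace CfsgLib.Suzuki

open Cfsg
open scoped Pointwise

variable {F : Type*} [Field F] [Fintype F] {m : ℕ} (hF : Fintype.card F = 2 ^ (2 * m + 1))
include hF

/-- The two possible orders `q ± 2^(m+1) + 1`. -/
theorem arith (hm : 1 ≤ m) :
    ∀ q s : ℕ, q = 2 ^ (2 * m + 1) → s = 2 ^ (m + 1) →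
      (q + s + 1) * (q - s + 1) = q ^ 2 + 1 ∧ s + 2 ≤ q ∧ 4 ≤ s ∧ 8 ≤ q ∧ q % 3 = 2 ∧ q % 2 = 0 ∧
        5 * s < 3 * (q + 1) := by
  intro q s hq hs
  have hss : s * s = 2 * q := by rw [hs, hq, ← pow_add, ← pow_succ']; congr 1; omega
  have hs4 : 4 ≤ s := by
    rw [hs]
    calc 4 = 2 ^ 2 := by norm_num
      _ ≤ _ := Nat.pow_le_pow_right (by norm_num) (by omega)
  have hsq : s + 2 ≤ q := by nlinarith
  have hq3 : q % 3 = 2 := by
    rw [hq, pow_succ, pow_mul, Nat.mul_mod, Nat.pow_mod]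
    norm_num
  refine ⟨?_, hsq, hs4, by rw [← hq] at hF; exact hF ▸ four_le_card (hF.trans hq) hm, hq3, ?_, ?_⟩
  · obtain ⟨a, rfl⟩ : ∃ a, q = s + a := ⟨q - s, by omega⟩
    rw [show s + a - s + 1 = a + 1 by omega]
    nlinarith
  · rw [hq, pow_succ]; omega
  · nlinarith

theorem fpf_centralizer_eq (hm : 1 ≤ m) {x a : ↥(Cfsg.Sz F m)} (hx1 : x ≠ 1) (hx : FPF x)
    (ha : a ∈ Subgroup.centralizer ({x} : Set ↥(Cfsg.Sz F m))) (ha1 : a ≠ 1) :
    FPF a ∧ Subgroup.centralizer ({a} : Set ↥(Cfsg.Sz F m)) =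
      Subgroup.centralizer ({x} : Set ↥(Cfsg.Sz F m)) := by
  set A := Subgroup.centralizer ({x} : Set ↥(Cfsg.Sz F m)) with hA
  haveI hcy : IsCyclic A := fpf_centralizer_cyclic hF hm hx1 hx
  letI : CommGroup A := IsCyclic.commGroup
  have hcomm : ∀ b ∈ A, ∀ c ∈ A, b * c = c * b := fun b hb c hc =>
    congrArg Subtype.val (mul_comm (⟨b, hb⟩ : A) ⟨c, hc⟩)
  have hxA : x ∈ A := by rw [hA, Subgroup.mem_centralizer_singleton_iff]
  have hfa : FPF a := fpf_pow hF hm hx ha1 (hcomm x hxA a ha)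
  refine ⟨hfa, le_antisymm ?_ ?_⟩
  · haveI : IsCyclic (Subgroup.centralizer ({a} : Set ↥(Cfsg.Sz F m))) :=
      fpf_centralizer_cyclic hF hm ha1 hfa
    letI : CommGroup (Subgroup.centralizer ({a} : Set ↥(Cfsg.Sz F m))) := IsCyclic.commGroup
    intro b hb
    have hxa : x ∈ Subgroup.centralizer ({a} : Set ↥(Cfsg.Sz F m)) := by
      rw [Subgroup.mem_centralizer_singleton_iff]; exact hcomm _ hxA _ ha
    rw [hA, Subgroup.mem_centralizer_singleton_iff]
    exact congrArg Subtype.val (mul_comm (⟨b, hb⟩ : Subgroup.centralizer ({a} : Set _)) ⟨x, hxa⟩)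
  · intro b hb
    rw [Subgroup.mem_centralizer_singleton_iff]
    exact hcomm b hb a ha

theorem fpf_TI (hm : 1 ≤ m) {x : ↥(Cfsg.Sz F m)} (hx1 : x ≠ 1) (hx : FPF x) :
    ∀ h ∈ Subgroup.centralizer ({x} : Set ↥(Cfsg.Sz F m)), h ≠ 1 → ∀ g : ↥(Cfsg.Sz F m),
      g * h * g⁻¹ ∈ Subgroup.centralizer ({x} : Set ↥(Cfsg.Sz F m)) →
      g ∈ Subgroup.normalizer (Subgroup.centralizer ({x} : Set ↥(Cfsg.Sz F m)) : Set ↥(Cfsg.Sz F m)) := by
  intro h hh h1 g hg
  have e1 := (fpf_centralizer_eq hF hm hx1 hx hh h1).2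
  have e2 := (fpf_centralizer_eq hF hm hx1 hx hg (fun e => h1 (by
    have := congrArg (fun z => g⁻¹ * z * g) e
    simpa [mul_assoc] using this))).2
  rw [Subgroup.mem_normalizer_iff]
  intro z
  calc z ∈ Subgroup.centralizer ({x} : Set ↥(Cfsg.Sz F m))
      ↔ z * h = h * z := by rw [← e1, Subgroup.mem_centralizer_singleton_iff]
    _ ↔ g * z * g⁻¹ * (g * h * g⁻¹) = g * h * g⁻¹ * (g * z * g⁻¹) := by
        constructor
        · intro e
          calc _ = g * (z * h) * g⁻¹ := by group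
            _ = g * (h * z) * g⁻¹ := by rw [e]
            _ = _ := by group
        · intro e
          calc z * h = g⁻¹ * (g * z * g⁻¹ * (g * h * g⁻¹)) * g := by group
            _ = g⁻¹ * (g * h * g⁻¹ * (g * z * g⁻¹)) * g := by rw [e]
            _ = h * z := by group
    _ ↔ _ := by rw [← Subgroup.mem_centralizer_singleton_iff, e2]

/-- The data attached to the centraliser of a fixed point free element. -/
theorem fpf_torus_data (hm : 1 ≤ m) {x : ↥(Cfsg.Sz F m)} (hx1 : x ≠ 1) (hx : FPF x) :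
    ∃ a e : ℕ, Nat.card (Subgroup.centralizer ({x} : Set ↥(Cfsg.Sz F m))) = a ∧
      Nat.card (Subgroup.normalizer
        (Subgroup.centralizer ({x} : Set ↥(Cfsg.Sz F m)) : Set ↥(Cfsg.Sz F m))) = a * e ∧
      (a ∣ 2 ^ (2 * m + 1) + 2 ^ (m + 1) + 1 ∨ a ∣ 2 ^ (2 * m + 1) - 2 ^ (m + 1) + 1) ∧
      5 ≤ a ∧ (e = 1 ∨ e = 2 ∨ e = 4) := by
  classical
  obtain ⟨hprod, hsq, hs4, hq8, hq3, hq2, -⟩ := arith hF hm _ _ rfl rfl
  set A := Subgroup.centralizer ({x} : Set ↥(Cfsg.Sz F m)) with hA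
  set N := Subgroup.normalizer (A : Set ↥(Cfsg.Sz F m)) with hN
  set q := 2 ^ (2 * m + 1) with hq
  set s := 2 ^ (m + 1)
  haveI : IsCyclic A := fpf_centralizer_cyclic hF hm hx1 hx
  obtain ⟨c, hc⟩ := IsCyclic.exists_ofOrder_eq_natCard (α := A)
  have hxA : x ∈ A := by rw [hA, Subgroup.mem_centralizer_singleton_iff]
  have hA1 : 1 < Nat.card A :=
    Finite.one_lt_card_iff_nontrivial.mpr ⟨⟨x, hxA⟩, 1, fun h => hx1 (congrArg Subtype.val h)⟩
  have hc1 : (c : ↥(Cfsg.Sz F m)) ≠ 1 := by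
    intro h
    rw [orderOf_eq_one_iff.mpr (Subtype.ext h : c = 1)] at hc
    omega
  have hcf := (fpf_centralizer_eq hF hm hx1 hx c.2 hc1).1
  have hcase := fpf_orderOf_cases hF hm hc1 hcf
  rw [Subgroup.orderOf_coe, hc] at hcase
  have hdvd : Nat.card A ∣ q ^ 2 + 1 := by
    rw [← hprod]
    rcases hcase with h | h
    · exact dvd_mul_of_dvd_left h _
    · exact dvd_mul_of_dvd_right h _
  have hodd : q ^ 2 % 2 = 0 ∧ q ^ 2 % 3 = 1 := by
    rw [Nat.pow_mod, hq2, Nat.pow_mod q 2 3, hq3]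
    exact ⟨rfl, rfl⟩
  have hne : ∀ p, p ∣ Nat.card A → p ≠ 2 ∧ p ≠ 3 ∧ p ≠ 4 := by
    intro p hp
    have hp' := hp.trans hdvd
    refine ⟨?_, ?_, ?_⟩ <;> rintro rfl <;> omega
  have h5 : 5 ≤ Nat.card A := by
    have := hne _ dvd_rfl
    omega
  -- the normaliser
  have hle : A ≤ N := Subgroup.le_normalizer
  obtain ⟨e, he⟩ : Nat.card A ∣ Nat.card N := Subgroup.card_dvd_of_le hle
  have hbound : Nat.card N ≤ 4 * Nat.card A := by
    let S := {y : ↥(Cfsg.Sz F m) //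
      y ∈ Subgroup.centralizer ({x} : Set ↥(Cfsg.Sz F m)) ∧ ∃ g, g * x * g⁻¹ = y}
    let f : N → S := fun n => ⟨(n : ↥(Cfsg.Sz F m)) * x * (n : ↥(Cfsg.Sz F m))⁻¹,
      (Subgroup.mem_normalizer_iff.mp n.2 x).mp hxA, n, rfl⟩
    have hg : ∀ y : S, Nat.card {n : N // f n = y} ≤ Nat.card A := by
      intro y
      rcases isEmpty_or_nonempty {n : N // f n = y} with h | ⟨⟨n0, hn0⟩⟩
      · simp
      have hmem : ∀ n : {n : N // f n = y}, (n0 : ↥(Cfsg.Sz F m))⁻¹ * (n.1 : ↥(Cfsg.Sz F m)) ∈ A := by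
        rintro ⟨n, hn⟩
        rw [hA, Subgroup.mem_centralizer_singleton_iff]
        have h' : (n : ↥(Cfsg.Sz F m)) * x * (n : ↥(Cfsg.Sz F m))⁻¹ =
            n0 * x * (n0 : ↥(Cfsg.Sz F m))⁻¹ := congrArg Subtype.val (hn.trans hn0.symm)
        calc (n0 : ↥(Cfsg.Sz F m))⁻¹ * n * x
            = (n0 : ↥(Cfsg.Sz F m))⁻¹ * (n * x * (n : ↥(Cfsg.Sz F m))⁻¹) * n := by group
          _ = _ := by rw [h']; group
      refine Nat.card_le_card_of_injective (fun n => (⟨_, hmem n⟩ : A)) fun a b h => ?_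
      exact Subtype.ext (Subtype.ext (mul_left_cancel (congrArg Subtype.val h)))
    haveI : Fintype S := Fintype.ofFinite S
    calc Nat.card N = ∑ y : S, Nat.card {n : N // f n = y} := by
          rw [← Nat.card_congr (Equiv.sigmaFiberEquiv f), Nat.card_sigma]
      _ ≤ ∑ _y : S, Nat.card A := Finset.sum_le_sum fun y _ => hg y
      _ = Nat.card S * Nat.card A := by
          rw [Finset.sum_const, Finset.card_univ, smul_eq_mul, Nat.card_eq_fintype_card (α := S)]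
      _ ≤ 4 * Nat.card A := Nat.mul_le_mul_right _ (fpf_card_conj_le hF hm hx1 hx)
  have hcpos : 0 < Nat.card A := by omega
  have he4 : e ≤ 4 := by rw [he] at hbound; nlinarith
  have he0 : e ≠ 0 := by
    rintro rfl
    rw [mul_zero] at he
    exact (Nat.card_pos (α := N)).ne' he
  have he3 : e ≠ 3 := by
    rintro rfl
    have h3 : 3 ∣ Nat.card ↥(Cfsg.Sz F m) :=
      (Dvd.intro_left _ he.symm).trans (Subgroup.card_subgroup_dvd_card N)
    rw [card_Sz hF hm, ← hq] at h3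
    rcases Nat.prime_three.dvd_mul.mp h3 with h | h
    · rcases Nat.prime_three.dvd_mul.mp h with h' | h' <;> omega
    · omega
  exact ⟨_, e, rfl, he, hcase, h5, by omega⟩

theorem fpf_conjSet_disjoint (hm : 1 ≤ m) {x y : ↥(Cfsg.Sz F m)} (hx1 : x ≠ 1) (hx : FPF x)
    (hy1 : y ≠ 1) (hy : FPF y)
    (hn : y ∉ conjSet (Subgroup.centralizer ({x} : Set ↥(Cfsg.Sz F m)))) {z : ↥(Cfsg.Sz F m)}
    (hz : z ∈ conjSet (Subgroup.centralizer ({x} : Set ↥(Cfsg.Sz F m)))) :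
    z ∉ conjSet (Subgroup.centralizer ({y} : Set ↥(Cfsg.Sz F m))) := by
  rintro ⟨hz1, k, hk⟩
  obtain ⟨-, g, hg⟩ := hz
  have hne : ∀ l : ↥(Cfsg.Sz F m), l⁻¹ * z * l ≠ 1 := fun l h => hz1 (by
    have := congrArg (fun w => l * w * l⁻¹) h
    simpa [mul_assoc] using this)
  have e1 := (fpf_centralizer_eq hF hm hx1 hx hg (hne g)).2
  have e2 := (fpf_centralizer_eq hF hm hy1 hy hk (hne k)).2
  refine hn ⟨hy1, k⁻¹ * g, ?_⟩
  have hy' : y ∈ Subgroup.centralizer ({k⁻¹ * z * k} : Set ↥(Cfsg.Sz F m)) := by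
    rw [e2, Subgroup.mem_centralizer_singleton_iff]
  rw [Subgroup.mem_centralizer_singleton_iff] at hy'
  rw [← e1, Subgroup.mem_centralizer_singleton_iff]
  calc (k⁻¹ * g)⁻¹ * y * (k⁻¹ * g) * (g⁻¹ * z * g)
      = g⁻¹ * k * (y * (k⁻¹ * z * k)) * k⁻¹ * g := by group
    _ = g⁻¹ * k * ((k⁻¹ * z * k) * y) * k⁻¹ * g := by rw [hy']
    _ = _ := by group

omit hF in
theorem conjSet_fpf_sub (H : Subgroup ↥(Cfsg.Sz F m)) (hH : ∀ h ∈ H, h ≠ 1 → FPF h)
    {z : ↥(Cfsg.Sz F m)} (hz : z ∈ conjSet H) : z ≠ 1 ∧ FPF z := by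
  obtain ⟨hz1, g, hg⟩ := hz
  refine ⟨hz1, fun p hp hfix => ?_⟩
  refine hH _ hg (fun h => hz1 ?_) (g⁻¹ • p) (smul_mem_ovoid (g⁻¹ : ↥(Cfsg.Sz F m)).2 hp) ?_
  · have := congrArg (fun w => g * w * g⁻¹) h
    simpa [mul_assoc] using this
  · rw [mul_smul, mul_smul, smul_inv_smul, hfix]

/-- Existence of the two classes of cyclic tori and exhaustion of fixed point free elements. -/
theorem exists_singer (hm : 1 ≤ m) :
    ∃ Ap Am : Subgroup ↥(Cfsg.Sz F m),
      IsCyclic Ap ∧ Nat.card Ap = 2 ^ (2 * m + 1) + 2 ^ (m + 1) + 1 ∧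
      Nat.card (Subgroup.normalizer (Ap : Set ↥(Cfsg.Sz F m))) =
        4 * (2 ^ (2 * m + 1) + 2 ^ (m + 1) + 1) ∧
      (∀ u ∈ Ap, u ≠ 1 → FPF u ∧ Subgroup.centralizer ({u} : Set ↥(Cfsg.Sz F m)) = Ap) ∧
      IsCyclic Am ∧ Nat.card Am = 2 ^ (2 * m + 1) - 2 ^ (m + 1) + 1 ∧
      Nat.card (Subgroup.normalizer (Am : Set ↥(Cfsg.Sz F m))) =
        4 * (2 ^ (2 * m + 1) - 2 ^ (m + 1) + 1) ∧
      (∀ u ∈ Am, u ≠ 1 → FPF u ∧ Subgroup.centralizer ({u} : Set ↥(Cfsg.Sz F m)) = Am) ∧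
      ∀ z : ↥(Cfsg.Sz F m), z ≠ 1 → FPF z → z ∈ conjSet Ap ∨ z ∈ conjSet Am := by
  classical
  obtain ⟨hprod, hsq, hs4, hq8, hq3, hq2, h35⟩ := arith hF hm _ _ rfl rfl
  haveI : Fintype ↥(Cfsg.Sz F m) := Fintype.ofFinite _
  set G := ↥(Cfsg.Sz F m)
  set q := 2 ^ (2 * m + 1) with hq
  set np := q + 2 ^ (m + 1) + 1 with hnp
  set nm := q - 2 ^ (m + 1) + 1 with hnm
  have hR := card_fpf hF hm
  have hG := card_Sz hF hm
  set R := Finset.univ.filter (fun g : G => g ≠ 1 ∧ FPF g) with hRdef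
  have hRcard : Nat.card {g : G // g ≠ 1 ∧ FPF g} = R.card := by
    rw [Nat.card_eq_fintype_card, Fintype.card_subtype]
  rw [hRcard, ← hq] at hR
  let C : G → Finset G := fun x =>
    Finset.univ.filter (fun z : G => z ∈ conjSet (Subgroup.centralizer ({x} : Set G)))
  have hCsub : ∀ x ∈ R, C x ⊆ R := by
    intro x hx z hz
    rw [hRdef, Finset.mem_filter] at hx ⊢
    exact ⟨Finset.mem_univ _, conjSet_fpf_sub _
      (fun h hh h1 => (fpf_centralizer_eq hF hm hx.2.1 hx.2.2 hh h1).1) (Finset.mem_filter.mp hz).2⟩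
  -- the rational contribution of one class
  have data : ∀ x ∈ R, ∃ a e : ℕ, Nat.card (Subgroup.centralizer ({x} : Set G)) = a ∧
      Nat.card (Subgroup.normalizer (Subgroup.centralizer ({x} : Set G) : Set G)) = a * e ∧
      (a ∣ np ∨ a ∣ nm) ∧ 5 ≤ a ∧ (e = 1 ∨ e = 2 ∨ e = 4) ∧
      ((C x).card : ℚ) = (Nat.card G : ℚ) * ((1 - 1 / (a : ℚ)) / e) := by
    intro x hx
    rw [hRdef, Finset.mem_filter] at hx
    obtain ⟨a, e, ha, hN, hcase, h5, he⟩ := fpf_torus_data hF hm hx.2.1 hx.2.2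
    refine ⟨a, e, ha, hN, hcase, h5, he, ?_⟩
    have h := card_conjSet _ (fpf_TI hF hm hx.2.1 hx.2.2)
    have hC : Nat.card (conjSet (Subgroup.centralizer ({x} : Set G))) = (C x).card := by
      rw [Nat.card_eq_fintype_card]; exact Fintype.card_subtype _
    rw [ha, hN, hC] at h
    have ha0 : (a : ℚ) ≠ 0 := by exact_mod_cast (show a ≠ 0 by omega)
    have he0 : (e : ℚ) ≠ 0 := by exact_mod_cast (show e ≠ 0 by omega)
    have hh : ((C x).card : ℚ) * ((a : ℚ) * e) = (Nat.card G : ℚ) * ((a : ℚ) - 1) := by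
      have := congrArg (Nat.cast (R := ℚ)) h
      push_cast [Nat.cast_sub (show 1 ≤ a by omega)] at this
      exact this
    field_simp
    linear_combination hh
  have hGpos : (0 : ℚ) < (Nat.card G : ℚ) := by exact_mod_cast Nat.card_pos
  set Q : ℚ := (q : ℚ) with hQ
  have hQ8 : (8 : ℚ) ≤ Q := by rw [hQ]; exact_mod_cast hq8
  have hρ : (R.card : ℚ) = (Nat.card G : ℚ) * (Q * (Q - 1) / (2 * (Q ^ 2 + 1))) := by
    have h1 : 2 * (R.card : ℚ) = Q ^ 3 * (Q - 1) ^ 2 := by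
      have := congrArg (Nat.cast (R := ℚ)) hR
      push_cast [Nat.cast_sub (show 1 ≤ q by omega)] at this
      exact this
    have h2 : (Nat.card G : ℚ) = Q ^ 2 * (Q ^ 2 + 1) * (Q - 1) := by
      rw [hG, Nat.cast_mul, Nat.cast_mul, Nat.cast_add, Nat.cast_pow, Nat.cast_one,
        Nat.cast_sub (show 1 ≤ 2 ^ (2 * m + 1) from Nat.one_le_two_pow), Nat.cast_one, ← hq]
    rw [h2]
    field_simp
    linear_combination h1
  have hρhalf : Q * (Q - 1) / (2 * (Q ^ 2 + 1)) < 1 / 2 := by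
    rw [div_lt_div_iff₀ (by positivity) (by norm_num)]; nlinarith
  have hρlow : 1 / 4 < Q * (Q - 1) / (2 * (Q ^ 2 + 1)) := by
    rw [div_lt_div_iff₀ (by norm_num) (by positivity)]; nlinarith
  have lower : ∀ {a e : ℕ}, 5 ≤ a → (e = 1 ∨ e = 2 ∨ e = 4) →
      (1 / 5 : ℚ) ≤ (1 - 1 / (a : ℚ)) / e ∧
        (e ≠ 4 → (2 / 5 : ℚ) ≤ (1 - 1 / (a : ℚ)) / e) ∧ (e = 1 → (4 / 5 : ℚ) ≤ (1 - 1 / (a : ℚ)) / e) := by
    intro a e ha he
    have hinv : 1 / (a : ℚ) ≤ 1 / 5 :=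
      one_div_le_one_div_of_le (by norm_num) (by exact_mod_cast ha)
    rcases he with rfl | rfl | rfl <;> refine ⟨?_, fun h => ?_, fun h => ?_⟩ <;> push_cast <;>
      first
        | linarith
        | omega
  -- choose the classes
  obtain ⟨x1, hx1⟩ : R.Nonempty := by
    rw [← Finset.card_pos]
    have : 0 < q ^ 3 * (q - 1) ^ 2 := by
      have : 0 < q - 1 := by omega
      positivity
    omega
  obtain ⟨a1, e1, ha1, hN1, hc1, h51, he1, hC1⟩ := data x1 hx1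
  have h2nd : ∃ x2 ∈ R, x2 ∉ C x1 := by
    by_contra hall
    push Not at hall
    have heq : C x1 = R := Finset.Subset.antisymm (hCsub x1 hx1) hall
    rw [heq, hρ] at hC1
    have hr := mul_left_cancel₀ hGpos.ne' hC1
    obtain ⟨hb1, hb2, hb3⟩ := lower h51 he1
    rcases he1 with rfl | rfl | rfl
    · have := hb3 rfl; linarith
    · have ha0 : (a1 : ℚ) ≠ 0 := by exact_mod_cast (show a1 ≠ 0 by omega)
      field_simp at hr
      have e' : (a1 : ℚ) * (Q + 1) = Q ^ 2 + 1 := by linear_combination -(1 / 2 : ℚ) * hr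
      have e'' : a1 * (q + 1) = q ^ 2 + 1 := by rw [hQ] at e'; exact_mod_cast e'
      have hd1 : q + 1 ∣ q ^ 2 - 1 := ⟨q - 1, by rw [← Nat.sq_sub_sq, one_pow]⟩
      have hd2 := Nat.dvd_sub (Dvd.intro_left _ e'' : q + 1 ∣ q ^ 2 + 1) hd1
      have : 1 ≤ q ^ 2 := Nat.one_le_pow _ _ (by omega)
      rw [show q ^ 2 + 1 - (q ^ 2 - 1) = 2 by omega] at hd2
      have := Nat.le_of_dvd (by norm_num) hd2
      omega
    · have hlt : (1 - 1 / (a1 : ℚ)) / 4 < 1 / 4 := by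
        have : (0 : ℚ) < 1 / (a1 : ℚ) := by
          have : 0 < a1 := by omega
          positivity
        linarith
      push_cast at hr
      linarith
  obtain ⟨x2, hx2, hx2n⟩ := h2nd
  obtain ⟨a2, e2, ha2, hN2, hc2, h52, he2, hC2⟩ := data x2 hx2
  have memR : ∀ x, x ∈ R → x ≠ 1 ∧ FPF x := fun x hx => (Finset.mem_filter.mp hx).2
  have hdis : ∀ x ∈ R, ∀ y ∈ R, y ∉ C x → Disjoint (C x) (C y) := by
    intro x hx y hy hyx
    refine Finset.disjoint_left.mpr fun z hz hz' => ?_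
    exact fpf_conjSet_disjoint hF hm (memR x hx).1 (memR x hx).2 (memR y hy).1 (memR y hy).2
      (fun h => hyx (Finset.mem_filter.mpr ⟨Finset.mem_univ _, h⟩)) (Finset.mem_filter.mp hz).2
      (Finset.mem_filter.mp hz').2
  have hcover : ∀ z ∈ R, z ∈ C x1 ∨ z ∈ C x2 := by
    by_contra hcon
    push Not at hcon
    obtain ⟨x3, hx3, h31, h32⟩ := hcon
    obtain ⟨a3, e3, -, -, -, h53, he3, hC3⟩ := data x3 hx3
    have d12 := hdis x1 hx1 x2 hx2 hx2n
    have d13 := hdis x1 hx1 x3 hx3 h31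
    have d23 := hdis x2 hx2 x3 hx3 h32
    have hsum : (C x1).card + (C x2).card + (C x3).card ≤ R.card := by
      rw [← Finset.card_union_of_disjoint d12, ← Finset.card_union_of_disjoint
        (Finset.disjoint_union_left.mpr ⟨d13, d23⟩)]
      exact Finset.card_le_card (Finset.union_subset (Finset.union_subset (hCsub _ hx1) (hCsub _ hx2))
        (hCsub _ hx3))
    have hq' : ((C x1).card : ℚ) + (C x2).card + (C x3).card ≤ (R.card : ℚ) := by exact_mod_cast hsum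
    rw [hC1, hC2, hC3, hρ, ← mul_add, ← mul_add] at hq'
    have := le_of_mul_le_mul_left hq' hGpos
    have := (lower h51 he1).1
    have := (lower h52 he2).1
    have := (lower h53 he3).1
    linarith
  have hsum : (1 - 1 / (a1 : ℚ)) / e1 + (1 - 1 / (a2 : ℚ)) / e2 =
      Q * (Q - 1) / (2 * (Q ^ 2 + 1)) := by
    have hR2 : R = C x1 ∪ C x2 := Finset.Subset.antisymm
      (fun z hz => Finset.mem_union.mpr (hcover z hz))
      (Finset.union_subset (hCsub _ hx1) (hCsub _ hx2))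
    have hcard : (R.card : ℚ) = ((C x1).card : ℚ) + (C x2).card := by
      rw [hR2, Finset.card_union_of_disjoint (hdis x1 hx1 x2 hx2 hx2n)]; push_cast; rfl
    rw [hρ, hC1, hC2, ← mul_add] at hcard
    exact (mul_left_cancel₀ hGpos.ne' hcard).symm
  have h4 : e1 = 4 ∧ e2 = 4 := by
    constructor
    · by_contra hne
      have := (lower h51 he1).2.1 hne
      have := (lower h52 he2).1
      linarith
    · by_contra hne
      have := (lower h52 he2).2.1 hne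
      have := (lower h51 he1).1
      linarith
  obtain ⟨rfl, rfl⟩ := h4
  have hnp0 : 0 < np := by omega
  have hnm0 : 0 < nm := by omega
  have hinv : 1 / (a1 : ℚ) + 1 / (a2 : ℚ) = 1 / (np : ℚ) + 1 / (nm : ℚ) := by
    have hp : ((np : ℚ) * (nm : ℚ)) = Q ^ 2 + 1 := by rw [hQ]; exact_mod_cast hprod
    have hs : (np : ℚ) + (nm : ℚ) = 2 * (Q + 1) := by
      rw [hQ]
      have : np + nm = 2 * (q + 1) := by omega
      exact_mod_cast this
    have hnp' : (np : ℚ) ≠ 0 := by exact_mod_cast hnp0.ne'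
    have hnm' : (nm : ℚ) ≠ 0 := by exact_mod_cast hnm0.ne'
    rw [div_add_div _ _ hnp' hnm', one_mul, mul_one, add_comm (nm : ℚ), hs, hp]
    push_cast at hsum
    rw [eq_div_iff (by positivity : Q ^ 2 + 1 ≠ 0)]
    rw [eq_div_iff (by positivity : 2 * (Q ^ 2 + 1) ≠ 0)] at hsum
    linear_combination (-2 : ℚ) * hsum
  have hnp3 : ¬ 3 ∣ np ∧ ¬ 2 ∣ np := by
    have h : q ^ 2 % 3 = 1 ∧ q ^ 2 % 2 = 0 := by
      rw [Nat.pow_mod, hq3, Nat.pow_mod q 2 2, hq2]; exact ⟨rfl, rfl⟩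
    refine ⟨fun hd => ?_, fun hd => ?_⟩ <;>
      · have := hd.trans (Dvd.intro nm hprod)
        omega
  have hnm3 : ¬ 3 ∣ nm ∧ ¬ 2 ∣ nm := by
    have h : q ^ 2 % 3 = 1 ∧ q ^ 2 % 2 = 0 := by
      rw [Nat.pow_mod, hq3, Nat.pow_mod q 2 2, hq2]; exact ⟨rfl, rfl⟩
    refine ⟨fun hd => ?_, fun hd => ?_⟩ <;>
      · have := hd.trans (Dvd.intro_left np hprod)
        omega
  have small : ∀ {a n : ℕ}, 5 ≤ a → a ∣ n → ¬ 3 ∣ n → ¬ 2 ∣ n → a ≠ n → 5 * a ≤ n := by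
    intro a n ha had h3 h2 hne
    obtain ⟨j, rfl⟩ := had
    have hj1 : j ≠ 1 := by rintro rfl; exact hne (mul_one a).symm
    have hj2 : j ≠ 2 := by rintro rfl; exact h2 (dvd_mul_left 2 a)
    have hj3 : j ≠ 3 := by rintro rfl; exact h3 (dvd_mul_left 3 a)
    have hj4 : j ≠ 4 := by rintro rfl; exact h2 (Dvd.dvd.mul_left (by norm_num) a)
    have hj0 : j ≠ 0 := by rintro rfl; exact h2 (by simp)
    calc 5 * a ≤ j * a := Nat.mul_le_mul_right _ (by omega)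
      _ = a * j := mul_comm _ _
  have inv_le : ∀ {a n : ℕ}, 0 < a → a ≤ n → 1 / (n : ℚ) ≤ 1 / (a : ℚ) := fun ha han =>
    one_div_le_one_div_of_le (by exact_mod_cast ha) (by exact_mod_cast han)
  have key5 : 1 / (np : ℚ) + 1 / (nm : ℚ) < 5 / (np : ℚ) := by
    have hlt : np < 4 * nm := by omega
    have h1 : 1 / (nm : ℚ) < 4 / (np : ℚ) := by
      rw [div_lt_div_iff₀ (by exact_mod_cast hnm0) (by exact_mod_cast hnp0), one_mul]
      exact_mod_cast hlt
    have h2 : (5 : ℚ) / (np : ℚ) = 1 / (np : ℚ) + 4 / (np : ℚ) := by ring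
    linarith
  have key1 : 1 / (np : ℚ) < 1 / (nm : ℚ) :=
    one_div_lt_one_div_of_lt (by exact_mod_cast hnm0) (by exact_mod_cast (show nm < np by omega))
  have five : ∀ {a : ℕ}, 5 ≤ a → 5 * a ≤ np → 5 / (np : ℚ) ≤ 1 / (a : ℚ) := by
    intro a ha h
    rw [div_le_div_iff₀ (by exact_mod_cast hnp0) (by exact_mod_cast (show 0 < a by omega)), one_mul]
    exact_mod_cast h
  have hle_np : ∀ {a : ℕ}, a ∣ np ∨ a ∣ nm → a ≤ np := by
    intro a h
    rcases h with h | h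
    · exact Nat.le_of_dvd hnp0 h
    · exact le_trans (Nat.le_of_dvd hnm0 h) (by omega)
  have only : ∀ {a b : ℕ}, 5 ≤ a → 5 ≤ b → (a ∣ np ∨ a ∣ nm) → (b ∣ np ∨ b ∣ nm) →
      1 / (a : ℚ) + 1 / (b : ℚ) = 1 / (np : ℚ) + 1 / (nm : ℚ) → a = np ∨ a = nm := by
    intro a b ha hb hca hcb hab
    by_contra hcon
    push Not at hcon
    have hb0 : 1 / (np : ℚ) ≤ 1 / (b : ℚ) := inv_le (by omega) (hle_np hcb)
    have hb1 : (0 : ℚ) < 1 / (np : ℚ) := by
      have : (0 : ℚ) < (np : ℚ) := by exact_mod_cast hnp0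
      positivity
    rcases hca with h | h
    · have := five ha (small ha h hnp3.1 hnp3.2 hcon.1)
      linarith
    · have := five ha (le_trans (small ha h hnm3.1 hnm3.2 hcon.2) (by omega))
      linarith
  have hpm : (a1 = np ∧ a2 = nm) ∨ (a1 = nm ∧ a2 = np) := by
    rcases only h51 h52 hc1 hc2 hinv with h | h <;>
      rcases only h52 h51 hc2 hc1 (by linarith) with h' | h'
    · exfalso; rw [h, h'] at hinv; linarith
    · exact Or.inl ⟨h, h'⟩
    · exact Or.inr ⟨h, h'⟩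
    · exfalso; rw [h, h'] at hinv; linarith
  have good : ∀ x, x ∈ R → ∀ u ∈ Subgroup.centralizer ({x} : Set G), u ≠ 1 →
      FPF u ∧ Subgroup.centralizer ({u} : Set G) = Subgroup.centralizer ({x} : Set G) :=
    fun x hx u hu hu1 => fpf_centralizer_eq hF hm (memR x hx).1 (memR x hx).2 hu hu1
  have cyc : ∀ x, x ∈ R → IsCyclic (Subgroup.centralizer ({x} : Set G)) := fun x hx =>
    fpf_centralizer_cyclic hF hm (memR x hx).1 (memR x hx).2
  rcases hpm with ⟨h, h'⟩ | ⟨h, h'⟩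
  · refine ⟨_, _, cyc x1 hx1, ha1.trans h, by rw [hN1, h, mul_comm], good x1 hx1,
      cyc x2 hx2, ha2.trans h', by rw [hN2, h', mul_comm], good x2 hx2, fun z hz hzf => ?_⟩
    rcases hcover z (Finset.mem_filter.mpr ⟨Finset.mem_univ _, hz, hzf⟩) with h | h
    · exact Or.inl (Finset.mem_filter.mp h).2
    · exact Or.inr (Finset.mem_filter.mp h).2
  · refine ⟨_, _, cyc x2 hx2, ha2.trans h', by rw [hN2, h', mul_comm], good x2 hx2,
      cyc x1 hx1, ha1.trans h, by rw [hN1, h, mul_comm], good x1 hx1, fun z hz hzf => ?_⟩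
    rcases hcover z (Finset.mem_filter.mpr ⟨Finset.mem_univ _, hz, hzf⟩) with h | h
    · exact Or.inr (Finset.mem_filter.mp h).2
    · exact Or.inl (Finset.mem_filter.mp h).2

end CfsgLib.Suzuki
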