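/-
The partition of the Suzuki group and its consequences.
-/
import Mathlib
import Cfsg.Prelude.Def_LieExceptional
import Cfsg.Agent.Lib.Suzuki.Singer

namespace CfsgLib.Suzuki

open Cfsg
open scoped Pointwise

section General

variable {G : Type*} [Group G]

theorem mem_map_conj_iff (H : Subgroup G) (k y : G) :
    y ∈ H.map (MulAut.conj k).toMonoidHom ↔ k⁻¹ * y * k ∈ H := by
  constructor
  · rintro ⟨h, hh, rfl⟩
    simpa [mul_assoc] using hh
  · intro h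
    exact ⟨_, h, by simp [mul_assoc]⟩

theorem centralizer_le_map_conj (H : Subgroup G)
    (hH : ∀ h ∈ H, h ≠ 1 → Subgroup.centralizer ({h} : Set G) ≤ H) {g k : G} (hg : g ≠ 1)
    (hk : k⁻¹ * g * k ∈ H) :
    Subgroup.centralizer ({g} : Set G) ≤ H.map (MulAut.conj k).toMonoidHom := by
  intro y hy
  rw [mem_map_conj_iff]
  refine hH _ hk (fun e => hg ?_) ?_
  · have := congrArg (fun w => k * w * k⁻¹) e
    simpa [mul_assoc] using this
  · rw [Subgroup.mem_centralizer_singleton_iff] at hy ⊢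
    calc _ = k⁻¹ * (y * g) * k := by group
      _ = k⁻¹ * (g * y) * k := by rw [hy]
      _ = _ := by group

theorem orderOf_dvd_of_conjSet (H : Subgroup G) {g : G} (hg : g ∈ conjSet H) :
    orderOf g ∣ Nat.card H := by
  obtain ⟨-, k, hk⟩ := hg
  have := Subgroup.orderOf_dvd_natCard H hk
  have e : orderOf (k⁻¹ * g * k) = orderOf g := by
    simpa using (MulEquiv.orderOf_eq (MulAut.conj k⁻¹) g)
  rwa [e] at this

theorem card_map_conj (H : Subgroup G) (k : G) :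
    Nat.card (H.map (MulAut.conj k).toMonoidHom : Subgroup G) = Nat.card H :=
  Subgroup.card_map_of_injective (MulAut.conj k).injective

end General

variable {F : Type*} [Field F] [Fintype F] {m : ℕ} (hF : Fintype.card F = 2 ^ (2 * m + 1))
include hF

theorem centralizer_T_le (hm : 1 ≤ m) : ∀ h ∈ T hF, h ≠ 1 →
    Subgroup.centralizer ({h} : Set ↥(Cfsg.Sz F m)) ≤ T hF := by
  intro h hh h1
  obtain ⟨t, rfl⟩ := (mem_T hF).mp hh
  rw [centralizer_torus hF hm (fun e => h1 (by rw [e, dS_one]))]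

/-- The four orders are pairwise coprime. -/
theorem coprime_orders (hm : 1 ≤ m) :
    ∀ q np nm : ℕ, q = 2 ^ (2 * m + 1) → np = q + 2 ^ (m + 1) + 1 → nm = q - 2 ^ (m + 1) + 1 →
      Nat.Coprime (q ^ 2) (q - 1) ∧ Nat.Coprime (q ^ 2) np ∧ Nat.Coprime (q ^ 2) nm ∧
        Nat.Coprime (q - 1) np ∧ Nat.Coprime (q - 1) nm ∧ Nat.Coprime np nm := by
  intro q np nm hq hnp hnm
  obtain ⟨hprod, hsq, hs4, hq8, -, hq2, -⟩ := arith hF hm q _ hq rfl
  rw [← hnp, ← hnm] at hprod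
  have hs2 : 2 ^ (m + 1) % 2 = 0 := by rw [pow_succ]; omega
  have h2q : Nat.Coprime (q ^ 2) (q - 1) := by
    rw [hq, ← pow_mul]
    apply Nat.Coprime.pow_left
    rw [Nat.coprime_two_left, Nat.odd_iff]
    rw [hq] at hq8 hq2
    omega
  have hp2 : ∀ n : ℕ, n % 2 = 1 → Nat.Coprime (q ^ 2) n := fun n hn => by
    rw [hq, ← pow_mul]
    exact (Nat.coprime_two_left.mpr (Nat.odd_iff.mpr hn)).pow_left _
  have hq1 : ∀ n : ℕ, n ∣ q ^ 2 + 1 → Nat.Coprime (q - 1) n := by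
    intro n hn
    refine Nat.Coprime.coprime_dvd_right hn ?_
    rw [Nat.coprime_iff_gcd_eq_one]
    set d := Nat.gcd (q - 1) (q ^ 2 + 1)
    have h1 : d ∣ q - 1 := Nat.gcd_dvd_left _ _
    have h2 : d ∣ q ^ 2 + 1 := Nat.gcd_dvd_right _ _
    have h3 : d ∣ q ^ 2 - 1 := by
      rw [show q ^ 2 - 1 = (q + 1) * (q - 1) by rw [← Nat.sq_sub_sq, one_pow]]
      exact dvd_mul_of_dvd_right h1 _
    have hq21 : 1 ≤ q ^ 2 := Nat.one_le_pow _ _ (by omega)
    have h4 := Nat.dvd_sub h2 h3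
    rw [show q ^ 2 + 1 - (q ^ 2 - 1) = 2 by omega] at h4
    rcases (Nat.dvd_prime Nat.prime_two).mp h4 with h5 | h5
    · exact h5
    · rw [h5] at h1; omega
  refine ⟨h2q, hp2 _ (by omega), hp2 _ (by omega), hq1 _ (Dvd.intro nm hprod),
    hq1 _ (Dvd.intro_left np hprod), ?_⟩
  have hodd : Nat.Coprime np 2 := Nat.coprime_two_right.mpr (Nat.odd_iff.mpr (by omega))
  rw [Nat.coprime_iff_gcd_eq_one]
  set d := Nat.gcd np nm
  have h1 : d ∣ np := Nat.gcd_dvd_left _ _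
  have h2 : d ∣ nm := Nat.gcd_dvd_right _ _
  have h3 : d ∣ 2 ^ (m + 2) := by
    have := Nat.dvd_sub h1 h2
    rwa [show np - nm = 2 ^ (m + 2) by rw [pow_succ 2 (m + 1)]; omega] at this
  exact Nat.eq_one_of_dvd_coprimes (hodd.pow_right (m + 2)) h1 h3

/-- Every non-trivial element lies in a conjugate of one of the four subgroups. -/
theorem classify (hm : 1 ≤ m) :
    ∃ Ap Am : Subgroup ↥(Cfsg.Sz F m),
      IsCyclic Ap ∧ Nat.card Ap = 2 ^ (2 * m + 1) + 2 ^ (m + 1) + 1 ∧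
      (∀ u ∈ Ap, u ≠ 1 → Subgroup.centralizer ({u} : Set ↥(Cfsg.Sz F m)) = Ap) ∧
      Nat.card (Subgroup.normalizer (Ap : Set ↥(Cfsg.Sz F m))) =
        4 * (2 ^ (2 * m + 1) + 2 ^ (m + 1) + 1) ∧
      IsCyclic Am ∧ Nat.card Am = 2 ^ (2 * m + 1) - 2 ^ (m + 1) + 1 ∧
      (∀ u ∈ Am, u ≠ 1 → Subgroup.centralizer ({u} : Set ↥(Cfsg.Sz F m)) = Am) ∧
      Nat.card (Subgroup.normalizer (Am : Set ↥(Cfsg.Sz F m))) =
        4 * (2 ^ (2 * m + 1) - 2 ^ (m + 1) + 1) ∧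
      ∀ z : ↥(Cfsg.Sz F m), z ≠ 1 →
        z ∈ conjSet (U hF) ∨ z ∈ conjSet (T hF) ∨ z ∈ conjSet Ap ∨ z ∈ conjSet Am := by
  obtain ⟨Ap, Am, cp, hp, np, up, cm, hmc, nm, um, hall⟩ := exists_singer hF hm
  refine ⟨Ap, Am, cp, hp, fun u hu h => (up u hu h).2, np, cm, hmc, fun u hu h => (um u hu h).2, nm,
    fun z hz => ?_⟩
  by_cases hf : FPF z
  · exact Or.inr (Or.inr (hall z hz hf))
  · simp only [FPF, not_forall, not_not] at hf
    obtain ⟨p, hp', hzp⟩ := hf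
    rcases classify_point hF hm hz hp' hzp with h | h
    · exact Or.inl h
    · exact Or.inr (Or.inl h)

theorem isCNGroup (hm : 1 ≤ m) : Cfsg.IsCNGroup ↥(Cfsg.Sz F m) := by
  obtain ⟨Ap, Am, cp, -, up, -, cm, -, um, -, hall⟩ := classify hF hm
  haveI : Fact (Nat.Prime 2) := ⟨Nat.prime_two⟩
  intro g hg
  have main : ∀ H : Subgroup ↥(Cfsg.Sz F m), Group.IsNilpotent H →
      (∀ h ∈ H, h ≠ 1 → Subgroup.centralizer ({h} : Set ↥(Cfsg.Sz F m)) ≤ H) → g ∈ conjSet H →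
      Group.IsNilpotent (Subgroup.centralizer ({g} : Set ↥(Cfsg.Sz F m))) := by
    intro H hN hle hgH
    obtain ⟨hg1, k, hk⟩ := hgH
    have hsub := centralizer_le_map_conj H hle hg1 hk
    haveI := hN
    let f : Subgroup.centralizer ({g} : Set ↥(Cfsg.Sz F m)) →* H :=
      ((MulAut.conj k⁻¹).toMonoidHom.comp (Subgroup.subtype _)).codRestrict H (fun y => by
        have := (mem_map_conj_iff H k _).mp (hsub y.2)
        simpa using this)
    have hinj : Function.Injective f := fun a b h => by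
      have h' := congrArg Subtype.val h
      exact Subtype.ext ((MulAut.conj k⁻¹).injective h')
    exact Subgroup.isNilpotent_of_ker_le_center f (by rw [(MonoidHom.ker_eq_bot_iff f).mpr hinj]; exact bot_le)
  have cyc : ∀ H : Subgroup ↥(Cfsg.Sz F m), IsCyclic H → Group.IsNilpotent H := by
    intro H hH
    letI : CommGroup H := IsCyclic.commGroup
    exact CommGroup.isNilpotent
  rcases hall g hg with h | h | h | h
  · exact main _ (U_isPGroup hF).isNilpotent (fun u hu h1 => centralizer_unipotent hF hm hu h1) h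
  · exact main _ (cyc _ (isCyclic_T hF)) (centralizer_T_le hF hm) h
  · exact main _ (cyc _ cp) (fun u hu h1 => (up u hu h1).le) h
  · exact main _ (cyc _ cm) (fun u hu h1 => (um u hu h1).le) h

theorem isCyclic_sylow_odd (hm : 1 ≤ m) {p : ℕ} [hp' : Fact p.Prime] (hp : p ≠ 2)
    (P : Sylow p ↥(Cfsg.Sz F m)) : IsCyclic P := by
  obtain ⟨Ap, Am, cp, hAp, -, -, cm, hAm, -, -, -⟩ := classify hF hm
  obtain ⟨c1, c2, c3, c4, c5, c6⟩ := coprime_orders hF hm _ _ _ rfl rfl rfl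
  obtain ⟨hprod, hsq, hs4, hq8, -, -, -⟩ := arith hF hm _ _ rfl rfl
  have hG : Nat.card ↥(Cfsg.Sz F m) = (2 ^ (2 * m + 1)) ^ 2 * (2 ^ (2 * m + 1) - 1) *
      (2 ^ (2 * m + 1) + 2 ^ (m + 1) + 1) * (2 ^ (2 * m + 1) - 2 ^ (m + 1) + 1) := by
    rw [card_Sz hF hm, mul_assoc _ (2 ^ (2 * m + 1) + 2 ^ (m + 1) + 1), hprod]; ring
  have hodd : ¬ p ∣ (2 ^ (2 * m + 1)) ^ 2 := fun h =>
    hp ((Nat.prime_dvd_prime_iff_eq hp'.out Nat.prime_two).mp
      (hp'.out.dvd_of_dvd_pow (hp'.out.dvd_of_dvd_pow h)))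
  have main : ∀ H : Subgroup ↥(Cfsg.Sz F m), IsCyclic H → ∀ r : ℕ,
      Nat.card ↥(Cfsg.Sz F m) = Nat.card H * r → ¬ p ∣ r → IsCyclic P := by
    intro H hH r hr hpr
    haveI := hH
    let Q : Sylow p H := default
    have hidx : ¬ p ∣ ((Q : Subgroup H).map H.subtype).index := by
      rw [Subgroup.index_map_subtype]
      intro hd
      rcases hp'.out.dvd_mul.mp hd with h | h
      · exact Q.not_dvd_index h
      · have : H.index = r := by
          have h' := Subgroup.card_mul_index H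
          rw [hr] at h'
          exact Nat.eq_of_mul_eq_mul_left Nat.card_pos h'
        exact hpr (this ▸ h)
    let Q' : Sylow p ↥(Cfsg.Sz F m) := IsPGroup.toSylow (Q.isPGroup'.map H.subtype) hidx
    haveI : IsCyclic (Q : Subgroup H) := inferInstance
    haveI : IsCyclic (Q' : Subgroup ↥(Cfsg.Sz F m)) :=
      isCyclic_of_surjective _ ((Q : Subgroup H).equivMapOfInjective _ H.subtype_injective).surjective
    exact isCyclic_of_surjective _ (Sylow.equiv Q' P).surjective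
  by_cases h1 : p ∣ 2 ^ (2 * m + 1) - 1
  · refine main (T hF) (isCyclic_T hF)
      ((2 ^ (2 * m + 1)) ^ 2 * (2 ^ (2 * m + 1) + 2 ^ (m + 1) + 1) * (2 ^ (2 * m + 1) - 2 ^ (m + 1) + 1))
      (by rw [hG, card_T]; ring) ?_
    intro h
    rcases hp'.out.dvd_mul.mp h with h' | h'
    · rcases hp'.out.dvd_mul.mp h' with h'' | h''
      · exact hodd h''
      · exact hp'.out.ne_one (Nat.eq_one_of_dvd_coprimes c4 h1 h'')
    · exact hp'.out.ne_one (Nat.eq_one_of_dvd_coprimes c5 h1 h')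
  by_cases h2 : p ∣ 2 ^ (2 * m + 1) + 2 ^ (m + 1) + 1
  · refine main Ap cp
      ((2 ^ (2 * m + 1)) ^ 2 * (2 ^ (2 * m + 1) - 1) * (2 ^ (2 * m + 1) - 2 ^ (m + 1) + 1))
      (by rw [hG, hAp]; ring) ?_
    intro h
    rcases hp'.out.dvd_mul.mp h with h' | h'
    · rcases hp'.out.dvd_mul.mp h' with h'' | h''
      · exact hodd h''
      · exact h1 h''
    · exact hp'.out.ne_one (Nat.eq_one_of_dvd_coprimes c6 h2 h')
  refine main Am cm
    ((2 ^ (2 * m + 1)) ^ 2 * (2 ^ (2 * m + 1) - 1) * (2 ^ (2 * m + 1) + 2 ^ (m + 1) + 1))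
    (by rw [hG, hAm]; ring) ?_
  intro h
  rcases hp'.out.dvd_mul.mp h with h' | h'
  · rcases hp'.out.dvd_mul.mp h' with h'' | h''
    · exact hodd h''
    · exact h1 h''
  · exact h2 h'

/-- The partition property. -/
theorem partition (hm : 1 ≤ m) (g : ↥(Cfsg.Sz F m)) (hg : g ≠ 1) :
    ∃! V : Subgroup ↥(Cfsg.Sz F m),
      ((∃ P : Sylow 2 ↥(Cfsg.Sz F m), V = (P : Subgroup ↥(Cfsg.Sz F m))) ∨
        (IsCyclic ↥V ∧ Nat.card ↥V ∈ ({2 ^ (2 * m + 1) - 1, 2 ^ (2 * m + 1) + 2 ^ (m + 1) + 1,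
          2 ^ (2 * m + 1) - 2 ^ (m + 1) + 1} : Set ℕ))) ∧ g ∈ V := by
  haveI : Fact (Nat.Prime 2) := ⟨Nat.prime_two⟩
  obtain ⟨Ap, Am, cp, hAp, up, -, cm, hAm, um, -, hall⟩ := classify hF hm
  obtain ⟨c1, c2, c3, c4, c5, c6⟩ := coprime_orders hF hm _ _ _ rfl rfl rfl
  obtain ⟨-, hsq, hs4, hq8, -, -, -⟩ := arith hF hm _ _ rfl rfl
  have hconj : ∀ {H : Subgroup ↥(Cfsg.Sz F m)} (k : ↥(Cfsg.Sz F m)), IsCyclic H →
      IsCyclic (H.map (MulAut.conj k).toMonoidHom) := by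
    intro H k hH
    haveI := hH
    exact isCyclic_of_surjective _ (H.equivMapOfInjective (MulAut.conj k).toMonoidHom
      (MulAut.conj k).injective).surjective
  have sylConj : ∀ P : Sylow 2 ↥(Cfsg.Sz F m), g ∈ (P : Subgroup ↥(Cfsg.Sz F m)) →
      g ∈ conjSet (U hF) := by
    intro P hP
    obtain ⟨k, hk⟩ := exists_conj_eq hF hm P
    exact ⟨hg, k, (mem_map_conj_iff _ _ _).mp (hk ▸ hP)⟩
  -- uniqueness for the cyclic candidates
  have cycUniq : ∀ H : Subgroup ↥(Cfsg.Sz F m),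
      (∀ h ∈ H, h ≠ 1 → Subgroup.centralizer ({h} : Set ↥(Cfsg.Sz F m)) ≤ H) →
      ∀ k : ↥(Cfsg.Sz F m), k⁻¹ * g * k ∈ H →
      Nat.Coprime (Nat.card H) ((2 ^ (2 * m + 1)) ^ 2) →
      (∀ n ∈ ({2 ^ (2 * m + 1) - 1, 2 ^ (2 * m + 1) + 2 ^ (m + 1) + 1,
          2 ^ (2 * m + 1) - 2 ^ (m + 1) + 1} : Set ℕ), n ≠ Nat.card H → Nat.Coprime (Nat.card H) n) →
      ∀ V : Subgroup ↥(Cfsg.Sz F m),
        ((∃ P : Sylow 2 ↥(Cfsg.Sz F m), V = (P : Subgroup ↥(Cfsg.Sz F m))) ∨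
          (IsCyclic ↥V ∧ Nat.card ↥V ∈ ({2 ^ (2 * m + 1) - 1, 2 ^ (2 * m + 1) + 2 ^ (m + 1) + 1,
            2 ^ (2 * m + 1) - 2 ^ (m + 1) + 1} : Set ℕ))) ∧ g ∈ V →
        V = H.map (MulAut.conj k).toMonoidHom := by
    intro H hle k hk hcop hcop' V hV
    have hord : orderOf g ∣ Nat.card H := orderOf_dvd_of_conjSet H ⟨hg, k, hk⟩
    obtain ⟨⟨P, rfl⟩ | ⟨hcyc, hcard⟩, hgV⟩ := hV
    · exfalso
      have h2 := orderOf_dvd_of_conjSet _ (sylConj P hgV)
      rw [card_U] at h2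
      exact hg (orderOf_eq_one_iff.mp (Nat.eq_one_of_dvd_coprimes hcop hord h2))
    · haveI := hcyc
      letI : CommGroup V := IsCyclic.commGroup
      have hVC : V ≤ Subgroup.centralizer ({g} : Set ↥(Cfsg.Sz F m)) := fun y hy => by
        rw [Subgroup.mem_centralizer_singleton_iff]
        exact congrArg Subtype.val (mul_comm (⟨y, hy⟩ : V) ⟨g, hgV⟩)
      have hVH := hVC.trans (centralizer_le_map_conj H hle hg hk)
      refine Subgroup.eq_of_le_of_card_ge hVH ?_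
      rw [card_map_conj]
      by_contra hlt
      push Not at hlt
      have hd : Nat.card V ∣ Nat.card H := card_map_conj H k ▸ Subgroup.card_dvd_of_le hVH
      have h1 := Nat.eq_one_of_dvd_coprimes (hcop' _ hcard hlt.ne) hd dvd_rfl
      have : g = 1 := by
        haveI : Subsingleton V := (Nat.card_eq_one_iff_unique.mp h1).1
        exact congrArg Subtype.val (Subsingleton.elim (⟨g, hgV⟩ : V) 1)
      exact hg this
  rcases hall g hg with ⟨-, k, hk⟩ | ⟨-, k, hk⟩ | ⟨-, k, hk⟩ | ⟨-, k, hk⟩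
  · let P : Sylow 2 ↥(Cfsg.Sz F m) := k • Usyl hF hm
    have hP : (P : Subgroup ↥(Cfsg.Sz F m)) = (U hF).map (MulAut.conj k).toMonoidHom := by
      show ((k • Usyl hF hm : Sylow 2 ↥(Cfsg.Sz F m)) : Subgroup ↥(Cfsg.Sz F m)) = _
      rw [Sylow.coe_subgroup_smul, coe_Usyl]
      rfl
    refine ⟨(U hF).map (MulAut.conj k).toMonoidHom,
      ⟨Or.inl ⟨P, hP.symm⟩, (mem_map_conj_iff _ _ _).mpr hk⟩, ?_⟩
    rintro V ⟨⟨Q, rfl⟩ | ⟨hcyc, hcard⟩, hgV⟩
    · obtain ⟨l, hl⟩ := exists_conj_eq hF hm Q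
      have hgl : l⁻¹ * g * l ∈ U hF := (mem_map_conj_iff _ _ _).mp (hl ▸ hgV)
      have hfix := conj_fix_inf hF (x := l⁻¹ * k) hk (fun e => hg (by
          have := congrArg (fun w => k * w * k⁻¹) e
          simpa [mul_assoc] using this)) (by
        have e : l⁻¹ * k * (k⁻¹ * g * k) * (l⁻¹ * k)⁻¹ = l⁻¹ * g * l := by group
        rw [e]; exact hgl)
      have hn : l⁻¹ * k ∈ Subgroup.normalizer (U hF : Set ↥(Cfsg.Sz F m)) := by
        rw [normalizer_U hF hm]; exact hfix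
      rw [hl]
      ext y
      rw [mem_map_conj_iff, mem_map_conj_iff]
      rw [Subgroup.mem_normalizer_iff.mp hn (k⁻¹ * y * k)]
      have e : l⁻¹ * k * (k⁻¹ * y * k) * (l⁻¹ * k)⁻¹ = l⁻¹ * y * l := by group
      rw [e]
    · exfalso
      have h1 : orderOf g ∣ Nat.card V := Subgroup.orderOf_dvd_natCard V hgV
      have h2 := orderOf_dvd_of_conjSet _ (⟨hg, k, hk⟩ : g ∈ conjSet (U hF))
      rw [card_U] at h2
      have hc : Nat.Coprime ((2 ^ (2 * m + 1)) ^ 2) (Nat.card V) := by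
        rcases hcard with h | h | h <;> rw [h] <;> assumption
      exact hg (orderOf_eq_one_iff.mp (Nat.eq_one_of_dvd_coprimes hc h2 h1))
  · refine ⟨_, ⟨Or.inr ⟨hconj k (isCyclic_T hF), by rw [card_map_conj, card_T]; simp⟩,
      (mem_map_conj_iff _ _ _).mpr hk⟩, cycUniq _ (centralizer_T_le hF hm) k hk
      (by rw [card_T]; exact c1.symm) ?_⟩
    rintro n (rfl | rfl | rfl) hne <;> rw [card_T] at hne ⊢
    · exact absurd rfl hne
    · exact c4
    · exact c5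
  · refine ⟨_, ⟨Or.inr ⟨hconj k cp, by rw [card_map_conj, hAp]; simp⟩,
      (mem_map_conj_iff _ _ _).mpr hk⟩, cycUniq _ (fun u hu h1 => (up u hu h1).le) k hk
      (by rw [hAp]; exact c2.symm) ?_⟩
    rintro n (rfl | rfl | rfl) hne <;> rw [hAp] at hne ⊢
    · exact c4.symm
    · exact absurd rfl hne
    · exact c6
  · refine ⟨_, ⟨Or.inr ⟨hconj k cm, by rw [card_map_conj, hAm]; simp⟩,
      (mem_map_conj_iff _ _ _).mpr hk⟩, cycUniq _ (fun u hu h1 => (um u hu h1).le) k hk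
      (by rw [hAm]; exact c3.symm) ?_⟩
    rintro n (rfl | rfl | rfl) hne <;> rw [hAm] at hne ⊢
    · exact c5.symm
    · exact c6.symm
    · exact absurd rfl hne

end CfsgLib.Suzuki
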