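/-
Semisimple and unipotent elements of the Suzuki group, with a view to its subgroups.
-/
import Mathlib
import Cfsg.Prelude.Def_LieExceptional
import Cfsg.Agent.Lib.Suzuki.Partition

namespace CfsgLib.Suzuki

open Cfsg
open scoped Pointwise

variable {F : Type*} [Field F] [Fintype F] {m : ℕ} (hF : Fintype.card F = 2 ^ (2 * m + 1))
include hF

/-- A non-trivial element that is not unipotent. -/
def SS (z : ↥(Cfsg.Sz F m)) : Prop := z ≠ 1 ∧ z ∉ conjSet (U hF)

/-- The three possible orders of tori. -/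
def IsTorusOrder (m k : ℕ) : Prop :=
  k = 2 ^ (2 * m + 1) - 1 ∨ k = 2 ^ (2 * m + 1) + 2 ^ (m + 1) + 1 ∨
    k = 2 ^ (2 * m + 1) - 2 ^ (m + 1) + 1

theorem torusOrder_props (hm : 1 ≤ m) {k : ℕ} (hk : IsTorusOrder m k) :
    Nat.Coprime ((2 ^ (2 * m + 1)) ^ 2) k ∧ 5 ≤ k ∧ ¬ 2 ∣ k ∧ ¬ 3 ∣ k := by
  obtain ⟨c1, c2, c3, -, -, -⟩ := coprime_orders hF hm _ _ _ rfl rfl rfl
  obtain ⟨hprod, hsq, hs4, hq8, hq3, hq2, -⟩ := arith hF hm _ _ rfl rfl
  have hs2 : 2 ^ (m + 1) % 2 = 0 := by rw [pow_succ]; omega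
  have h3 : ∀ j, j ∣ (2 ^ (2 * m + 1)) ^ 2 + 1 → ¬ 3 ∣ j := by
    intro j hj h
    have := h.trans hj
    have e : (2 ^ (2 * m + 1)) ^ 2 % 3 = 1 := by rw [Nat.pow_mod, hq3]
    omega
  rcases hk with rfl | rfl | rfl
  · exact ⟨c1, by omega, by omega, by omega⟩
  · exact ⟨c2, by omega, by omega, h3 _ (Dvd.intro _ hprod)⟩
  · have hge : 5 ≤ 2 ^ (2 * m + 1) - 2 ^ (m + 1) + 1 := by
      have hne : 2 ^ (2 * m + 1) - 2 ^ (m + 1) + 1 ≠ 3 := by
        intro h
        exact h3 _ (Dvd.intro_left _ hprod) (by rw [h])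
      omega
    exact ⟨c3, hge, by omega, h3 _ (Dvd.intro_left _ hprod)⟩

theorem ss_of_torus (hm : 1 ≤ m) {A : Subgroup ↥(Cfsg.Sz F m)} (hA : IsTorusOrder m (Nat.card A))
    {a : ↥(Cfsg.Sz F m)} (ha : a ∈ A) (h1 : a ≠ 1) : SS hF a := by
  refine ⟨h1, fun h => h1 (orderOf_eq_one_iff.mp ?_)⟩
  have h2 := orderOf_dvd_of_conjSet _ h
  rw [card_U] at h2
  exact Nat.eq_one_of_dvd_coprimes (torusOrder_props hF hm hA).1 h2 (Subgroup.orderOf_dvd_natCard A ha)

/-- The torus through a semisimple element. -/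
theorem ss_data (hm : 1 ≤ m) {z : ↥(Cfsg.Sz F m)} (hz : SS hF z) :
    ∃ c : ℕ, (c = 2 ∨ c = 4) ∧ IsCyclic (Subgroup.centralizer ({z} : Set ↥(Cfsg.Sz F m))) ∧
      IsTorusOrder m (Nat.card (Subgroup.centralizer ({z} : Set ↥(Cfsg.Sz F m)))) ∧
      Nat.card (Subgroup.normalizer
        (Subgroup.centralizer ({z} : Set ↥(Cfsg.Sz F m)) : Set ↥(Cfsg.Sz F m))) =
        c * Nat.card (Subgroup.centralizer ({z} : Set ↥(Cfsg.Sz F m))) := by
  obtain ⟨Ap, Am, cp, hAp, up, np, cm, hAm, um, nm, hall⟩ := classify hF hm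
  have main : ∀ (H : Subgroup ↥(Cfsg.Sz F m)) (c : ℕ), IsCyclic H →
      (∀ h ∈ H, h ≠ 1 → Subgroup.centralizer ({h} : Set ↥(Cfsg.Sz F m)) ≤ H) →
      IsTorusOrder m (Nat.card H) →
      Nat.card (Subgroup.normalizer (H : Set ↥(Cfsg.Sz F m))) = c * Nat.card H →
      (c = 2 ∨ c = 4) → z ∈ conjSet H → ∃ c : ℕ, (c = 2 ∨ c = 4) ∧
        IsCyclic (Subgroup.centralizer ({z} : Set ↥(Cfsg.Sz F m))) ∧
        IsTorusOrder m (Nat.card (Subgroup.centralizer ({z} : Set ↥(Cfsg.Sz F m)))) ∧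
        Nat.card (Subgroup.normalizer
          (Subgroup.centralizer ({z} : Set ↥(Cfsg.Sz F m)) : Set ↥(Cfsg.Sz F m))) =
          c * Nat.card (Subgroup.centralizer ({z} : Set ↥(Cfsg.Sz F m))) := by
    intro H c hcyc hle hord hN hc hzH
    obtain ⟨hz1, k, hk⟩ := hzH
    haveI := hcyc
    have heq : Subgroup.centralizer ({z} : Set ↥(Cfsg.Sz F m)) =
        H.map (MulAut.conj k).toMonoidHom := by
      refine le_antisymm (centralizer_le_map_conj H hle hz1 hk) ?_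
      letI : CommGroup H := IsCyclic.commGroup
      intro y hy
      rw [mem_map_conj_iff] at hy
      rw [Subgroup.mem_centralizer_singleton_iff]
      have h := congrArg Subtype.val (mul_comm (⟨_, hy⟩ : H) ⟨_, hk⟩)
      have h' : k⁻¹ * y * k * (k⁻¹ * z * k) = k⁻¹ * z * k * (k⁻¹ * y * k) := h
      calc y * z = k * (k⁻¹ * y * k * (k⁻¹ * z * k)) * k⁻¹ := by group
        _ = k * (k⁻¹ * z * k * (k⁻¹ * y * k)) * k⁻¹ := by rw [h']
        _ = z * y := by group
    rw [heq]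
    refine ⟨c, hc, ?_, by rw [card_map_conj]; exact hord, ?_⟩
    · exact isCyclic_of_surjective _ (H.equivMapOfInjective (MulAut.conj k).toMonoidHom
        (MulAut.conj k).injective).surjective
    · rw [← Subgroup.map_equiv_normalizer_eq, card_map_conj, card_map_conj, hN]
  rcases hall z hz.1 with h | h | h | h
  · exact absurd h hz.2
  · exact main (T hF) 2 (isCyclic_T hF) (centralizer_T_le hF hm) (Or.inl (card_T hF))
      (by rw [card_normalizer_T hF hm, card_T]) (Or.inl rfl) h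
  · exact main Ap 4 cp (fun u hu h1 => (up u hu h1).le) (Or.inr (Or.inl hAp)) (by rw [np, hAp])
      (Or.inr rfl) h
  · exact main Am 4 cm (fun u hu h1 => (um u hu h1).le) (Or.inr (Or.inr hAm)) (by rw [nm, hAm])
      (Or.inr rfl) h

theorem ss_centralizer_eq (hm : 1 ≤ m) {z a : ↥(Cfsg.Sz F m)} (hz : SS hF z)
    (ha : a ∈ Subgroup.centralizer ({z} : Set ↥(Cfsg.Sz F m))) (h1 : a ≠ 1) :
    SS hF a ∧ Subgroup.centralizer ({a} : Set ↥(Cfsg.Sz F m)) =
      Subgroup.centralizer ({z} : Set ↥(Cfsg.Sz F m)) := by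
  obtain ⟨c, -, hcyc, hord, -⟩ := ss_data hF hm hz
  set A := Subgroup.centralizer ({z} : Set ↥(Cfsg.Sz F m)) with hA
  have hsa := ss_of_torus hF hm hord ha h1
  obtain ⟨c', -, hcyc', -, -⟩ := ss_data hF hm hsa
  haveI := hcyc
  haveI := hcyc'
  letI : CommGroup A := IsCyclic.commGroup
  letI : CommGroup (Subgroup.centralizer ({a} : Set ↥(Cfsg.Sz F m))) := IsCyclic.commGroup
  have hzA : z ∈ A := by rw [hA, Subgroup.mem_centralizer_singleton_iff]
  have hcomm : ∀ b ∈ A, ∀ d ∈ A, b * d = d * b := fun b hb d hd =>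
    congrArg Subtype.val (mul_comm (⟨b, hb⟩ : A) ⟨d, hd⟩)
  refine ⟨hsa, le_antisymm ?_ fun b hb => ?_⟩
  · intro b hb
    have hza : z ∈ Subgroup.centralizer ({a} : Set ↥(Cfsg.Sz F m)) := by
      rw [Subgroup.mem_centralizer_singleton_iff]; exact hcomm _ hzA _ ha
    rw [hA, Subgroup.mem_centralizer_singleton_iff]
    exact congrArg Subtype.val (mul_comm (⟨b, hb⟩ : Subgroup.centralizer ({a} : Set _)) ⟨z, hza⟩)
  · rw [Subgroup.mem_centralizer_singleton_iff]; exact hcomm b hb a ha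

/-- An element conjugating a semisimple element into its torus normalises the torus. -/
theorem ss_normalizer (hm : 1 ≤ m) {z a x : ↥(Cfsg.Sz F m)} (hz : SS hF z)
    (ha : a ∈ Subgroup.centralizer ({z} : Set ↥(Cfsg.Sz F m))) (h1 : a ≠ 1)
    (hx : x * a * x⁻¹ ∈ Subgroup.centralizer ({z} : Set ↥(Cfsg.Sz F m))) :
    x ∈ Subgroup.normalizer (Subgroup.centralizer ({z} : Set ↥(Cfsg.Sz F m)) : Set ↥(Cfsg.Sz F m)) := by
  have e1 := (ss_centralizer_eq hF hm hz ha h1).2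
  have e2 := (ss_centralizer_eq hF hm hz hx (fun e => h1 (by
    have := congrArg (fun w => x⁻¹ * w * x) e
    simpa [mul_assoc] using this))).2
  rw [Subgroup.mem_normalizer_iff]
  intro y
  calc y ∈ Subgroup.centralizer ({z} : Set ↥(Cfsg.Sz F m))
      ↔ y * a = a * y := by rw [← e1, Subgroup.mem_centralizer_singleton_iff]
    _ ↔ x * y * x⁻¹ * (x * a * x⁻¹) = x * a * x⁻¹ * (x * y * x⁻¹) := by
        constructor
        · intro e
          calc _ = x * (y * a) * x⁻¹ := by group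
            _ = x * (a * y) * x⁻¹ := by rw [e]
            _ = _ := by group
        · intro e
          calc y * a = x⁻¹ * (x * y * x⁻¹ * (x * a * x⁻¹)) * x := by group
            _ = x⁻¹ * (x * a * x⁻¹ * (x * y * x⁻¹)) * x := by rw [e]
            _ = a * y := by group
    _ ↔ _ := by rw [← Subgroup.mem_centralizer_singleton_iff, e2]

theorem ss_orderOf_odd (hm : 1 ≤ m) {z : ↥(Cfsg.Sz F m)} (hz : SS hF z) : ¬ 2 ∣ orderOf z := by
  obtain ⟨c, -, -, hord, -⟩ := ss_data hF hm hz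
  intro h
  exact (torusOrder_props hF hm hord).2.2.1
    (h.trans (Subgroup.orderOf_dvd_natCard _ (Subgroup.mem_centralizer_singleton_iff.mpr rfl)))

/-- A unipotent element fixes exactly one point of the ovoid. -/
theorem unip_fix (hm : 1 ≤ m) {z : ↥(Cfsg.Sz F m)} (hz : z ∈ conjSet (U hF)) :
    ∃ p ∈ suzukiOvoid F m, z • p = p ∧ ∀ r ∈ suzukiOvoid F m, z • r = r → r = p := by
  obtain ⟨hz1, k, hk⟩ := hz
  refine ⟨k • suzukiPointInfinity F, smul_mem_ovoid k.2 inf_mem, ?_, ?_⟩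
  · obtain ⟨a, b, hab⟩ := hk
    have h : (k⁻¹ * z * k) • suzukiPointInfinity F = suzukiPointInfinity F := by
      rw [hab]; exact smul_uS_inf hF a b
    rwa [mul_smul, mul_smul, inv_smul_eq_iff] at h
  · intro r hr hzr
    have h : (k⁻¹ * z * k) • (k⁻¹ • r) = k⁻¹ • r := by
      rw [mul_smul, mul_smul, smul_inv_smul, hzr]
    have := fix_unique hF hk (fun e => hz1 (by
      have := congrArg (fun w => k * w * k⁻¹) e
      simpa [mul_assoc] using this)) (smul_mem_ovoid (k⁻¹ : ↥(Cfsg.Sz F m)).2 hr :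
        k⁻¹ • r ∈ suzukiOvoid F m) h
    have h' : k⁻¹ • r = suzukiPointInfinity F := this
    rw [← h', smul_inv_smul]

theorem invol_unip (hm : 1 ≤ m) {j : ↥(Cfsg.Sz F m)} (h1 : j ≠ 1) (h2 : j * j = 1) :
    j ∈ conjSet (U hF) := by
  by_contra h
  refine ss_orderOf_odd hF hm ⟨h1, h⟩ ?_
  rw [orderOf_eq_prime (p := 2) (by rw [sq]; exact h2) h1]

end CfsgLib.Suzuki
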