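/-
Additive maps compatible with the squaring map of the Suzuki 2-group are semilinear.
-/
import Mathlib
import Cfsg.Agent.Lib.Suzuki.Basic

namespace CfsgLib.Suzuki

open Polynomial

variable {F : Type*} [Field F] [Fintype F] {m : ℕ} (hF : Fintype.card F = 2 ^ (2 * m + 1))
include hF

theorem pow_pow_mod (a : F) (x : ℕ) : a ^ 2 ^ x = a ^ 2 ^ ((x : ZMod (2 * m + 1)).val) := by
  rw [ZMod.val_natCast]
  conv_lhs => rw [← Nat.mod_add_div x (2 * m + 1), pow_add, pow_mul, pow_mul, ← hF]
  generalize (x / (2 * m + 1)) = k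
  generalize a ^ 2 ^ (x % (2 * m + 1)) = b
  induction k with
  | zero => simp
  | succ k ih => rw [pow_succ, pow_mul, ih, FiniteField.pow_card]

theorem th_pow_two (a : F) (i : ZMod (2 * m + 1)) :
    th m (a ^ 2 ^ i.val) = a ^ 2 ^ (i + (m + 1 : ℕ)).val := by
  rw [th, ← pow_mul, ← pow_add, pow_pow_mod hF]
  congr 3
  push_cast
  rw [ZMod.natCast_zmod_val]

omit [Field F] [Fintype F] hF in
/-- The exponent attached to a pair of indices. -/
def expo {n : ℕ} (u v : ZMod n) : ℕ := if u = v then 2 ^ (u + 1).val else 2 ^ u.val + 2 ^ v.val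

omit [Field F] [Fintype F] hF in
theorem two_pow_add_inj {u v u' v' : ℕ} (h1 : v < u) (h2 : v' < u')
    (h : 2 ^ u + 2 ^ v = 2 ^ u' + 2 ^ v') : u = u' ∧ v = v' := by
  have key : ∀ {a b c d : ℕ}, b < a → d < c → 2 ^ a + 2 ^ b = 2 ^ c + 2 ^ d → ¬ a < c := by
    intro a b c d hab _ he hac
    have h3 : 2 ^ b < 2 ^ a := Nat.pow_lt_pow_right (by norm_num) hab
    have h4 : 2 ^ (a + 1) ≤ 2 ^ c := Nat.pow_le_pow_right (by norm_num) hac
    rw [pow_succ] at h4
    have := Nat.two_pow_pos d
    omega
  have e : u = u' := by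
    have := key h1 h2 h
    have := key h2 h1 h.symm
    omega
  subst e
  exact ⟨rfl, Nat.pow_right_injective le_rfl (Nat.add_left_cancel h)⟩

omit [Field F] [Fintype F] hF in
theorem two_pow_add_ne {u v w : ℕ} (h1 : v < u) : 2 ^ u + 2 ^ v ≠ 2 ^ w := by
  intro h
  have h3 : 2 ^ v < 2 ^ u := Nat.pow_lt_pow_right (by norm_num) h1
  have := Nat.two_pow_pos v
  rcases lt_trichotomy u w with h4 | h4 | h4
  · have h5 : 2 ^ (u + 1) ≤ 2 ^ w := Nat.pow_le_pow_right (by norm_num) h4
    rw [pow_succ] at h5
    omega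
  · subst h4; omega
  · have h5 : 2 ^ w < 2 ^ u := Nat.pow_lt_pow_right (by norm_num) h4
    omega

omit [Field F] [Fintype F] hF in
theorem expo_inj {n : ℕ} [NeZero n] {u v u' v' : ZMod n} (h : expo u v = expo u' v') :
    (u = u' ∧ v = v') ∨ (u = v' ∧ v = u') := by
  unfold expo at h
  split_ifs at h with h1 h2 h2
  · have := ZMod.val_injective n (Nat.pow_right_injective le_rfl h)
    have e : u = u' := add_right_cancel this
    exact Or.inl ⟨e, by rw [← h1, e, h2]⟩
  · exfalso
    rcases lt_or_gt_of_ne (fun e => h2 (ZMod.val_injective n e)) with h3 | h3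
    · rw [add_comm (2 ^ u'.val)] at h; exact two_pow_add_ne h3 h.symm
    · exact two_pow_add_ne h3 h.symm
  · exfalso
    rcases lt_or_gt_of_ne (fun e => h1 (ZMod.val_injective n e)) with h3 | h3
    · rw [add_comm (2 ^ u.val)] at h; exact two_pow_add_ne h3 h
    · exact two_pow_add_ne h3 h
  · rcases lt_or_gt_of_ne (fun e => h1 (ZMod.val_injective n e)) with h3 | h3 <;>
      rcases lt_or_gt_of_ne (fun e => h2 (ZMod.val_injective n e)) with h4 | h4
    · obtain ⟨e1, e2⟩ := two_pow_add_inj h3 h4 (by omega)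
      exact Or.inl ⟨ZMod.val_injective n e2, ZMod.val_injective n e1⟩
    · obtain ⟨e1, e2⟩ := two_pow_add_inj h3 h4 (by omega)
      exact Or.inr ⟨ZMod.val_injective n e2, ZMod.val_injective n e1⟩
    · obtain ⟨e1, e2⟩ := two_pow_add_inj h3 h4 (by omega)
      exact Or.inr ⟨ZMod.val_injective n e1, ZMod.val_injective n e2⟩
    · obtain ⟨e1, e2⟩ := two_pow_add_inj h3 h4 h
      exact Or.inl ⟨ZMod.val_injective n e1, ZMod.val_injective n e2⟩

omit [Field F] [Fintype F] hF in
theorem expo_lt {n : ℕ} [NeZero n] (u v : ZMod n) : expo u v < 2 ^ n := by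
  unfold expo
  split_ifs with h
  · exact Nat.pow_lt_pow_right (by norm_num) (ZMod.val_lt _)
  · rcases lt_or_gt_of_ne (fun e => h (ZMod.val_injective n e)) with h3 | h3
    · have := Nat.pow_lt_pow_right (show 1 < 2 by norm_num) h3
      have h4 : 2 ^ (v.val + 1) ≤ 2 ^ n := Nat.pow_le_pow_right (by norm_num) (ZMod.val_lt v)
      rw [pow_succ] at h4
      omega
    · have := Nat.pow_lt_pow_right (show 1 < 2 by norm_num) h3
      have h4 : 2 ^ (u.val + 1) ≤ 2 ^ n := Nat.pow_le_pow_right (by norm_num) (ZMod.val_lt u)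
      rw [pow_succ] at h4
      omega

theorem pow_expo (a : F) (u v : ZMod (2 * m + 1)) :
    a ^ 2 ^ u.val * a ^ 2 ^ v.val = a ^ expo u v := by
  unfold expo
  split_ifs with h
  · subst h
    rw [← pow_add, ← two_mul, ← pow_succ', pow_pow_mod hF]
    congr 3
    push_cast
    rw [ZMod.natCast_zmod_val]
  · rw [pow_add]

theorem card_addHom : Nat.card (F →+ F) = (2 ^ (2 * m + 1)) ^ (2 * m + 1) := by
  haveI := charTwo hF
  haveI : Fact (Nat.Prime 2) := ⟨Nat.prime_two⟩
  letI : Algebra (ZMod 2) F := ZMod.algebra F 2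
  let e : (F →+ F) ≃ (F →ₗ[ZMod 2] F) :=
    { toFun := fun f => f.toZModLinearMap 2
      invFun := fun f => f.toAddMonoidHom
      left_inv := fun f => by ext; rfl
      right_inv := fun f => by ext; rfl }
  have hfin : Module.finrank (ZMod 2) F = 2 * m + 1 := by
    apply Nat.pow_right_injective (le_refl 2)
    show 2 ^ Module.finrank (ZMod 2) F = 2 ^ (2 * m + 1)
    rw [← hF, Module.card_eq_pow_finrank (K := ZMod 2), ZMod.card]
  rw [Nat.card_congr e, Module.natCard_eq_pow_finrank (K := ZMod 2), Module.finrank_linearMap, hfin,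
    Nat.card_zmod, ← pow_mul]

/-- Every additive map is a linearised polynomial. -/
theorem exists_linearised (L : F →+ F) :
    ∃ l : ZMod (2 * m + 1) → F, ∀ a, L a = ∑ i, l i * a ^ 2 ^ i.val := by
  classical
  haveI := charTwo hF
  let Φ : (ZMod (2 * m + 1) → F) → (F →+ F) := fun l =>
    AddMonoidHom.mk' (fun a => ∑ i, l i * a ^ 2 ^ i.val) (fun a b => by
      rw [← Finset.sum_add_distrib]
      refine Finset.sum_congr rfl fun i _ => ?_
      rw [add_pow_char_pow a b 2, mul_add])
  have hinj : Function.Injective Φ := by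
    intro l l' h
    let P : F[X] := ∑ i : ZMod (2 * m + 1), C (l i - l' i) * X ^ (2 ^ i.val)
    have hP : P = 0 := by
      refine Polynomial.eq_zero_of_natDegree_lt_card_of_eval_eq_zero P Function.injective_id
        (fun a => ?_) ?_
      · have h' : (∑ i, l i * a ^ 2 ^ i.val) = ∑ i, l' i * a ^ 2 ^ i.val :=
          DFunLike.congr_fun h a
        simp only [P, id_eq, eval_finset_sum, eval_mul, eval_C, eval_pow, eval_X, sub_mul,
          Finset.sum_sub_distrib, h', sub_self]
      · rw [hF]
        refine lt_of_le_of_lt (natDegree_sum_le_of_forall_le _ _ (n := 2 ^ (2 * m)) fun i _ => ?_)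
          (Nat.pow_lt_pow_right (by norm_num) (by omega))
        exact (natDegree_C_mul_X_pow_le _ _).trans
          (Nat.pow_le_pow_right (by norm_num) (by have := ZMod.val_lt i; omega))
    funext i
    have h' := congrArg (fun Q => coeff Q (2 ^ i.val)) hP
    simp only [P, finset_sum_coeff, coeff_C_mul_X_pow, coeff_zero] at h'
    rw [Finset.sum_eq_single i (fun j _ hj => by
      rw [if_neg]; intro he
      exact hj (ZMod.val_injective _ (Nat.pow_right_injective le_rfl he)).symm) (by simp)] at h'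
    simpa [sub_eq_zero] using h'
  haveI : Finite (F →+ F) := Finite.of_injective _ DFunLike.coe_injective
  have hsurj : Function.Surjective Φ := by
    refine ((Nat.bijective_iff_injective_and_card Φ).mpr ⟨hinj, ?_⟩).2
    rw [card_addHom hF, Nat.card_fun, Nat.card_eq_fintype_card (α := F), hF,
      Nat.card_zmod]
  obtain ⟨l, hl⟩ := hsurj L
  exact ⟨l, fun a => (DFunLike.congr_fun hl a).symm⟩

/-- Additive maps compatible with `a ↦ θ(a) a` are semilinear. -/
theorem semilinear (hm : 1 ≤ m) (L M : F →+ F) (hL : L ≠ 0)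
    (h : ∀ a, M (th m a * a) = th m (L a) * L a) :
    ∃ (i : ℕ) (c : F), i < 2 * m + 1 ∧ c ≠ 0 ∧ ∀ a, L a = c * a ^ 2 ^ i := by
  classical
  haveI := charTwo hF
  set n := 2 * m + 1 with hn
  obtain ⟨l, hl⟩ := exists_linearised hF L
  obtain ⟨μ, hμ⟩ := exists_linearised hF M
  set H : ZMod n := ((m + 1 : ℕ) : ZMod n) with hH
  have hH0 : H ≠ 0 := by
    rw [hH, Ne, ZMod.natCast_eq_zero_iff]
    intro hd
    have := Nat.le_of_dvd (by omega) hd
    omega
  have h2H : H + H = 1 := by
    rw [hH, ← Nat.cast_add, show m + 1 + (m + 1) = n + 1 by omega, Nat.cast_add, ZMod.natCast_self,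
      zero_add, Nat.cast_one]
  have key : ∀ a : F, ∑ p : ZMod n × ZMod n, th m (l p.1) * l p.2 * a ^ expo (p.1 + H) p.2 -
      ∑ k, μ k * a ^ expo (k + H) k = 0 := by
    intro a
    rw [sub_eq_zero, Fintype.sum_prod_type]
    have h1 := h a
    rw [hμ, hl] at h1
    have h2 : ∀ k : ZMod n, (th m a * a) ^ 2 ^ k.val = a ^ expo (k + H) k := by
      intro k
      rw [mul_pow, ← th_pow, th_pow_two hF, pow_expo hF]
    have h3 : th m (∑ i, l i * a ^ 2 ^ i.val) = ∑ i, th m (l i) * a ^ 2 ^ (i + H).val := by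
      let φ : F →+ F := AddMonoidHom.mk' (th m) (th_add hF)
      show φ _ = _
      rw [map_sum]
      exact Finset.sum_congr rfl fun i _ => by
        show th m (l i * a ^ 2 ^ i.val) = _
        rw [th_mul, th_pow_two hF]
    simp only [h2, h3, Finset.sum_mul, Finset.mul_sum] at h1
    rw [h1]
    conv_rhs => rw [Finset.sum_comm]
    refine Finset.sum_congr rfl fun i _ => Finset.sum_congr rfl fun j _ => ?_
    rw [← pow_expo hF a (i + H) j]
    ring
  let P : F[X] := ∑ p : ZMod n × ZMod n, C (th m (l p.1) * l p.2) * X ^ expo (p.1 + H) p.2 -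
    ∑ k, C (μ k) * X ^ expo (k + H) k
  have hP : P = 0 := by
    refine Polynomial.eq_zero_of_natDegree_lt_card_of_eval_eq_zero P Function.injective_id
      (fun a => ?_) ?_
    · simpa [P, eval_finset_sum] using key a
    · rw [hF]
      refine lt_of_le_of_lt (natDegree_sub_le_of_le
        (natDegree_sum_le_of_forall_le _ _ (n := 2 ^ n - 1) fun p _ =>
          (natDegree_C_mul_X_pow_le _ _).trans (Nat.le_sub_one_of_lt (expo_lt _ _)))
        (natDegree_sum_le_of_forall_le _ _ (n := 2 ^ n - 1) fun p _ =>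
          (natDegree_C_mul_X_pow_le _ _).trans (Nat.le_sub_one_of_lt (expo_lt _ _)))) ?_
      have := Nat.two_pow_pos n
      simp only [max_self]
      omega
  -- coefficient at a pair
  have coef : ∀ i j : ZMod n, (∀ k : ZMod n, ¬ ((i + H = k + H ∧ j = k) ∨ (i + H = k ∧ j = k + H))) →
      (j + (-H) = i ∨ l (i + H) = 0) → th m (l i) * l j = 0 := by
    intro i j hk hoth
    have h' := congrArg (fun Q => coeff Q (expo (i + H) j)) hP
    simp only [P, coeff_sub, finset_sum_coeff, coeff_C_mul_X_pow, coeff_zero] at h'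
    rw [Finset.sum_eq_zero (s := (Finset.univ : Finset (ZMod n))) (fun k _ => by
      rw [if_neg]; intro he
      exact hk k (expo_inj he)), sub_zero] at h'
    rw [Finset.sum_eq_single (i, j) ?_ (by simp), if_pos rfl] at h'
    · exact h'
    · rintro ⟨i', j'⟩ _ hne
      dsimp only
      split_ifs with he
      · rcases expo_inj he with ⟨e1, e2⟩ | ⟨e1, e2⟩
        · exact absurd (Prod.ext (add_right_cancel e1).symm e2.symm) hne
        · rcases hoth with e | e
          · refine absurd (Prod.ext ?_ ?_) hne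
            · show i' = i
              rw [← e, e2]; abel
            · show j' = j
              rw [← e1, ← e]; abel
          · rw [show j' = i + H from e1.symm, e, mul_zero]
      · rfl
  have hdist : ∀ i, l i ≠ 0 → l (i + H) = 0 := by
    intro i hi
    have := coef i (i + H) (fun k hk => by
      rcases hk with ⟨e1, e2⟩ | ⟨e1, e2⟩
      · exact hH0 (by rw [← e2] at e1; simpa using e1.symm)
      · exact hH0 (by rw [e1] at e2; simpa using e2.symm))
      (Or.inl (by abel))
    exact (mul_eq_zero.mp this).resolve_left (fun e => hi (th_eq_zero_iff.mp e))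
  have honly : ∀ i j, l i ≠ 0 → l j ≠ 0 → j = i ∨ j = i + 1 := by
    intro i j hi hj
    by_contra hne
    push Not at hne
    have := coef i j (fun k hk => by
      rcases hk with ⟨e1, e2⟩ | ⟨e1, e2⟩
      · exact hne.1 (by rw [e2]; exact (add_right_cancel e1).symm)
      · exact hne.2 (by rw [e2, ← e1, add_assoc, h2H]))
      (Or.inr (hdist i hi))
    rcases mul_eq_zero.mp this with e | e
    · exact hi (th_eq_zero_iff.mp e)
    · exact hj e
  obtain ⟨i, hi⟩ : ∃ i, l i ≠ 0 := by
    by_contra hall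
    push Not at hall
    exact hL (AddMonoidHom.ext fun a => by rw [hl]; simp [hall])
  have huniq : ∀ j, l j ≠ 0 → j = i := by
    intro j hj
    rcases honly i j hi hj with e | e
    · exact e
    rcases honly j i hj hi with e' | e'
    · exact e'.symm
    exfalso
    rw [e, add_assoc] at e'
    have h2 : ((2 : ℕ) : ZMod n) = 0 := by
      have := left_eq_add.mp e'
      rw [← this]; norm_num
    rw [ZMod.natCast_eq_zero_iff] at h2
    have := Nat.le_of_dvd (by norm_num) h2
    omega
  refine ⟨i.val, l i, ZMod.val_lt i, hi, fun a => ?_⟩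
  rw [hl]
  refine Finset.sum_eq_single i (fun j _ hj => ?_) (by simp)
  by_cases h0 : l j = 0
  · rw [h0, zero_mul]
  · exact absurd (huniq j h0) hj

end CfsgLib.Suzuki
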