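/-
The automorphism group of a Sylow 2-subgroup of the Suzuki group.
-/
import Mathlib
import Cfsg.Prelude.Def_LieExceptional
import Cfsg.Prelude.Def_Solvable
import Cfsg.Prelude.Def_Transfer
import Cfsg.Agent.Lib.Suzuki.Fixed
import Cfsg.Agent.Lib.Suzuki.LinMap

namespace CfsgLib.Suzuki

open Cfsg
open scoped Pointwise

variable {F : Type*} [Field F] [Fintype F] {m : ℕ} (hF : Fintype.card F = 2 ^ (2 * m + 1))
include hF

/-- An element of the root group from its two coordinates. -/
def uU (a b : F) : ↥(U hF) := ⟨uS hF a b, a, b, rfl⟩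

omit hF in
/-- First coordinate of an element of the Suzuki group. -/
def coA (g : ↥(Cfsg.Sz F m)) : F := g.1.1 2 3

omit hF in
/-- Second coordinate of an element of the Suzuki group. -/
def coB (g : ↥(Cfsg.Sz F m)) : F := g.1.1 1 3

theorem coA_uS (a b : F) : coA (uS hF a b) = a := by
  simp [coA, uS, uEl, mU]

theorem coB_uS (a b : F) : coB (uS hF a b) = b := by
  simp [coB, uS, uEl, mU]

theorem coA_uU (a b : F) : coA (uU hF a b).1 = a := coA_uS hF a b

theorem coB_uU (a b : F) : coB (uU hF a b).1 = b := coB_uS hF a b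

theorem uU_coords (u : ↥(U hF)) : u = uU hF (coA u.1) (coB u.1) := by
  obtain ⟨g, a, b, rfl⟩ := u
  apply Subtype.ext
  show uS hF a b = uS hF (coA (uS hF a b)) (coB (uS hF a b))
  rw [coA_uS, coB_uS]

theorem uU_mul (a b c d : F) : uU hF a b * uU hF c d = uU hF (a + c) (b + d + th m a * c) :=
  Subtype.ext (uS_mul hF a b c d)

theorem uU_one : uU hF (0 : F) 0 = 1 := Subtype.ext (uS_zero hF)

theorem uU_inj {a b c d : F} (h : uU hF a b = uU hF c d) : a = c ∧ b = d :=
  uS_inj hF (congrArg Subtype.val h)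

theorem uU_center (hm : 1 ≤ m) {a b : F} (h : uU hF a b ∈ Subgroup.center (U hF)) : a = 0 :=
  mem_center_U hF hm fun c d =>
    (congrArg Subtype.val (Subgroup.mem_center_iff.mp h (uU hF c d))).symm

theorem uU_zero_center (b : F) : uU hF 0 b ∈ Subgroup.center (U hF) := by
  rw [Subgroup.mem_center_iff]
  intro u
  rw [uU_coords hF u, uU_mul, uU_mul, th_zero, zero_mul, mul_zero]
  congr 1 <;> ring

/-- Frobenius power as a ring automorphism. -/
noncomputable def frob (i : ℕ) : F ≃+* F :=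
  haveI := charTwo hF
  haveI : Fact (Nat.Prime 2) := ⟨Nat.prime_two⟩
  RingEquiv.ofBijective (iterateFrobenius F 2 i)
    ((Finite.injective_iff_bijective).mp (iterateFrobenius F 2 i).injective)

theorem frob_apply (i : ℕ) (a : F) : frob hF i a = a ^ 2 ^ i := rfl

theorem th_frob (i : ℕ) (a : F) : th m (frob hF i a) = frob hF i (th m a) := by
  rw [frob_apply, frob_apply, th_pow]

/-- The shear automorphisms. -/
noncomputable def kap (h : F →+ F) : MulAut ↥(U hF) :=
  MulEquiv.mk'
    { toFun := fun u => uU hF (coA u.1) (coB u.1 + h (coA u.1))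
      invFun := fun u => uU hF (coA u.1) (coB u.1 - h (coA u.1))
      left_inv := fun u => by
        conv_rhs => rw [uU_coords hF u]
        simp only [coA_uU, coB_uU, add_sub_cancel_right]
      right_inv := fun u => by
        conv_rhs => rw [uU_coords hF u]
        simp only [coA_uU, coB_uU, sub_add_cancel] }
    (fun x y => by
      rw [uU_coords hF x, uU_coords hF y, uU_mul]
      simp only [Equiv.coe_fn_mk, coA_uU, coB_uU]
      rw [uU_mul, map_add]
      congr 1
      ring)

theorem kap_uU (h : F →+ F) (a b : F) : kap hF h (uU hF a b) = uU hF a (b + h a) := by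
  show uU hF (coA (uS hF a b)) (coB (uS hF a b) + h (coA (uS hF a b))) = _
  rw [coA_uS, coB_uS]

/-- The semilinear automorphisms. -/
noncomputable def gam (c : Fˣ) (i : ℕ) : MulAut ↥(U hF) :=
  MulEquiv.mk'
    { toFun := fun u => uU hF ((c : F) * frob hF i (coA u.1)) (th m (c : F) * c * frob hF i (coB u.1))
      invFun := fun u => uU hF ((frob hF i).symm (coA u.1 / c))
        ((frob hF i).symm (coB u.1 / (th m (c : F) * c)))
      left_inv := fun u => by
        have h0 : th m (c : F) ≠ 0 := fun h => c.ne_zero (th_eq_zero_iff.mp h)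
        conv_rhs => rw [uU_coords hF u]
        simp only [coA_uU, coB_uU]
        rw [mul_div_cancel_left₀ _ c.ne_zero, mul_div_cancel_left₀ _ (mul_ne_zero h0 c.ne_zero),
          RingEquiv.symm_apply_apply, RingEquiv.symm_apply_apply]
      right_inv := fun u => by
        have h0 : th m (c : F) ≠ 0 := fun h => c.ne_zero (th_eq_zero_iff.mp h)
        conv_rhs => rw [uU_coords hF u]
        simp only [coA_uU, coB_uU, RingEquiv.apply_symm_apply]
        rw [mul_div_cancel₀ _ c.ne_zero, mul_div_cancel₀ _ (mul_ne_zero h0 c.ne_zero)] }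
    (fun x y => by
      rw [uU_coords hF x, uU_coords hF y, uU_mul]
      simp only [Equiv.coe_fn_mk, coA_uU, coB_uU]
      rw [uU_mul]
      simp only [map_add, map_mul, th_mul, th_frob hF]
      congr 1 <;> ring)

theorem gam_uU (c : Fˣ) (i : ℕ) (a b : F) :
    gam hF c i (uU hF a b) =
      uU hF ((c : F) * a ^ 2 ^ i) (th m (c : F) * c * b ^ 2 ^ i) := by
  show uU hF ((c : F) * frob hF i (coA (uS hF a b)))
    (th m (c : F) * c * frob hF i (coB (uS hF a b))) = _
  rw [coA_uS, coB_uS, frob_apply, frob_apply]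

theorem pow_two_pow_injective {i j : ℕ} (hi : i < 2 * m + 1) (hj : j < 2 * m + 1) (hm : 1 ≤ m)
    (h : ∀ a : F, a ^ 2 ^ i = a ^ 2 ^ j) : i = j := by
  obtain ⟨g, hg⟩ := IsCyclic.exists_ofOrder_eq_natCard (α := Fˣ)
  rw [Nat.card_units, Nat.card_eq_fintype_card, hF] at hg
  have hlt : ∀ k, k < 2 * m + 1 → 2 ^ k < orderOf g := fun k hk => by
    rw [hg]
    have h1 : 2 ^ (k + 1) ≤ 2 ^ (2 * m + 1) := Nat.pow_le_pow_right (by norm_num) hk
    have h4 : 4 ≤ 2 ^ (2 * m + 1) := by
      calc 4 = 2 ^ 2 := by norm_num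
        _ ≤ _ := Nat.pow_le_pow_right (by norm_num) (by omega)
    rw [pow_succ] at h1
    omega
  exact Nat.pow_right_injective le_rfl (pow_injOn_Iio_orderOf (hlt i hi) (hlt j hj)
    (Units.ext (by rw [Units.val_pow_eq_pow_val, Units.val_pow_eq_pow_val]; exact h g)))

/-- Normal form of an automorphism of the root group. -/
theorem aut_form (hm : 1 ≤ m) (α : MulAut ↥(U hF)) :
    ∃ (h : F →+ F) (c : Fˣ) (i : Fin (2 * m + 1)), α = gam hF c i * kap hF h := by
  let L0 : F → F := fun a => coA (α (uU hF a 0)).1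
  let M0 : F → F := fun b => coB (α (uU hF 0 b)).1
  have hZ : ∀ b, α (uU hF 0 b) = uU hF 0 (M0 b) := by
    intro b
    have hc : α (uU hF 0 b) ∈ Subgroup.center (U hF) := by
      rw [Subgroup.mem_center_iff]
      intro g
      obtain ⟨g', rfl⟩ := α.surjective g
      rw [← map_mul, ← map_mul, Subgroup.mem_center_iff.mp (uU_zero_center hF b) g']
    have e := uU_coords hF (α (uU hF 0 b))
    have h0 : coA (α (uU hF 0 b)).1 = 0 := by
      rw [e] at hc; exact uU_center hF hm hc
    rw [h0] at e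
    exact e
  have hform : ∀ a b, α (uU hF a b) = uU hF (L0 a) (coB (α (uU hF a 0)).1 + M0 b) := by
    intro a b
    have e : uU hF a b = uU hF a 0 * uU hF 0 b := by rw [uU_mul]; simp
    rw [e, map_mul, hZ, uU_coords hF (α (uU hF a 0)), uU_mul]
    simp [L0, uU, coA_uS, coB_uS]
  have hMadd : ∀ b d, M0 (b + d) = M0 b + M0 d := by
    intro b d
    have e : uU hF 0 (b + d) = uU hF 0 b * uU hF 0 d := by rw [uU_mul]; simp
    have h := congrArg α e
    rw [map_mul, hZ, hZ, hZ, uU_mul] at h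
    simpa using (uU_inj hF h).2
  have hLadd : ∀ a c, L0 (a + c) = L0 a + L0 c := by
    intro a c
    have h := congrArg α (uU_mul hF a 0 c 0)
    rw [map_mul, hform a 0, hform c 0, hform (a + c), uU_mul] at h
    exact (uU_inj hF h).1.symm
  let L : F →+ F := AddMonoidHom.mk' L0 hLadd
  let M : F →+ F := AddMonoidHom.mk' M0 hMadd
  have hsq : ∀ a, M (th m a * a) = th m (L a) * L a := by
    intro a
    have e : uU hF a 0 * uU hF a 0 = uU hF 0 (th m a * a) := Subtype.ext (uS_sq hF a 0)
    have h := congrArg α e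
    rw [map_mul, hZ, hform] at h
    have h' := congrArg Subtype.val h
    change uS hF _ _ * uS hF _ _ = uS hF 0 (M0 (th m a * a)) at h'
    rw [uS_sq] at h'
    exact ((uS_inj hF h').2).symm
  have hL : L ≠ 0 := by
    intro h0
    have h1 : L0 1 = 0 := DFunLike.congr_fun h0 1
    have hz : α (uU hF 1 0) ∈ Subgroup.center (U hF) := by
      rw [hform, h1]; exact uU_zero_center hF _
    have hz' : uU hF 1 0 ∈ Subgroup.center (U hF) := by
      rw [Subgroup.mem_center_iff] at hz ⊢
      intro g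
      apply α.injective
      rw [map_mul, map_mul, hz]
    exact one_ne_zero (uU_center hF hm hz')
  obtain ⟨i, c, hi, hc, hLi⟩ := semilinear hF hm L M hL hsq
  have hMi : ∀ b, M0 b = th m c * c * b ^ 2 ^ i := by
    intro b
    by_cases hb : b = 0
    · rw [hb, zero_pow (by positivity), mul_zero]; exact map_zero M
    obtain ⟨a, ha⟩ := th_mul_surj hF hb
    calc M0 b = M (th m (a : F) * a) := by rw [ha]; rfl
      _ = th m (L (a : F)) * L (a : F) := hsq _
      _ = _ := by rw [hLi, ← ha, th_mul, th_pow, mul_pow]; ring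
  have htc : th m c * c ≠ 0 := mul_ne_zero (fun h => hc (th_eq_zero_iff.mp h)) hc
  let h0 : F → F := fun a => (frob hF i).symm (coB (α (uU hF a 0)).1 / (th m c * c))
  have hadd : ∀ a d, h0 (a + d) = h0 a + h0 d := by
    intro a d
    have h := congrArg α (uU_mul hF a 0 d 0)
    rw [map_mul, hform a 0, hform d 0, hform (a + d), uU_mul] at h
    have h2 := (uU_inj hF h).2
    have hm0 : M0 0 = 0 := map_zero M
    simp only [hm0, add_zero, zero_add, show ∀ x, L0 x = c * x ^ 2 ^ i from hLi, hMi, th_mul, th_pow,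
      mul_pow] at h2
    apply (frob hF i).injective
    rw [map_add]
    simp only [h0, RingEquiv.apply_symm_apply]
    rw [← add_div]
    congr 1
    linear_combination -h2
  refine ⟨AddMonoidHom.mk' h0 hadd, Units.mk0 c hc, ⟨i, hi⟩, MulEquiv.ext fun u => ?_⟩
  rw [uU_coords hF u, hform, MulAut.mul_apply, kap_uU, gam_uU]
  simp only [show ∀ x, L0 x = c * x ^ 2 ^ i from hLi, hMi, Units.val_mk0, AddMonoidHom.mk'_apply, h0,
    ← frob_apply hF, map_add, RingEquiv.apply_symm_apply, mul_add]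
  congr 1
  rw [mul_div_cancel₀ _ htc, add_comm]

theorem card_aut (hm : 1 ≤ m) :
    Nat.card (MulAut ↥(U hF)) =
      2 ^ ((2 * m + 1) ^ 2) * ((2 * m + 1) * (2 ^ (2 * m + 1) - 1)) := by
  let Φ : (F →+ F) × Fˣ × Fin (2 * m + 1) → MulAut ↥(U hF) := fun p =>
    gam hF p.2.1 p.2.2 * kap hF p.1
  have hΦ : Function.Bijective Φ := by
    constructor
    · rintro ⟨h, c, i⟩ ⟨h', c', i'⟩ e
      have e' : ∀ a, uU hF ((c : F) * a ^ 2 ^ (i : ℕ)) (th m (c : F) * c * (0 + h a) ^ 2 ^ (i : ℕ)) =
          uU hF ((c' : F) * a ^ 2 ^ (i' : ℕ)) (th m (c' : F) * c' * (0 + h' a) ^ 2 ^ (i' : ℕ)) := by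
        intro a
        have := DFunLike.congr_fun e (uU hF a 0)
        simpa [Φ, kap_uU, gam_uU] using this
      have hc : c = c' := by
        have := (uU_inj hF (e' 1)).1
        exact Units.ext (by simpa using this)
      subst hc
      have hi : i = i' := Fin.ext (pow_two_pow_injective hF i.2 i'.2 hm fun a =>
        mul_left_cancel₀ c.ne_zero (uU_inj hF (e' a)).1)
      subst hi
      have hh : h = h' := by
        refine AddMonoidHom.ext fun a => ?_
        have htc : th m (c : F) * c ≠ 0 :=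
          mul_ne_zero (fun h => c.ne_zero (th_eq_zero_iff.mp h)) c.ne_zero
        have := mul_left_cancel₀ htc (uU_inj hF (e' a)).2
        rw [← frob_apply hF, ← frob_apply hF, zero_add, zero_add] at this
        exact (frob hF i).injective this
      subst hh
      rfl
    · intro α
      obtain ⟨h, c, i, rfl⟩ := aut_form hF hm α
      exact ⟨(h, c, i), rfl⟩
  rw [← Nat.card_congr (Equiv.ofBijective Φ hΦ), Nat.card_prod, Nat.card_prod, card_addHom hF,
    Nat.card_units, Nat.card_eq_fintype_card (α := F), hF, Nat.card_fin, ← pow_mul, sq]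
  ring

/-- The kernel of the action on the Frattini quotient. -/
def Ker (hm : 1 ≤ m) : Subgroup (MulAut ↥(U hF)) where
  carrier := {α | ∀ u, coA (α u).1 = coA u.1}
  one_mem' := fun u => rfl
  mul_mem' := fun {α β} ha hb u => by rw [MulAut.mul_apply, ha, hb]
  inv_mem' := fun {α} ha u => by
    have := ha (α⁻¹ u)
    rw [MulAut.apply_inv_self] at this
    exact this.symm

theorem coA_aut (hm : 1 ≤ m) (β : MulAut ↥(U hF)) {u v : ↥(U hF)} (h : coA u.1 = coA v.1) :
    coA (β u).1 = coA (β v).1 := by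
  obtain ⟨g, c, i, rfl⟩ := aut_form hF hm β
  rw [uU_coords hF u, uU_coords hF v, MulAut.mul_apply, MulAut.mul_apply, kap_uU, kap_uU, gam_uU,
    gam_uU]
  simp only [uU, coA_uS, h]

theorem Ker_normal (hm : 1 ≤ m) : (Ker hF hm).Normal where
  conj_mem α ha β u := by
    rw [MulAut.mul_apply, MulAut.mul_apply]
    have e := coA_aut hF hm β (ha (β⁻¹ u))
    rwa [MulAut.apply_inv_self] at e

theorem mem_Ker (hm : 1 ≤ m) {α : MulAut ↥(U hF)} :
    α ∈ Ker hF hm ↔ ∃ h, α = kap hF h := by
  constructor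
  · intro ha
    obtain ⟨h, c, i, rfl⟩ := aut_form hF hm α
    have key : ∀ a : F, (c : F) * a ^ 2 ^ (i : ℕ) = a := by
      intro a
      have e := ha (uU hF a 0)
      rw [MulAut.mul_apply, kap_uU, gam_uU] at e
      simpa [uU, coA_uS] using e
    have hc : c = 1 := Units.ext (by simpa using key 1)
    have hi : (i : ℕ) = 0 := pow_two_pow_injective hF i.2 (by omega) hm fun a => by
      have := key a
      rw [hc, Units.val_one, one_mul] at this
      simpa using this
    refine ⟨h, MulEquiv.ext fun u => ?_⟩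
    rw [uU_coords hF u, MulAut.mul_apply, kap_uU, gam_uU, hi, hc]
    simp [th_one]
  · rintro ⟨h, rfl⟩ u
    rw [uU_coords hF u, kap_uU]
    simp [uU, coA_uS]

theorem card_Ker (hm : 1 ≤ m) : Nat.card (Ker hF hm) = 2 ^ ((2 * m + 1) ^ 2) := by
  let Φ : (F →+ F) → Ker hF hm := fun h => ⟨kap hF h, (mem_Ker hF hm).mpr ⟨h, rfl⟩⟩
  have hΦ : Function.Bijective Φ := by
    constructor
    · intro h h' e
      refine AddMonoidHom.ext fun a => ?_
      have := DFunLike.congr_fun (congrArg Subtype.val e) (uU hF a 0)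
      change kap hF h (uU hF a 0) = kap hF h' (uU hF a 0) at this
      rw [kap_uU, kap_uU] at this
      simpa using (uU_inj hF this).2
    · rintro ⟨α, ha⟩
      obtain ⟨h, rfl⟩ := (mem_Ker hF hm).mp ha
      exact ⟨h, rfl⟩
  rw [← Nat.card_congr (Equiv.ofBijective Φ hΦ), card_addHom hF, ← pow_mul, sq]

theorem Ker_elementary (hm : 1 ≤ m) : Cfsg.IsElementaryAbelian 2 (Ker hF hm) := by
  have kmul : ∀ h h' : F →+ F, kap hF h * kap hF h' = kap hF (h + h') := fun h h' =>
    MulEquiv.ext fun u => by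
      rw [uU_coords hF u, MulAut.mul_apply, kap_uU, kap_uU, kap_uU, AddMonoidHom.add_apply]
      congr 1
      ring
  refine ⟨⟨⟨?_⟩⟩, ?_⟩
  · rintro ⟨α, ha⟩ ⟨β, hb⟩
    obtain ⟨h, rfl⟩ := (mem_Ker hF hm).mp ha
    obtain ⟨h', rfl⟩ := (mem_Ker hF hm).mp hb
    apply Subtype.ext
    show kap hF h * kap hF h' = kap hF h' * kap hF h
    rw [kmul, kmul, add_comm]
  · intro α ha
    obtain ⟨h, rfl⟩ := (mem_Ker hF hm).mp ha
    rw [sq, kmul]
    refine MulEquiv.ext fun u => ?_
    rw [MulAut.one_apply, uU_coords hF u, kap_uU, AddMonoidHom.add_apply]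
    congr 1
    linear_combination h (coA u.1) * two_eq_zero hF

/-- The structure of the automorphism group of any group isomorphic to the root group. -/
theorem sylow_aut (hm : 1 ≤ m) {S : Type*} [Group S] [Finite S] (e : S ≃* ↥(U hF)) :
    Cfsg.IsElementaryAbelian 2 (Cfsg.pCore 2 (MulAut S)) ∧
      Nat.card ↥(Cfsg.pCore 2 (MulAut S)) = 2 ^ ((2 * m + 1) ^ 2) ∧
      Nat.card (MulAut S) = 2 ^ ((2 * m + 1) ^ 2) * ((2 * m + 1) * (2 ^ (2 * m + 1) - 1)) := by
  haveI : Fact (Nat.Prime 2) := ⟨Nat.prime_two⟩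
  let E : MulAut ↥(U hF) ≃* MulAut S := MulAut.congr e.symm
  set K := (Ker hF hm).map E.toMonoidHom with hK
  have hcard : Nat.card K = 2 ^ ((2 * m + 1) ^ 2) := by
    rw [hK, Subgroup.card_map_of_injective E.injective, card_Ker hF hm]
  have hA : Nat.card (MulAut S) = 2 ^ ((2 * m + 1) ^ 2) * ((2 * m + 1) * (2 ^ (2 * m + 1) - 1)) := by
    rw [← Nat.card_congr E.toEquiv, card_aut hF hm]
  haveI hKn : K.Normal := (Ker_normal hF hm).map _ E.surjective
  have hKp : IsPGroup 2 K := IsPGroup.of_card hcard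
  haveI : Finite (MulAut S) := Nat.finite_of_card_ne_zero (by
    rw [hA]
    have : 2 ≤ 2 ^ (2 * m + 1) := Nat.le_self_pow (by omega) 2
    refine mul_ne_zero (by positivity) (mul_ne_zero (by omega) (by omega)))
  have hodd : ¬ 2 ∣ (2 * m + 1) * (2 ^ (2 * m + 1) - 1) := by
    rw [Nat.prime_two.dvd_mul, pow_succ]
    have := Nat.one_le_two_pow (n := 2 * m)
    omega
  have hmax : ∀ N : Subgroup (MulAut S), N.Normal → IsPGroup 2 N → N ≤ K := by
    intro N hN hNp
    obtain ⟨k, hk⟩ := IsPGroup.iff_card.mp (hNp.to_sup_of_normal_right hKp)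
    have hd := Subgroup.card_subgroup_dvd_card (N ⊔ K)
    rw [hk, hA] at hd
    have hd' : 2 ^ k ∣ 2 ^ ((2 * m + 1) ^ 2) :=
      (Nat.Coprime.pow_left k (Nat.prime_two.coprime_iff_not_dvd.mpr hodd)).dvd_of_dvd_mul_right hd
    have : N ⊔ K = K := (Subgroup.eq_of_le_of_card_ge le_sup_right (by
      rw [hk, hcard]; exact Nat.le_of_dvd (by positivity) hd')).symm
    rw [← this]
    exact le_sup_left
  have hcore : Cfsg.pCore 2 (MulAut S) = K :=
    le_antisymm (sSup_le fun N hN => hmax N hN.1 hN.2) (le_sSup ⟨hKn, hKp⟩)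
  refine ⟨?_, by rw [hcore, hcard], hA⟩
  rw [hcore]
  obtain ⟨hc, hp⟩ := Ker_elementary hF hm
  refine ⟨⟨⟨?_⟩⟩, ?_⟩
  · rintro ⟨_, x, hx, rfl⟩ ⟨_, y, hy, rfl⟩
    apply Subtype.ext
    show E x * E y = E y * E x
    rw [← map_mul, ← map_mul]
    exact congrArg E (congrArg Subtype.val (hc.is_comm.comm (⟨x, hx⟩ : Ker hF hm) ⟨y, hy⟩))
  · rintro _ ⟨x, hx, rfl⟩
    rw [← map_pow, hp x hx, map_one]

end CfsgLib.Suzuki
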