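/-
Automorphisms of the Suzuki group: every automorphism is inner times a field automorphism.
-/
import Mathlib
import Cfsg.Prelude.Def_LieExceptional
import Cfsg.Prelude.Def_KGroupFacts
import Cfsg.Agent.Lib.Suzuki.SylowAut
import Cfsg.Agent.Lib.Suzuki.Torus

namespace CfsgLib.Suzuki

open Cfsg Matrix
open scoped Pointwise

local notation "SL4[" F "]" => Matrix.SpecialLinearGroup (Fin 4) F

variable {F : Type*} [Field F] [Fintype F] {m : ℕ} (hF : Fintype.card F = 2 ^ (2 * m + 1))
include hF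

theorem map_uEl (i : ℕ) (a b : F) :
    Matrix.SpecialLinearGroup.map (frob hF i : F →+* F) (uEl m a b) =
      uEl m (frob hF i a) (frob hF i b) := by
  apply Subtype.ext
  show (mU m a b).map (frob hF i) = mU m (frob hF i a) (frob hF i b)
  simp only [mU, fp, th_frob hF, ← map_mul, ← map_add, ← map_pow]
  ext p q
  fin_cases p <;> fin_cases q <;> simp

theorem map_dEl (i : ℕ) (t : Fˣ) :
    Matrix.SpecialLinearGroup.map (frob hF i : F →+* F) (dEl m t) =
      dEl m (Units.map (frob hF i : F →+* F).toMonoidHom t) := by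
  apply Subtype.ext
  show (mD m (t : F)).map (frob hF i) = mD m (frob hF i (t : F))
  simp only [mD, Matrix.diagonal_map (map_zero _), th_frob hF]
  congr 1
  funext p
  fin_cases p <;> simp [map_mul, map_inv₀]

theorem map_wEl (i : ℕ) :
    Matrix.SpecialLinearGroup.map (frob hF i : F →+* F) (wEl : SL4[F]) = wEl := by
  apply Subtype.ext
  show (mW : Matrix (Fin 4) (Fin 4) F).map (frob hF i) = mW
  ext p q
  fin_cases p <;> fin_cases q <;> simp [mW]

theorem map_mem (hm : 1 ≤ m) (i : ℕ) {g : SL4[F]} (hg : g ∈ Cfsg.Sz F m) :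
    Matrix.SpecialLinearGroup.map (frob hF i : F →+* F) g ∈ Cfsg.Sz F m := by
  rcases exists_closure_form hF hm ⟨g, hg⟩ with ⟨a, b, t, h⟩ | ⟨a, b, c, d, t, h⟩
  · have h' : g = uEl m a b * dEl m t := congrArg Subtype.val h
    rw [h', map_mul, map_uEl hF, map_dEl hF]
    exact mul_mem (uEl_mem hF _ _) (dEl_mem hF _)
  · have h' : g = uEl m a b * wEl * (uEl m c d * dEl m t) := congrArg Subtype.val h
    rw [h', map_mul, map_mul, map_mul, map_uEl hF, map_wEl hF, map_uEl hF, map_dEl hF]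
    exact mul_mem (mul_mem (uEl_mem hF _ _) (wEl_mem hF)) (mul_mem (uEl_mem hF _ _) (dEl_mem hF _))

/-- The field automorphism as an endomorphism. -/
noncomputable def fEnd (hm : 1 ≤ m) (i : ℕ) : ↥(Cfsg.Sz F m) →* ↥(Cfsg.Sz F m) :=
  ((Matrix.SpecialLinearGroup.map (frob hF i : F →+* F)).comp (Cfsg.Sz F m).subtype).codRestrict _
    (fun g => map_mem hF hm i g.2)

theorem fEnd_bijective (hm : 1 ≤ m) (i : ℕ) : Function.Bijective (fEnd hF hm i) := by
  refine Finite.injective_iff_bijective.mp fun g h e => ?_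
  apply Subtype.ext
  apply Subtype.ext
  ext p q
  exact (frob hF i).injective
    (congrFun (congrFun (congrArg Subtype.val (congrArg Subtype.val e)) p) q)

/-- The field automorphisms of the Suzuki group. -/
noncomputable def fAut (hm : 1 ≤ m) (i : ℕ) : MulAut ↥(Cfsg.Sz F m) :=
  MulEquiv.ofBijective (fEnd hF hm i) (fEnd_bijective hF hm i)

theorem fAut_uS (hm : 1 ≤ m) (i : ℕ) (a b : F) :
    fAut hF hm i (uS hF a b) = uS hF (a ^ 2 ^ i) (b ^ 2 ^ i) :=
  Subtype.ext (map_uEl hF i a b)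

theorem fAut_dS (hm : 1 ≤ m) (i : ℕ) (t : Fˣ) :
    fAut hF hm i (dS hF t) = dS hF (Units.map (frob hF i : F →+* F).toMonoidHom t) :=
  Subtype.ext (map_dEl hF i t)

/-- An element `uS a b * dS t`, `t ≠ 1`, is conjugate to `dS t` under the root group. -/
theorem exists_conj_torus (hm : 1 ≤ m) (a b : F) {t : Fˣ} (ht1 : t ≠ 1) :
    ∃ c d : F, uS hF c d * dS hF t * (uS hF c d)⁻¹ = uS hF a b * dS hF t := by
  have hT : 1 + th m (t : F) ≠ 0 := by
    rw [← sub_eq hF, sub_ne_zero, ← th_one (F := F) (m := m)]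
    exact fun h => ht1 (Units.ext (th_injective hF h).symm)
  have hL : 1 + th m (t : F) * (t : F) ^ 2 ≠ 0 := by
    rw [← sub_eq hF, sub_ne_zero]
    exact fun h => ht1 (Units.ext (eq_one_of_th_sq hF h.symm))
  have key : ∀ c d : F, uS hF c d * dS hF t * (uS hF c d)⁻¹ =
      uS hF (c + th m (t : F) * c)
        (d + th m (t : F) * (t : F) ^ 2 * (d + th m c * c) + th m c * (th m (t : F) * c)) *
        dS hF t := by
    intro c d
    rw [uS_inv, mul_assoc, dS_mul_uS, ← mul_assoc, uS_mul]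
  set c := a / (1 + th m (t : F))
  refine ⟨c, (b - th m (t : F) * (t : F) ^ 2 * (th m c * c) - th m c * (th m (t : F) * c)) /
    (1 + th m (t : F) * (t : F) ^ 2), ?_⟩
  rw [key]
  congr 2
  · rw [show c + th m (t : F) * c = (1 + th m (t : F)) * c by ring, mul_div_cancel₀ _ hT]
  · generalize hd : (b - th m (t : F) * (t : F) ^ 2 * (th m c * c) -
      th m c * (th m (t : F) * c)) / (1 + th m (t : F) * (t : F) ^ 2) = d
    have hd' : d * (1 + th m (t : F) * (t : F) ^ 2) =
        b - th m (t : F) * (t : F) ^ 2 * (th m c * c) - th m c * (th m (t : F) * c) := by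
      rw [← hd, div_mul_cancel₀ _ hL]
    linear_combination hd'

theorem map_U_conj (hm : 1 ≤ m) (φ : MulAut ↥(Cfsg.Sz F m)) :
    ∃ k, (U hF).map φ.toMonoidHom = (U hF).map (MulAut.conj k).toMonoidHom := by
  haveI : Fact (Nat.Prime 2) := ⟨Nat.prime_two⟩
  have hidx : ¬ 2 ∣ ((U hF).map φ.toMonoidHom).index := by
    have e : ((U hF).map φ.toMonoidHom).index = (U hF).index :=
      Subgroup.index_map_equiv (U hF) φ
    rw [e]; exact not_two_dvd_index_U hF hm
  exact exists_conj_eq hF hm (IsPGroup.toSylow ((U_isPGroup hF).map φ.toMonoidHom) hidx)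

theorem aut_eq (hm : 1 ≤ m) (φ : MulAut ↥(Cfsg.Sz F m)) :
    ∃ (g : ↥(Cfsg.Sz F m)) (i : Fin (2 * m + 1)), φ = MulAut.conj g * fAut hF hm i := by
  classical
  obtain ⟨k, hk⟩ := map_U_conj hF hm φ
  obtain ⟨gen, hgen⟩ := IsCyclic.exists_generator (α := Fˣ)
  have hgen1 : gen ≠ 1 := by
    rintro rfl
    obtain ⟨t, t0, t1⟩ := exists_not_zero_one hF hm
    have h := hgen (Units.mk0 t t0)
    rw [Subgroup.zpowers_one_eq_bot, Subgroup.mem_bot] at h
    exact t1 (congrArg Units.val h)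
  -- step 1: fix the root group
  set φ1 : MulAut ↥(Cfsg.Sz F m) := (MulAut.conj k)⁻¹ * φ with hφ1
  have hU1 : ∀ u, φ1 u ∈ U hF ↔ u ∈ U hF := by
    intro u
    rw [hφ1, MulAut.mul_apply]
    constructor
    · intro h
      have : φ u ∈ (U hF).map φ.toMonoidHom := by
        rw [hk]
        exact ⟨_, h, MulAut.apply_inv_self _ _ _⟩
      obtain ⟨v, hv, hvu⟩ := this
      rwa [← φ.injective hvu]
    · intro h
      have : φ u ∈ (U hF).map (MulAut.conj k).toMonoidHom := hk ▸ ⟨u, h, rfl⟩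
      obtain ⟨v, hv, hvu⟩ := this
      rw [← hvu]
      show (MulAut.conj k)⁻¹ (MulAut.conj k v) ∈ U hF
      rw [MulAut.inv_apply_self]
      exact hv
  have hN : ∀ ψ : MulAut ↥(Cfsg.Sz F m), (∀ u, ψ u ∈ U hF ↔ u ∈ U hF) → ∀ x,
      ψ x • suzukiPointInfinity F = suzukiPointInfinity F ↔
        x • suzukiPointInfinity F = suzukiPointInfinity F := by
    intro ψ hψ x
    rw [← MulAction.mem_stabilizer_iff, ← MulAction.mem_stabilizer_iff, ← normalizer_U hF hm,
      Subgroup.mem_normalizer_iff, Subgroup.mem_normalizer_iff]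
    constructor
    · intro h u
      rw [← hψ, h (ψ u), ← map_inv, ← map_mul, ← map_mul, hψ]
    · intro h u
      obtain ⟨v, rfl⟩ := ψ.surjective u
      rw [hψ, h v, ← hψ, map_mul, map_mul, map_inv]
  -- step 2: fix the torus
  obtain ⟨a, b, t, hform⟩ := (mem_stabInf_iff hF hm).mp
    ((hN φ1 hU1 (dS hF gen)).mpr (smul_dS_inf hF gen))
  have ht1 : t ≠ 1 := by
    intro h
    rw [h, dS_one, mul_one] at hform
    obtain ⟨c, d, hcd⟩ := (hU1 _).mp ⟨a, b, hform⟩
    have e : uS hF (0 : F) 0 * dS hF gen = uS hF c d * dS hF 1 := by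
      rw [uS_zero, one_mul, dS_one, mul_one, hcd]
    exact hgen1 (form_injective hF e).2.2
  obtain ⟨c, d, hcd⟩ := exists_conj_torus hF hm a b ht1
  set φ2 : MulAut ↥(Cfsg.Sz F m) := (MulAut.conj (uS hF c d))⁻¹ * φ1 with hφ2
  have hU2 : ∀ u, φ2 u ∈ U hF ↔ u ∈ U hF := by
    intro u
    rw [hφ2, MulAut.mul_apply, MulAut.conj_inv_apply, ← hU1 u]
    have hc : uS hF c d ∈ U hF := ⟨c, d, rfl⟩
    constructor
    · intro h
      have := mul_mem (mul_mem hc h) (inv_mem hc)
      simpa [mul_assoc] using this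
    · intro h
      exact mul_mem (mul_mem (inv_mem hc) h) hc
  have hg2 : φ2 (dS hF gen) = dS hF t := by
    rw [hφ2, MulAut.mul_apply, MulAut.conj_inv_apply, hform, ← hcd]
    group
  have hT2 : ∀ s, ∃ s', φ2 (dS hF s) = dS hF s' := by
    intro s
    have hc : φ2 (dS hF s) ∈ Subgroup.centralizer ({dS hF t} : Set ↥(Cfsg.Sz F m)) := by
      rw [Subgroup.mem_centralizer_singleton_iff, ← hg2, ← map_mul, ← map_mul, dS_mul, dS_mul,
        mul_comm]
    rw [centralizer_torus hF hm ht1] at hc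
    exact (mem_T hF).mp hc
  -- step 3: the field automorphism and the diagonal element
  let α : MulAut ↥(U hF) :=
    MulEquiv.ofBijective ((φ2.toMonoidHom.comp (U hF).subtype).codRestrict (U hF)
        (fun u => (hU2 _).mpr u.2))
      (Finite.injective_iff_bijective.mp fun u v e =>
        Subtype.ext (φ2.injective (congrArg Subtype.val e)))
  obtain ⟨h, cc, i, hα⟩ := aut_form hF hm α
  obtain ⟨r0, hr0⟩ := (th_bijective hF).2 (cc : F)
  have hr0' : r0 ≠ 0 := by rintro rfl; rw [th_zero] at hr0; exact cc.ne_zero hr0.symm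
  set r := Units.mk0 r0 hr0'
  have hφu : ∀ x y : F, φ2 (uS hF x y) =
      dS hF r * fAut hF hm i (uS hF x (y + h x)) * (dS hF r)⁻¹ := by
    intro x y
    have e : φ2 (uS hF x y) = (α (uU hF x y)).1 := rfl
    rw [e, hα, MulAut.mul_apply, kap_uU, gam_uU, fAut_uS, dS_uS]
    show uS hF _ _ = _
    simp only [r, Units.val_mk0, hr0]
    congr 1
    rw [← hr0, th_th hF]
    ring
  set φ3 : MulAut ↥(Cfsg.Sz F m) := (MulAut.conj (dS hF r) * fAut hF hm i)⁻¹ * φ2 with hφ3
  have h3u : ∀ x y : F, φ3 (uS hF x y) = uS hF x (y + h x) := by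
    intro x y
    rw [hφ3, MulAut.mul_apply, hφu]
    apply (MulAut.conj (dS hF r) * fAut hF hm i).injective
    rw [MulAut.apply_inv_self, MulAut.mul_apply, MulAut.conj_apply]
  have hT3 : ∀ s, ∃ s', φ3 (dS hF s) = dS hF s' := by
    intro s
    obtain ⟨s', hs'⟩ := hT2 s
    obtain ⟨z, hz⟩ : ∃ z, Units.map (frob hF i : F →+* F).toMonoidHom z = s' := by
      refine ⟨Units.map ((frob hF i).symm : F →+* F).toMonoidHom s', Units.ext ?_⟩
      exact (frob hF i).apply_symm_apply _
    refine ⟨z, ?_⟩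
    rw [hφ3, MulAut.mul_apply, hs']
    apply (MulAut.conj (dS hF r) * fAut hF hm i).injective
    rw [MulAut.apply_inv_self, MulAut.mul_apply, MulAut.conj_apply, fAut_dS, hz, dS_inv, dS_mul,
      dS_mul, mul_comm r, mul_inv_cancel_right]
  have hd3 : ∀ s, φ3 (dS hF s) = dS hF s ∧
      h (th m (s : F)) = th m (s : F) * (s : F) ^ 2 * h 1 := by
    intro s
    obtain ⟨s', hs'⟩ := hT3 s
    have e := congrArg φ3 (dS_uS hF s 1 0)
    rw [map_mul, map_mul, map_inv, hs', h3u, h3u, dS_uS] at e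
    obtain ⟨e1, e2⟩ := uS_inj hF e
    rw [mul_one, mul_one] at e1
    obtain rfl : s' = s := Units.ext (th_injective hF e1)
    refine ⟨hs', ?_⟩
    simpa using e2.symm
  have hh1 : h 1 = 0 := by
    obtain ⟨w, w0, w1⟩ := exists_not_zero_one hF hm
    have hr : ∀ x : F, x ≠ 0 → h x = x * th m x * h 1 := by
      intro x hx
      obtain ⟨s0, hs0⟩ := (th_bijective hF).2 x
      have hs00 : s0 ≠ 0 := by rintro rfl; rw [th_zero] at hs0; exact hx hs0.symm
      have := (hd3 (Units.mk0 s0 hs00)).2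
      rw [Units.val_mk0, hs0] at this
      rw [this, ← hs0, th_th hF]
    have h1w : (1 : F) + w ≠ 0 := by rw [← sub_eq hF, sub_ne_zero]; exact Ne.symm w1
    have e := map_add h 1 w
    rw [hr _ h1w, hr w w0, th_add hF, th_one] at e
    have hne : th m w + w ≠ 0 := by
      rw [← sub_eq hF, sub_ne_zero]; exact th_ne_self hF w0 w1
    have : (th m w + w) * h 1 = 0 := by linear_combination e
    exact (mul_eq_zero.mp this).resolve_left hne
  have hh : ∀ x, h x = 0 := by
    intro x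
    by_cases hx : x = 0
    · rw [hx, map_zero]
    obtain ⟨s0, hs0⟩ := (th_bijective hF).2 x
    have hs00 : s0 ≠ 0 := by rintro rfl; rw [th_zero] at hs0; exact hx hs0.symm
    have := (hd3 (Units.mk0 s0 hs00)).2
    rw [Units.val_mk0, hs0, hh1, mul_zero] at this
    exact this
  have h3id : ∀ x y : F, φ3 (uS hF x y) = uS hF x y := fun x y => by rw [h3u, hh, add_zero]
  have hU3 : ∀ u, φ3 u ∈ U hF ↔ u ∈ U hF := by
    intro u
    constructor
    · rintro ⟨x, y, hxy⟩
      exact ⟨x, y, φ3.injective (by rw [hxy, h3id])⟩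
    · rintro ⟨x, y, rfl⟩
      exact ⟨x, y, h3id x y⟩
  -- step 4: the Weyl element
  have hw : φ3 (wS hF) = wS hF := by
    obtain ⟨s, s0, s1⟩ := exists_not_zero_one hF hm
    set S := Units.mk0 s s0
    have hS : S ≠ 1 := fun e => s1 (congrArg Units.val e)
    have e := congrArg φ3 (wS_dS hF S)
    rw [map_mul, map_mul, (hd3 _).1, (hd3 _).1] at e
    have hconj : φ3 (wS hF) * dS hF S * (φ3 (wS hF))⁻¹ = dS hF S⁻¹ := by
      rw [← map_inv, wS_inv]; exact e
    rcases conj_torus hF hm hS hconj with ⟨q, hq, hq'⟩ | ⟨q, hq, -⟩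
    · exact absurd hq' (inv_ne_self hF hS)
    -- compare the images of infinity
    have hlhs : ((wS hF * uS hF 0 1 * wS hF)) • suzukiPointInfinity F = pt m (1 : F) 0 := by
      rw [mul_smul, mul_smul, smul_wS_inf, smul_uS_zero]
      show (wEl : SL4[F]) • pt m (0 : F) 1 = _
      rw [wEl_smul_pt hF (Or.inr one_ne_zero)]
      simp [fp]
    set β := (uS hF 1 0 * wS hF)⁻¹ * (wS hF * uS hF 0 1 * wS hF)
    have hβ : β • suzukiPointInfinity F = suzukiPointInfinity F := by
      rw [mul_smul, hlhs, inv_smul_eq_iff, mul_smul, smul_wS_inf, smul_uS_zero]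
    have hrel : wS hF * uS hF 0 1 * wS hF = uS hF 1 0 * wS hF * β := by
      simp only [β, mul_inv_cancel_left]
    have e2 := congrArg φ3 hrel
    simp only [map_mul, h3id, hq] at e2
    have e3 := congrArg (fun g : ↥(Cfsg.Sz F m) => g • suzukiPointInfinity F) e2
    simp only [mul_smul, smul_dS_inf, (hN φ3 hU3 β).mpr hβ, smul_wS_inf, smul_uS_zero] at e3
    have e4 : (wEl : SL4[F]) • ((dEl m q : SL4[F]) • pt m (0 : F) 1) = pt m (1 : F) 0 := e3
    rw [dEl_smul_pt hF, mul_zero, mul_one] at e4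
    have hl : th m (q : F) * (q : F) ^ 2 ≠ 0 :=
      mul_ne_zero (fun h => q.ne_zero (th_eq_zero_iff.mp h)) (pow_ne_zero _ q.ne_zero)
    rw [wEl_smul_pt hF (Or.inr hl)] at e4
    obtain ⟨e5, -⟩ := pt_injective e4
    simp only [fp, th_zero, zero_mul, zero_add, mul_zero] at e5
    rw [div_eq_one_iff_eq (fun h => hl (th_eq_zero_iff.mp h))] at e5
    have hl1 : th m (q : F) * (q : F) ^ 2 = 1 := by
      by_contra hne
      exact th_ne_self hF hl hne e5.symm
    rw [hq, show q = 1 from Units.ext (eq_one_of_th_sq hF hl1), dS_one, mul_one]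
  have hid : φ3 = 1 := by
    have htop : φ3.toMonoidHom.eqLocus (MonoidHom.id _) = ⊤ :=
      eq_top_of_mem hF hm _ h3id (fun s => (hd3 s).1) hw
    refine MulEquiv.ext fun g => ?_
    have : g ∈ φ3.toMonoidHom.eqLocus (MonoidHom.id _) := by rw [htop]; trivial
    exact this
  refine ⟨k * uS hF c d * dS hF r, i, ?_⟩
  rw [hφ3, hφ2, hφ1, inv_mul_eq_one, ← mul_assoc, eq_comm] at hid
  rw [map_mul, map_mul, mul_assoc (MulAut.conj k * MulAut.conj (uS hF c d))]
  rw [← hid]
  group

theorem card_out (hm : 1 ≤ m) : Nat.card (Cfsg.Out ↥(Cfsg.Sz F m)) = 2 * m + 1 := by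
  let Φ : Fin (2 * m + 1) → Cfsg.Out ↥(Cfsg.Sz F m) := fun i =>
    QuotientGroup.mk (fAut hF hm i)
  have hΦ : Function.Bijective Φ := by
    constructor
    · intro i j e
      obtain ⟨g, hg⟩ := QuotientGroup.eq.mp e
      have key : ∀ a : F, fAut hF hm j (uS hF a 0) = fAut hF hm i (g * uS hF a 0 * g⁻¹) := by
        intro a
        have := DFunLike.congr_fun hg (uS hF a 0)
        rw [MulAut.mul_apply, MulAut.conj_apply] at this
        rw [this, MulAut.apply_inv_self]
      have hfix : g • suzukiPointInfinity F = suzukiPointInfinity F := by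
        have hmem : g * uS hF 1 0 * g⁻¹ ∈ U hF := by
          have := key 1
          rw [fAut_uS, one_pow, zero_pow (by positivity)] at this
          refine ⟨1, 0, (fAut hF hm i).injective ?_⟩
          rw [← this, fAut_uS, one_pow, zero_pow (by positivity)]
        exact conj_fix_inf hF ⟨1, 0, rfl⟩ (fun h => one_ne_zero ((eq_one_iff_uS hF).mp h).1) hmem
      obtain ⟨a, b, t, rfl⟩ := (mem_stabInf_iff hF hm).mp hfix
      have key1 : ∀ x : F, x ^ 2 ^ (j : ℕ) = (th m (t : F) * x) ^ 2 ^ (i : ℕ) := by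
        intro x
        have := key x
        rw [conj_uS, fAut_uS, fAut_uS] at this
        exact (uS_inj hF this).1
      have ht : th m (t : F) = 1 := by
        have := key1 1
        rw [mul_one, one_pow] at this
        exact (frob hF (i : ℕ)).injective (by rw [map_one]; exact this.symm)
      exact Fin.ext (pow_two_pow_injective hF i.2 j.2 hm fun x => by rw [key1, ht, one_mul])
    · intro x
      obtain ⟨φ, rfl⟩ := QuotientGroup.mk_surjective x
      obtain ⟨g, i, rfl⟩ := aut_eq hF hm φ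
      refine ⟨i, ?_⟩
      have h1 : (QuotientGroup.mk (MulAut.conj g) : Cfsg.Out ↥(Cfsg.Sz F m)) = 1 :=
        (QuotientGroup.eq_one_iff _).mpr ⟨g, rfl⟩
      show _ = (QuotientGroup.mk (MulAut.conj g * fAut hF hm i) : Cfsg.Out ↥(Cfsg.Sz F m))
      rw [QuotientGroup.mk_mul, h1, one_mul]
  rw [← Nat.card_congr (Equiv.ofBijective Φ hΦ), Nat.card_fin]

end CfsgLib.Suzuki
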