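/-
Subfield subgroups of the Suzuki group.
-/
import Mathlib
import Cfsg.Prelude.Def_LieExceptional
import Cfsg.Agent.Lib.Suzuki.Aut

namespace CfsgLib.Suzuki

open Cfsg Matrix
open scoped Pointwise

local notation "SL4[" F "]" => Matrix.SpecialLinearGroup (Fin 4) F

variable {F : Type*} [Field F] [Fintype F] {m : ℕ} (hF : Fintype.card F = 2 ^ (2 * m + 1))
include hF

/-- The subfield of order `2^(2k+1)` as a set. -/
def subSet (k : ℕ) : Set F := {x | x ^ 2 ^ (2 * k + 1) = x}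

/-- The subgroup of elements fixed by a field automorphism. -/
noncomputable def subGp (hm : 1 ≤ m) (k : ℕ) : Subgroup ↥(Cfsg.Sz F m) :=
  (fAut hF hm (2 * k + 1)).toMonoidHom.eqLocus (MonoidHom.id _)

theorem mem_subGp (hm : 1 ≤ m) {k : ℕ} {g : ↥(Cfsg.Sz F m)} :
    g ∈ subGp hF hm k ↔ fAut hF hm (2 * k + 1) g = g := Iff.rfl

theorem uS_mem_subGp (hm : 1 ≤ m) {k : ℕ} {a b : F} :
    uS hF a b ∈ subGp hF hm k ↔ a ∈ subSet k ∧ b ∈ subSet k := by
  rw [mem_subGp hF hm, fAut_uS]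
  constructor
  · exact fun h => uS_inj hF h
  · rintro ⟨ha, hb⟩
    rw [ha, hb]

theorem dS_mem_subGp (hm : 1 ≤ m) {k : ℕ} {t : Fˣ} :
    dS hF t ∈ subGp hF hm k ↔ (t : F) ∈ subSet k := by
  rw [mem_subGp hF hm, fAut_dS]
  constructor
  · intro h
    exact congrArg Units.val (dS_inj hF h)
  · intro h
    congr 1
    exact Units.ext h

theorem fAut_wS (hm : 1 ≤ m) (i : ℕ) : fAut hF hm i (wS hF) = wS hF :=
  Subtype.ext (map_wEl hF i)

theorem wS_mem_subGp (hm : 1 ≤ m) (k : ℕ) : wS hF ∈ subGp hF hm k :=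
  (mem_subGp hF hm).mpr (fAut_wS hF hm _)

theorem subGp_form (hm : 1 ≤ m) {k : ℕ} {g : ↥(Cfsg.Sz F m)} (hg : g ∈ subGp hF hm k) :
    (∃ (a b : F) (t : Fˣ), a ∈ subSet k ∧ b ∈ subSet k ∧ (t : F) ∈ subSet k ∧
        g = uS hF a b * dS hF t) ∨
      ∃ (a b c d : F) (t : Fˣ), a ∈ subSet k ∧ b ∈ subSet k ∧ c ∈ subSet k ∧ d ∈ subSet k ∧
        (t : F) ∈ subSet k ∧ g = uS hF a b * wS hF * (uS hF c d * dS hF t) := by
  rw [mem_subGp hF hm] at hg
  rcases exists_closure_form hF hm g with ⟨a, b, t, rfl⟩ | ⟨a, b, c, d, t, rfl⟩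
  · rw [map_mul, fAut_uS, fAut_dS] at hg
    obtain ⟨h1, h2, h3⟩ := form_injective hF hg
    exact Or.inl ⟨a, b, t, h1, h2, congrArg Units.val h3, rfl⟩
  · rw [map_mul, map_mul, map_mul, fAut_uS, fAut_wS, fAut_uS, fAut_dS] at hg
    have h' := congrArg (fun x : ↥(Cfsg.Sz F m) => x • suzukiPointInfinity F) hg
    simp only [mul_smul, smul_dS_inf, smul_uS_inf, smul_wS_inf, smul_uS_zero] at h'
    obtain ⟨h1, h2⟩ := pt_injective h'
    rw [h1, h2] at hg
    obtain ⟨h3, h4, h5⟩ := form_injective hF (mul_left_cancel hg)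
    exact Or.inr ⟨a, b, c, d, t, h1, h2, h3, h4, congrArg Units.val h5, rfl⟩

section Embed

variable {K : Type*} [Field K] [Fintype K] {k : ℕ} (hK : Fintype.card K = 2 ^ (2 * k + 1))
  (hdiv : 2 * k + 1 ∣ 2 * m + 1) (f : K →+* F)
include hK hdiv

theorem map_th (x : K) : f (th k x) = th m (f x) := by
  rw [th, th, ← map_pow]
  congr 1
  rw [pow_pow_mod hK x (m + 1), pow_pow_mod hK x (k + 1)]
  congr 3
  obtain ⟨d, hd⟩ := hdiv
  obtain ⟨c, rfl⟩ : Odd d := (Nat.odd_mul.mp (hd ▸ odd_two_mul_add_one m)).2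
  have e : m + 1 = k + 1 + (2 * k + 1) * c := by nlinarith
  rw [e, Nat.cast_add (k + 1), Nat.cast_mul, ZMod.natCast_self, zero_mul, add_zero]

theorem map_uEl_hom (a b : K) :
    Matrix.SpecialLinearGroup.map f (uEl k a b) = uEl m (f a) (f b) := by
  apply Subtype.ext
  show (mU k a b).map f = mU m (f a) (f b)
  ext p q
  fin_cases p <;> fin_cases q <;>
    simp [mU, fp, map_th hF hK hdiv f, map_mul, map_add, map_pow]

theorem map_dEl_hom (t : Kˣ) :
    Matrix.SpecialLinearGroup.map f (dEl k t) = dEl m (Units.map f.toMonoidHom t) := by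
  apply Subtype.ext
  show (mD k (t : K)).map f = mD m (f (t : K))
  simp only [mD, Matrix.diagonal_map (map_zero _)]
  congr 1
  funext p
  fin_cases p <;> simp [map_th hF hK hdiv f, map_mul, map_inv₀]

omit [Fintype F] [Fintype K] hF hK hdiv in
theorem map_wEl_hom : Matrix.SpecialLinearGroup.map f (wEl : SL4[K]) = (wEl : SL4[F]) := by
  apply Subtype.ext
  show (mW : Matrix (Fin 4) (Fin 4) K).map f = mW
  ext p q
  fin_cases p <;> fin_cases q <;> simp [mW]

theorem embed_mem (hk : 1 ≤ k) {g : SL4[K]} (hg : g ∈ Cfsg.Sz K k) :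
    Matrix.SpecialLinearGroup.map f g ∈ Cfsg.Sz F m := by
  rcases exists_closure_form hK hk ⟨g, hg⟩ with ⟨a, b, t, h⟩ | ⟨a, b, c, d, t, h⟩
  · have h' : g = uEl k a b * dEl k t := congrArg Subtype.val h
    rw [h', map_mul, map_uEl_hom hF hK hdiv, map_dEl_hom hF hK hdiv]
    exact mul_mem (uEl_mem hF _ _) (dEl_mem hF _)
  · have h' : g = uEl k a b * wEl * (uEl k c d * dEl k t) := congrArg Subtype.val h
    rw [h', map_mul, map_mul, map_mul, map_uEl_hom hF hK hdiv, map_wEl_hom,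
      map_uEl_hom hF hK hdiv, map_dEl_hom hF hK hdiv]
    exact mul_mem (mul_mem (uEl_mem hF _ _) (wEl_mem hF)) (mul_mem (uEl_mem hF _ _) (dEl_mem hF _))

/-- The embedding of a smaller Suzuki group. -/
noncomputable def embed (hk : 1 ≤ k) : ↥(Cfsg.Sz K k) →* ↥(Cfsg.Sz F m) :=
  ((Matrix.SpecialLinearGroup.map f).comp (Cfsg.Sz K k).subtype).codRestrict _
    (fun g => embed_mem hF hK hdiv f hk g.2)

theorem embed_injective (hk : 1 ≤ k) : Function.Injective (embed hF hK hdiv f hk) := by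
  intro g h e
  apply Subtype.ext
  apply Subtype.ext
  ext p q
  exact f.injective (congrFun (congrFun (congrArg Subtype.val (congrArg Subtype.val e)) p) q)

omit hdiv hF in
theorem range_eq_subSet : Set.range f = subSet (F := F) k := by
  classical
  apply Set.eq_of_subset_of_ncard_le
  · rintro _ ⟨x, rfl⟩
    show f x ^ 2 ^ (2 * k + 1) = f x
    rw [← map_pow, ← hK, FiniteField.pow_card]
  · rw [Set.ncard_range_of_injective f.injective, Nat.card_eq_fintype_card, hK]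
    have h1 : 1 < 2 ^ (2 * k + 1) := Nat.one_lt_two_pow (by omega)
    have hne : (Polynomial.X ^ 2 ^ (2 * k + 1) - Polynomial.X : Polynomial F) ≠ 0 :=
      FiniteField.X_pow_card_sub_X_ne_zero F h1
    have hsub : subSet (F := F) k ⊆
        ↑(Polynomial.X ^ 2 ^ (2 * k + 1) - Polynomial.X : Polynomial F).roots.toFinset := by
      intro x hx
      rw [Finset.mem_coe, Multiset.mem_toFinset, Polynomial.mem_roots hne, Polynomial.IsRoot.def]
      simp [show x ^ 2 ^ (2 * k + 1) = x from hx]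
    refine (Set.ncard_le_ncard hsub (Set.toFinite _)).trans ?_
    rw [Set.ncard_coe_finset]
    refine (Multiset.toFinset_card_le _).trans ((Polynomial.card_roots' _).trans ?_)
    rw [FiniteField.X_pow_card_sub_X_natDegree_eq F h1]
  · exact Set.toFinite _

theorem embed_range (hm : 1 ≤ m) (hk : 1 ≤ k) :
    (embed hF hK hdiv f hk).range = subGp hF hm k := by
  have hE := range_eq_subSet hK f
  have eu : ∀ a b : K, embed hF hK hdiv f hk (uS hK a b) = uS hF (f a) (f b) := fun a b =>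
    Subtype.ext (map_uEl_hom hF hK hdiv f a b)
  have ed : ∀ t : Kˣ, embed hF hK hdiv f hk (dS hK t) = dS hF (Units.map f.toMonoidHom t) := fun t =>
    Subtype.ext (map_dEl_hom hF hK hdiv f t)
  have ew : embed hF hK hdiv f hk (wS hK) = wS hF := Subtype.ext (map_wEl_hom f)
  have hin : ∀ x, f x ∈ subSet (F := F) k := fun x => hE ▸ ⟨x, rfl⟩
  apply le_antisymm
  · rintro _ ⟨g, rfl⟩
    rcases exists_closure_form hK hk g with ⟨a, b, t, rfl⟩ | ⟨a, b, c, d, t, rfl⟩
    · rw [map_mul, eu, ed]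
      exact mul_mem ((uS_mem_subGp hF hm).mpr ⟨hin _, hin _⟩) ((dS_mem_subGp hF hm).mpr (hin _))
    · rw [map_mul, map_mul, map_mul, eu, ew, eu, ed]
      exact mul_mem (mul_mem ((uS_mem_subGp hF hm).mpr ⟨hin _, hin _⟩) (wS_mem_subGp hF hm k))
        (mul_mem ((uS_mem_subGp hF hm).mpr ⟨hin _, hin _⟩) ((dS_mem_subGp hF hm).mpr (hin _)))
  · intro g hg
    have lift : ∀ x ∈ subSet (F := F) k, ∃ y, f y = x := fun x hx => by rw [← hE] at hx; exact hx
    have liftU : ∀ t : Fˣ, (t : F) ∈ subSet k → ∃ s : Kˣ, Units.map f.toMonoidHom s = t := by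
      intro t ht
      obtain ⟨y, hy⟩ := lift _ ht
      exact ⟨Units.mk0 y (fun h => t.ne_zero (by rw [← hy, h, map_zero])), Units.ext hy⟩
    rcases subGp_form hF hm hg with ⟨a, b, t, ha, hb, ht, rfl⟩ | ⟨a, b, c, d, t, ha, hb, hc, hd, ht, rfl⟩
    · obtain ⟨a', rfl⟩ := lift a ha
      obtain ⟨b', rfl⟩ := lift b hb
      obtain ⟨t', rfl⟩ := liftU t ht
      exact ⟨uS hK a' b' * dS hK t', by rw [map_mul, eu, ed]⟩
    · obtain ⟨a', rfl⟩ := lift a ha
      obtain ⟨b', rfl⟩ := lift b hb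
      obtain ⟨c', rfl⟩ := lift c hc
      obtain ⟨d', rfl⟩ := lift d hd
      obtain ⟨t', rfl⟩ := liftU t ht
      exact ⟨uS hK a' b' * wS hK * (uS hK c' d' * dS hK t'),
        by rw [map_mul, map_mul, map_mul, eu, ew, eu, ed]⟩

include f in
/-- The subfield subgroup is a smaller Suzuki group. -/
theorem subGp_equiv (hm : 1 ≤ m) (hk : 1 ≤ k) :
    Nonempty (↥(subGp hF hm k) ≃* ↥(Cfsg.Sz K k)) :=
  ⟨((MonoidHom.ofInjective (embed_injective hF hK hdiv f hk)).trans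
    (MulEquiv.subgroupCongr (embed_range hF hK hdiv f hm hk))).symm⟩

end Embed

theorem exists_ringHom {K : Type*} [Field K] [Fintype K] {k : ℕ}
    (hK : Fintype.card K = 2 ^ (2 * k + 1)) (hdiv : 2 * k + 1 ∣ 2 * m + 1) :
    Nonempty (K →+* F) := by
  haveI : Fact (Nat.Prime 2) := ⟨Nat.prime_two⟩
  haveI := charTwo hK
  haveI := charTwo hF
  letI : Algebra (ZMod 2) F := ZMod.algebra F 2
  letI : Algebra (ZMod 2) K := ZMod.algebra K 2
  have hfin : ∀ (L : Type _) [Field L] [Fintype L] [Algebra (ZMod 2) L] (n : ℕ),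
      Fintype.card L = 2 ^ n → Module.finrank (ZMod 2) L = n := by
    intro L _ _ _ n h
    apply Nat.pow_right_injective (le_refl 2)
    show 2 ^ Module.finrank (ZMod 2) L = 2 ^ n
    rw [← h, Module.card_eq_pow_finrank (K := ZMod 2), ZMod.card]
  have hK' : Module.finrank (ZMod 2) K = 2 * k + 1 := by
    apply Nat.pow_right_injective (le_refl 2)
    show 2 ^ Module.finrank (ZMod 2) K = 2 ^ (2 * k + 1)
    rw [← hK, Module.card_eq_pow_finrank (K := ZMod 2), ZMod.card]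
  obtain ⟨f⟩ := FiniteField.nonempty_algHom_of_finrank_dvd (F := ZMod 2) (K := K) (L := F)
    (by rw [hK', hfin F _ hF]; exact hdiv)
  exact ⟨f.toRingHom⟩

/-- The subfield subgroup in intrinsic form. -/
theorem subGp_equiv_any (hm : 1 ≤ m) {K : Type*} [Field K] [Fintype K] {k : ℕ} (hk : 1 ≤ k)
    (hK : Fintype.card K = 2 ^ (2 * k + 1)) (hdiv : 2 * k + 1 ∣ 2 * m + 1) :
    Nonempty (↥(subGp hF hm k) ≃* ↥(Cfsg.Sz K k)) := by
  obtain ⟨f⟩ := exists_ringHom hF hK hdiv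
  exact subGp_equiv hF hK hdiv f hm hk

theorem card_subGp (hm : 1 ≤ m) {k : ℕ} (hk : 1 ≤ k) (hdiv : 2 * k + 1 ∣ 2 * m + 1) :
    Nat.card (subGp hF hm k) = (2 ^ (2 * k + 1)) ^ 2 * ((2 ^ (2 * k + 1)) ^ 2 + 1) *
      (2 ^ (2 * k + 1) - 1) := by
  haveI : Fact (Nat.Prime 2) := ⟨Nat.prime_two⟩
  letI : Fintype (GaloisField 2 (2 * k + 1)) := Fintype.ofFinite _
  have hK : Fintype.card (GaloisField 2 (2 * k + 1)) = 2 ^ (2 * k + 1) := by
    rw [← Nat.card_eq_fintype_card, GaloisField.card 2 (2 * k + 1) (by omega)]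
  obtain ⟨e⟩ := subGp_equiv_any hF hm hk hK hdiv
  rw [Nat.card_congr e.toEquiv, card_Sz hK hk]

theorem exists_galois_subGp (hm : 1 ≤ m) {k : ℕ} (hk : 1 ≤ k) (hdiv : 2 * k + 1 ∣ 2 * m + 1) :
    ∃ (K : Type) (_ : Field K) (_ : Fintype K), Fintype.card K = 2 ^ (2 * k + 1) ∧
      Nonempty (↥(subGp hF hm k) ≃* ↥(Cfsg.Sz K k)) := by
  haveI : Fact (Nat.Prime 2) := ⟨Nat.prime_two⟩
  letI : Fintype (GaloisField 2 (2 * k + 1)) := Fintype.ofFinite _
  have hK : Fintype.card (GaloisField 2 (2 * k + 1)) = 2 ^ (2 * k + 1) := by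
    rw [← Nat.card_eq_fintype_card, GaloisField.card 2 (2 * k + 1) (by omega)]
  exact ⟨GaloisField 2 (2 * k + 1), inferInstance, inferInstance, hK,
    subGp_equiv_any hF hm hk hK hdiv⟩

end CfsgLib.Suzuki
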