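/-
Preparations for the subgroup theorem of the Suzuki groups.
-/
import Mathlib
import Cfsg.Prelude.Def_LieExceptional
import Cfsg.Agent.Lib.Suzuki.Semisimple
import Cfsg.Agent.Lib.Suzuki.Subfield

namespace CfsgLib.Suzuki

open Cfsg
open scoped Pointwise

section General

variable {G : Type*} [Group G] {X : Type*} [MulAction G X]

/-- The order of a freely acting group divides the size of an invariant finite set. -/
theorem free_card_dvd [Finite G] [Finite X] (s : Set X) (hs : ∀ g : G, ∀ x ∈ s, g • x ∈ s)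
    (hfree : ∀ g : G, ∀ x ∈ s, g • x = x → g = 1) : Nat.card G ∣ s.ncard := by
  classical
  let Y : SubMulAction G X := ⟨s, fun g x hx => hs g x hx⟩
  haveI : Fintype (MulAction.orbitRel.Quotient G Y) := Fintype.ofFinite _
  have hstab : ∀ y : Y, MulAction.stabilizer G y = ⊥ := fun y => by
    rw [Subgroup.eq_bot_iff_forall]
    intro g hg
    exact hfree g y.1 y.2 (congrArg Subtype.val hg)
  have e := Nat.card_congr (MulAction.selfEquivSigmaOrbitsQuotientStabilizer G Y)
  rw [Nat.card_sigma] at e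
  simp only [hstab, ← Subgroup.index_eq_card, Subgroup.index_bot, Finset.sum_const, smul_eq_mul] at e
  rw [show s.ncard = Nat.card Y from (Nat.card_coe_set_eq s).symm, e]
  exact dvd_mul_left _ _

end General

variable {F : Type*} [Field F] [Fintype F] {m : ℕ} (hF : Fintype.card F = 2 ^ (2 * m + 1))
include hF

theorem isZGroup_of_odd (hm : 1 ≤ m) {M : Subgroup ↥(Cfsg.Sz F m)} (hodd : ¬ 2 ∣ Nat.card M) :
    IsZGroup M := by
  refine ⟨fun p hp P => ?_⟩
  haveI : Fact p.Prime := ⟨hp⟩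
  by_cases h2 : p = 2
  · subst h2
    have h1 : Nat.card P = 1 := by
      obtain ⟨j, hj⟩ := IsPGroup.iff_card.mp P.isPGroup'
      rcases Nat.eq_zero_or_pos j with rfl | hpos
      · simpa using hj
      · exact absurd ((dvd_pow_self 2 hpos.ne').trans
          (hj ▸ Subgroup.card_subgroup_dvd_card (P : Subgroup M))) hodd
    haveI : Subsingleton P := (Nat.card_eq_one_iff_unique.mp h1).1
    exact isCyclic_of_subsingleton
  · obtain ⟨Q, hQ⟩ := (P.isPGroup'.map M.subtype).exists_le_sylow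
    haveI := isCyclic_sylow_odd hF hm h2 Q
    let f : (P : Subgroup M) →* (Q : Subgroup ↥(Cfsg.Sz F m)) :=
      (M.subtype.comp (P : Subgroup M).subtype).codRestrict _ (fun x => hQ ⟨x.1, x.2, rfl⟩)
    exact isCyclic_of_injective f fun a b h => by
      have h' := congrArg (fun w : (Q : Subgroup ↥(Cfsg.Sz F m)) => (w : ↥(Cfsg.Sz F m))) h
      exact Subtype.ext (Subtype.ext h')

/-- A subgroup of odd order has a non-trivial abelian normal subgroup. -/
theorem exists_abelian_normal_odd (hm : 1 ≤ m) {M : Subgroup ↥(Cfsg.Sz F m)} (hne : M ≠ ⊥)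
    (hodd : ¬ 2 ∣ Nat.card M) :
    ∃ C : Subgroup M, C.Characteristic ∧ C ≠ ⊥ ∧ ∀ x ∈ C, ∀ y ∈ C, x * y = y * x := by
  haveI := isZGroup_of_odd hF hm hodd
  by_cases hc : commutator M = ⊥
  · refine ⟨⊤, inferInstance, ?_, fun x _ y _ => ?_⟩
    · haveI : Nontrivial M := (Subgroup.nontrivial_iff_ne_bot M).mpr hne
      exact top_ne_bot
    · have h := Subgroup.commutator_mem_commutator (Subgroup.mem_top x) (Subgroup.mem_top y)
      rw [← commutator_def, hc, Subgroup.mem_bot] at h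
      exact mul_inv_eq_iff_eq_mul.mp (mul_inv_eq_one.mp h)
  · haveI := IsZGroup.isCyclic_commutator (G := M)
    letI : CommGroup (commutator M) := IsCyclic.commGroup
    exact ⟨commutator M, Subgroup.commutator_characteristic ⊤ ⊤, hc, fun x hx y hy =>
      congrArg Subtype.val (mul_comm (⟨x, hx⟩ : commutator M) ⟨y, hy⟩)⟩

/-- Two involutions with different fixed points are conjugate in any subgroup containing them. -/
theorem invol_conj (hm : 1 ≤ m) {M : Subgroup ↥(Cfsg.Sz F m)} {i j : ↥(Cfsg.Sz F m)} (hi : i ∈ M)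
    (hj : j ∈ M) (hi1 : i ≠ 1) (hj1 : j ≠ 1) (hi2 : i * i = 1) (hj2 : j * j = 1)
    {p : Projectivization F (Fin 4 → F)} (hp : p ∈ suzukiOvoid F m) (hip : i • p = p)
    (hjp : j • p ≠ p) : ∃ x ∈ M, x * i * x⁻¹ = j := by
  set g := i * j with hg
  have hinv : i * g * i = g⁻¹ := by
    rw [hg, _root_.mul_inv_rev, inv_eq_of_mul_eq_one_right hi2, inv_eq_of_mul_eq_one_right hj2,
      ← mul_assoc i i j, hi2, one_mul]
  have hodd : ¬ 2 ∣ orderOf g := by
    by_cases h1 : g = 1
    · rw [h1, orderOf_one]; norm_num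
    refine ss_orderOf_odd hF hm ⟨h1, fun hU => hjp ?_⟩
    obtain ⟨r, hr, hgr, huniq⟩ := unip_fix hF hm hU
    have hir : i • r = r := by
      refine huniq _ (smul_mem_ovoid i.2 hr) ?_
      have e : g * i = i * g⁻¹ := by rw [← hinv, ← mul_assoc, ← mul_assoc, hi2, one_mul]
      rw [← mul_smul, e, mul_smul, inv_smul_eq_iff.mpr hgr.symm]
    have hjr : j • r = r := by
      have e : j = i * g := by rw [hg, ← mul_assoc, hi2, one_mul]
      rw [e, mul_smul, hgr, hir]
    obtain ⟨s, -, -, hs⟩ := unip_fix hF hm (invol_unip hF hm hi1 hi2)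
    rw [hs p hp hip, ← hs r hr hir]
    exact hjr
  obtain ⟨k, hk⟩ : ∃ k, orderOf g = 2 * k + 1 := ⟨orderOf g / 2, by omega⟩
  set h := g ^ (k + 1) with hh
  have hh2 : h * h = g := by
    rw [hh, ← pow_add, show k + 1 + (k + 1) = orderOf g + 1 by omega, pow_succ, pow_orderOf_eq_one,
      one_mul]
  have hhi : i * h * i = h⁻¹ := by
    have hii : i⁻¹ = i := inv_eq_of_mul_eq_one_right hi2
    have e : i * h * i⁻¹ = (i * g * i⁻¹) ^ (k + 1) := by rw [conj_pow, hh]
    rw [hii, hinv, inv_pow, ← hh] at e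
    exact e
  refine ⟨h⁻¹, inv_mem (pow_mem (mul_mem hi hj) _), ?_⟩
  rw [inv_inv, ← hhi]
  calc i * h * i * i * h = i * (h * (i * i) * h) := by group
    _ = i * g := by rw [hi2, mul_one, hh2]
    _ = j := by rw [hg, ← mul_assoc, hi2, one_mul]

/-- Class data for a semisimple element inside a subgroup. -/
theorem class_term (hm : 1 ≤ m) (M : Subgroup ↥(Cfsg.Sz F m)) {z : ↥(Cfsg.Sz F m)} (hz : SS hF z)
    (hzM : z ∈ M) :
    ∃ a e : ℕ, Nat.card ((Subgroup.centralizer ({z} : Set ↥(Cfsg.Sz F m))).subgroupOf M) = a ∧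
      Nat.card (Subgroup.normalizer
        (((Subgroup.centralizer ({z} : Set ↥(Cfsg.Sz F m))).subgroupOf M : Subgroup M) : Set M)) = e * a ∧
      5 ≤ a ∧ ¬ 2 ∣ a ∧ (e = 1 ∨ e = 2 ∨ e = 4) ∧
      (∃ c, (∃ k, IsTorusOrder m k ∧ a ∣ k) ∧ (c = 2 ∨ c = 4) ∧ e ∣ c) ∧
      Nat.card (conjSet ((Subgroup.centralizer ({z} : Set ↥(Cfsg.Sz F m))).subgroupOf M)) * (e * a) =
        Nat.card M * (a - 1) := by
  classical
  obtain ⟨c, hc, hcyc, hord, hN⟩ := ss_data hF hm hz
  set A := Subgroup.centralizer ({z} : Set ↥(Cfsg.Sz F m)) with hA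
  set AM := A.subgroupOf M with hAM
  set N := Subgroup.normalizer (AM : Set M) with hNdef
  have hzA : z ∈ A := by rw [hA, Subgroup.mem_centralizer_singleton_iff]
  have hzAM : (⟨z, hzM⟩ : M) ∈ AM := hzA
  obtain ⟨-, h5, ho2, ho3⟩ := torusOrder_props hF hm hord
  have hdvd : Nat.card AM ∣ Nat.card A := by
    let f : AM →* A := ((M.subtype).comp AM.subtype).codRestrict A (fun x => x.2)
    exact Subgroup.card_dvd_of_injective f (fun x y h => by
      have h' := congrArg (fun w : A => (w : ↥(Cfsg.Sz F m))) h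
      exact Subtype.ext (Subtype.ext h'))
  have h1 : 1 < Nat.card AM :=
    Finite.one_lt_card_iff_nontrivial.mpr
      ⟨⟨_, hzAM⟩, 1, fun h => hz.1 (congrArg (fun y => y.1.1) h)⟩
  have hodd : ¬ 2 ∣ Nat.card AM := fun h => ho2 (h.trans hdvd)
  have h5' : 5 ≤ Nat.card AM := by
    have h3 : Nat.card AM ≠ 3 := fun h => ho3 (h ▸ hdvd)
    omega
  have hTI : ∀ x ∈ AM, x ≠ 1 → ∀ y : M, y * x * y⁻¹ ∈ AM → y ∈ N := by
    intro x hx hx1 y hy
    have hy' := ss_normalizer hF hm hz (a := x.1) (x := y.1) hx (fun h => hx1 (Subtype.ext h)) hy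
    rw [hNdef, Subgroup.mem_normalizer_iff]
    intro w
    exact Subgroup.mem_normalizer_iff.mp hy' w.1
  have hNle : ∀ y ∈ N, (y : ↥(Cfsg.Sz F m)) ∈ Subgroup.normalizer (A : Set ↥(Cfsg.Sz F m)) := by
    intro y hy
    have h := (Subgroup.mem_normalizer_iff.mp hy ⟨z, hzM⟩).mp hzAM
    rw [hAM, Subgroup.mem_subgroupOf, Subgroup.coe_mul, Subgroup.coe_mul, Subgroup.coe_inv] at h
    exact ss_normalizer hF hm hz (a := z) (x := (y : ↥(Cfsg.Sz F m))) hzA hz.1 h
  let φ : N →* Subgroup.normalizer (A : Set ↥(Cfsg.Sz F m)) :=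
    (M.subtype.comp N.subtype).codRestrict _ (fun y => hNle y.1 y.2)
  let ψ := (QuotientGroup.mk' (A.subgroupOf (Subgroup.normalizer (A : Set ↥(Cfsg.Sz F m))))).comp φ
  have hker : ψ.ker = AM.subgroupOf N := by
    ext y
    rw [MonoidHom.mem_ker, MonoidHom.comp_apply, QuotientGroup.mk'_apply, QuotientGroup.eq_one_iff]
    rfl
  have hcardker : Nat.card ψ.ker = Nat.card AM := by
    rw [hker]
    exact Nat.card_congr (Subgroup.subgroupOfEquivOfLe (Subgroup.le_normalizer (H := AM))).toEquiv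
  have he : Nat.card N = Nat.card ψ.range * Nat.card AM := by
    rw [← hcardker, mul_comm, ← Subgroup.index_ker, Subgroup.card_mul_index]
  have hq : Nat.card (↥(Subgroup.normalizer (A : Set ↥(Cfsg.Sz F m))) ⧸
      A.subgroupOf (Subgroup.normalizer (A : Set ↥(Cfsg.Sz F m)))) = c := by
    have h := Subgroup.card_mul_index (A.subgroupOf (Subgroup.normalizer (A : Set ↥(Cfsg.Sz F m))))
    rw [Nat.card_congr (Subgroup.subgroupOfEquivOfLe (Subgroup.le_normalizer (H := A))).toEquiv, hN,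
      mul_comm c] at h
    exact Nat.eq_of_mul_eq_mul_left (by omega) h
  have hec : Nat.card ψ.range ∣ c := hq ▸ Subgroup.card_subgroup_dvd_card ψ.range
  have he4 : Nat.card ψ.range = 1 ∨ Nat.card ψ.range = 2 ∨ Nat.card ψ.range = 4 := by
    have hd : Nat.card ψ.range ∣ 2 ^ 2 := hec.trans (by rcases hc with rfl | rfl <;> norm_num)
    obtain ⟨i, hi, hi'⟩ := (Nat.dvd_prime_pow Nat.prime_two).mp hd
    rw [hi']
    interval_cases i <;> norm_num
  refine ⟨_, _, rfl, he, h5', hodd, he4, ⟨c, ⟨_, hord, hdvd⟩, hc, hec⟩, ?_⟩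
  rw [← he]
  exact card_conjSet AM hTI

/-- If the normaliser index is four there is an element of order four. -/
theorem exists_order_four (hm : 1 ≤ m) (M : Subgroup ↥(Cfsg.Sz F m)) {z : ↥(Cfsg.Sz F m)}
    (hz : SS hF z) (hzM : z ∈ M)
    (h4 : Nat.card (Subgroup.normalizer
        (((Subgroup.centralizer ({z} : Set ↥(Cfsg.Sz F m))).subgroupOf M : Subgroup M) : Set M)) =
      4 * Nat.card ((Subgroup.centralizer ({z} : Set ↥(Cfsg.Sz F m))).subgroupOf M)) :
    ∃ x ∈ M, x ^ 4 = 1 ∧ x ^ 2 ≠ 1 := by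
  classical
  haveI : Fact (Nat.Prime 2) := ⟨Nat.prime_two⟩
  obtain ⟨c, -, hcyc, hord, -⟩ := ss_data hF hm hz
  set A := Subgroup.centralizer ({z} : Set ↥(Cfsg.Sz F m)) with hA
  set AM := A.subgroupOf M
  set N := Subgroup.normalizer (AM : Set M)
  obtain ⟨a, e, ha, -, -, hodd, -, -, -⟩ := class_term hF hm M hz hzM
  rw [ha] at h4
  obtain ⟨P, hP⟩ := Sylow.exists_subgroup_card_pow_prime 2 (n := 2) (G := N)
    (by rw [h4]; exact dvd_mul_right _ _)
  have hpow : ∀ x ∈ P, x ^ 4 = 1 := fun x hx => by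
    have := pow_card_eq_one' (x := (⟨x, hx⟩ : P))
    rw [hP] at this
    exact congrArg Subtype.val this
  by_contra hcon
  push Not at hcon
  have hsq : ∀ x ∈ P, x ^ 2 = 1 := by
    intro x hx
    have := hcon x.1.1 x.1.2 (congrArg (fun y => y.1.1) (hpow x hx))
    exact Subtype.ext (Subtype.ext this)
  have hzA : z ∈ A := by rw [hA, Subgroup.mem_centralizer_singleton_iff]
  haveI := hcyc
  letI : CommGroup A := IsCyclic.commGroup
  have hoA : ¬ 2 ∣ Nat.card A := (torusOrder_props hF hm hord).2.2.1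
  have notA : ∀ x : ↥(Cfsg.Sz F m), x ∈ A → x ^ 2 = 1 → x = 1 := by
    intro x hx hx2
    by_contra h1
    refine hoA ?_
    rw [← orderOf_eq_prime (p := 2) hx2 h1]
    exact Subgroup.orderOf_dvd_natCard A hx
  -- involutions of `P` invert `z`
  have key : ∀ x ∈ P, x ≠ 1 → (x.1.1 : ↥(Cfsg.Sz F m)) * z * x.1.1 = z⁻¹ := by
    intro x hx hx1
    set y : ↥(Cfsg.Sz F m) := x.1.1
    have hy2 : y * y = 1 := by rw [← sq]; exact congrArg (fun w => w.1.1) (hsq x hx)
    have hyi : y⁻¹ = y := inv_eq_of_mul_eq_one_right hy2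
    have hw : y * z * y ∈ A := by
      have h := (Subgroup.mem_normalizer_iff.mp x.2 ⟨z, hzM⟩).mp hzA
      have h' : y * z * y⁻¹ ∈ A := h
      rwa [hyi] at h'
    have hcom : z * (y * z * y) = y * z * y * z :=
      congrArg Subtype.val (mul_comm (⟨z, hzA⟩ : A) ⟨_, hw⟩)
    set d := z * (y * z * y) with hd
    by_cases hd1 : d = 1
    · exact (inv_eq_of_mul_eq_one_right hd1).symm
    exfalso
    have hdA : d ∈ A := mul_mem hzA hw
    have hyd : y ∈ Subgroup.centralizer ({d} : Set ↥(Cfsg.Sz F m)) := by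
      rw [Subgroup.mem_centralizer_singleton_iff]
      calc y * d = y * y * (z * y * z) := by rw [hcom]; group
        _ = z * y * z * (y * y) := by rw [hy2, one_mul, mul_one]
        _ = d * y := by simp only [d, mul_assoc]
    rw [(ss_centralizer_eq hF hm hz hdA hd1).2] at hyd
    refine hx1 (Subtype.ext (Subtype.ext ?_))
    exact notA y hyd (by rw [sq]; exact hy2)
  haveI : Fintype P := Fintype.ofFinite P
  have hc4 : 2 < Fintype.card P := by rw [← Nat.card_eq_fintype_card, hP]; norm_num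
  obtain ⟨u, v, w, huv, huw, hvw⟩ := Fintype.two_lt_card_iff.mp hc4
  obtain ⟨x, hx, x', hx', hxx, hx1, hx1'⟩ : ∃ x, x ∈ P ∧ ∃ x', x' ∈ P ∧ x ≠ x' ∧ x ≠ 1 ∧ x' ≠ 1 := by
    by_cases hu : u = 1
    · exact ⟨v, v.2, w, w.2, fun h => hvw (Subtype.ext h), fun h => huv (hu.trans (Subtype.ext h).symm),
        fun h => huw (hu.trans (Subtype.ext h).symm)⟩
    · by_cases hv : v = 1
      · exact ⟨u, u.2, w, w.2, fun h => huw (Subtype.ext h), fun h => hu (Subtype.ext h),
          fun h => hvw (hv.trans (Subtype.ext h).symm)⟩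
      · exact ⟨u, u.2, v, v.2, fun h => huv (Subtype.ext h), fun h => hu (Subtype.ext h),
          fun h => hv (Subtype.ext h)⟩
  have k1 := key x hx hx1
  have k2 := key x' hx' hx1'
  set y : ↥(Cfsg.Sz F m) := x.1.1 with hy
  set y' : ↥(Cfsg.Sz F m) := x'.1.1 with hy'
  have hyy : ∀ r ∈ P, (r.1.1 : ↥(Cfsg.Sz F m))⁻¹ = r.1.1 := fun r hr =>
    inv_eq_of_mul_eq_one_right (by rw [← sq]; exact congrArg (fun w => w.1.1) (hsq r hr))
  have hmem : y * y' ∈ A := by
    rw [hA, Subgroup.mem_centralizer_singleton_iff]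
    have hs' : y' * y' = 1 := by rw [← sq]; exact congrArg (fun w => w.1.1) (hsq x' hx')
    have hs : y * y = 1 := by rw [← sq]; exact congrArg (fun w => w.1.1) (hsq x hx)
    have e1 : y' * z = z⁻¹ * y' := by rw [← k2, mul_assoc (y' * z), hs', mul_one]
    have e2 : y * z⁻¹ = z * y := by
      rw [← k1]
      calc y * (y * z * y) = y * y * (z * y) := by group
        _ = z * y := by rw [hs, one_mul]
    rw [mul_assoc, e1, ← mul_assoc, e2, mul_assoc]
  have h2 : (y * y') ^ 2 = 1 := congrArg (fun w => w.1.1) (hsq (x * x') (mul_mem hx hx'))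
  have h3 := notA _ hmem h2
  refine hxx (Subtype.ext (Subtype.ext ?_))
  rw [← hy, ← hy', mul_eq_one_iff_eq_inv.mp h3, hy', hyy x' hx']

end CfsgLib.Suzuki
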