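/-
A normalised subgroup with involutions is a subfield subgroup.
-/
import Mathlib
import Cfsg.Prelude.Def_LieExceptional
import Cfsg.Agent.Lib.Suzuki.SubgroupBasics

namespace CfsgLib.Suzuki

open Cfsg
open scoped Pointwise

variable {F : Type*} [Field F] [Fintype F] {m : ℕ} (hF : Fintype.card F = 2 ^ (2 * m + 1))
include hF

section SubSet

variable {k : ℕ}

theorem subSet_add {a b : F} (ha : a ∈ subSet k) (hb : b ∈ subSet k) : a + b ∈ subSet k := by
  haveI := charTwo hF
  show (a + b) ^ 2 ^ (2 * k + 1) = a + b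
  rw [add_pow_char_pow a b 2 (2 * k + 1)]
  exact congrArg₂ (· + ·) ha hb

omit [Fintype F] hF in
theorem subSet_mul {a b : F} (ha : a ∈ subSet k) (hb : b ∈ subSet k) : a * b ∈ subSet k := by
  show (a * b) ^ 2 ^ (2 * k + 1) = a * b
  rw [mul_pow]
  exact congrArg₂ (· * ·) ha hb

omit [Fintype F] hF in
theorem subSet_div {a b : F} (ha : a ∈ subSet k) (hb : b ∈ subSet k) : a / b ∈ subSet k := by
  show (a / b) ^ 2 ^ (2 * k + 1) = a / b
  rw [div_pow]
  exact congrArg₂ (· / ·) ha hb

omit [Fintype F] hF in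
theorem subSet_one : (1 : F) ∈ subSet k := one_pow _

omit [Fintype F] hF in
theorem subSet_zero : (0 : F) ∈ subSet k := zero_pow (by positivity)

omit [Fintype F] hF in
theorem subSet_th {a : F} (ha : a ∈ subSet k) : th m a ∈ subSet k := by
  show th m a ^ 2 ^ (2 * k + 1) = th m a
  rw [← th_pow, show a ^ 2 ^ (2 * k + 1) = a from ha]

theorem subSet_of_th {a : F} (ha : th m a ∈ subSet k) : a ∈ subSet k := by
  apply th_injective hF
  rw [th_pow]
  exact ha

theorem subSet_of_th_mul {a : F} (ha : th m a * a ∈ subSet k) : a ∈ subSet k := by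
  by_cases h0 : a = 0
  · rw [h0]; exact subSet_zero
  have hta : th m a ≠ 0 := fun h => h0 (th_eq_zero_iff.mp h)
  have ha' : (th m a * a) ^ 2 ^ (2 * k + 1) = th m a * a := ha
  rw [mul_pow, ← th_pow] at ha'
  have h : th m (a ^ 2 ^ (2 * k + 1) / a) * (a ^ 2 ^ (2 * k + 1) / a) = 1 := by
    rw [th_div, div_mul_div_comm, ha', div_self (mul_ne_zero hta h0)]
  exact (div_eq_one_iff_eq h0).mp (eq_one_of_th_mul hF h)

theorem subSet_of_th_sq {t : F} (ht : th m t * t ^ 2 ∈ subSet k) : t ∈ subSet k := by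
  by_cases h0 : t = 0
  · rw [h0]; exact subSet_zero
  have htt : th m t ≠ 0 := fun h => h0 (th_eq_zero_iff.mp h)
  have ha' : (th m t * t ^ 2) ^ 2 ^ (2 * k + 1) = th m t * t ^ 2 := ht
  rw [mul_pow, ← th_pow, pow_right_comm t] at ha'
  have h : th m (t ^ 2 ^ (2 * k + 1) / t) * (t ^ 2 ^ (2 * k + 1) / t) ^ 2 = 1 := by
    rw [th_div, div_pow, div_mul_div_comm, ha', div_self (mul_ne_zero htt (pow_ne_zero _ h0))]
  exact (div_eq_one_iff_eq h0).mp (eq_one_of_th_sq hF h)

theorem card_subSet (hdiv : 2 * k + 1 ∣ 2 * m + 1) :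
    Nat.card (subSet (F := F) k) = 2 ^ (2 * k + 1) := by
  haveI : Fact (Nat.Prime 2) := ⟨Nat.prime_two⟩
  letI : Fintype (GaloisField 2 (2 * k + 1)) := Fintype.ofFinite _
  have hK : Fintype.card (GaloisField 2 (2 * k + 1)) = 2 ^ (2 * k + 1) := by
    rw [← Nat.card_eq_fintype_card, GaloisField.card 2 (2 * k + 1) (by omega)]
  obtain ⟨f⟩ := exists_ringHom hF hK hdiv
  rw [← range_eq_subSet hK f, ← Nat.card_congr (Equiv.ofInjective f f.injective),
    Nat.card_eq_fintype_card, hK]

theorem exists_subSet_ne (hk : 1 ≤ k) (hdiv : 2 * k + 1 ∣ 2 * m + 1) :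
    ∃ w : F, w ∈ subSet k ∧ w ≠ 0 ∧ w ≠ 1 := by
  by_contra h
  push Not at h
  have hsub : subSet (F := F) k ⊆ {0, 1} := fun x hx => by
    by_cases h0 : x = 0
    · exact Or.inl h0
    · exact Or.inr (h x hx h0)
  have h1 := Set.ncard_le_ncard hsub (Set.toFinite _)
  rw [← Nat.card_coe_set_eq, card_subSet hF hdiv, Set.ncard_pair zero_ne_one] at h1
  have : 2 ^ 2 ≤ 2 ^ (2 * k + 1) := Nat.pow_le_pow_right (by norm_num) (by omega)
  omega

end SubSet

/-- The arithmetic forcing exactly `z^2 + 1` points. -/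
theorem two_class_bound {z N a b : ℕ} (hz : 8 ≤ z) (hz4 : 4 ∣ z) (ha : 5 ≤ a) (hb : 5 ≤ b)
    (hao : ¬ 2 ∣ a) (hab : a ≤ b)
    (hN : z ^ 3 + 1 ≤ N) (hNab : N ≤ a * b) (hbM : b * b ≤ z ^ 2 * (z - 1) * N)
    (heq : ((a : ℤ) + b) * (z ^ 2 * (z - 1) * N) = a * b * (4 + 2 * (z ^ 2 - 2) * N)) : False := by
  obtain ⟨h, hh⟩ := hz4
  subst hh
  have hz1 : 1 ≤ 4 * h := by omega
  zify [hz1] at hN hNab hbM hz ha hb hab
  set Z : ℤ := 4 * (h : ℤ) with hZ
  set S : ℤ := Z ^ 2 * (Z - 1) with hS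
  push_cast at heq
  set D : ℤ := 2 * (Z ^ 2 - 2) * a - S with hD
  have hSpos : 0 < S := by
    have : 0 < Z - 1 := by omega
    positivity
  have hNpos : (0 : ℤ) < N := by nlinarith
  have e : (N : ℤ) * b * D = S * N * a - 4 * a * b := by rw [hD]; linear_combination -heq
  -- upper bound for `a`
  have hup : (a : ℤ) ≤ Z - 1 := by
    by_contra hc
    push Not at hc
    have h1 : (Z ^ 2 - 2) * Z ≤ (Z ^ 2 - 2) * a := mul_le_mul_of_nonneg_left (by omega) (by nlinarith)
    have h2 : S ≤ (Z ^ 2 - 2) * Z := by rw [hS]; nlinarith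
    have h3 : 2 * S - S ≤ D := by rw [hD]; nlinarith
    have h4 : 0 ≤ ((b : ℤ) - a) * N * S := by
      have : (0 : ℤ) ≤ (b : ℤ) - a := by omega
      positivity
    have h5 : (N : ℤ) * b * S ≤ N * b * D := mul_le_mul_of_nonneg_left (by linarith) (by positivity)
    have h6 : (0 : ℤ) < 4 * a * b := by positivity
    nlinarith
  by_cases hDpos : D ≤ 0
  · -- then `b` would be enormous
    have h1 : (N : ℤ) * b * D ≤ 0 := mul_nonpos_of_nonneg_of_nonpos (by positivity) hDpos
    have h2 : S * N * a ≤ (4 * b : ℤ) * a := by nlinarith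
    have h3 : S * N ≤ 4 * b := le_of_mul_le_mul_right (by linarith) (by linarith : (0 : ℤ) < a)
    have h4 : (b : ℤ) * b ≤ 4 * b := le_trans hbM h3
    nlinarith
  push Not at hDpos
  have hlow : 2 * (a : ℤ) ≥ Z + 2 := by
    by_contra hc
    push Not at hc
    have hne : (a : ℤ) ≠ 2 * h := by
      intro he
      exact hao ⟨h, by exact_mod_cast he⟩
    have hle : 2 * (a : ℤ) ≤ Z - 2 := by omega
    have : (Z ^ 2 - 2) * (2 * a) ≤ (Z ^ 2 - 2) * (Z - 2) :=
      mul_le_mul_of_nonneg_left hle (by nlinarith)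
    have h2 : (Z ^ 2 - 2) * (Z - 2) ≤ S := by rw [hS]; nlinarith
    have : D ≤ 0 := by rw [hD]; nlinarith
    linarith
  have hDlow : 3 * Z ^ 2 - 2 * Z - 4 ≤ D := by
    have : (Z ^ 2 - 2) * (Z + 2) ≤ (Z ^ 2 - 2) * (2 * a) :=
      mul_le_mul_of_nonneg_left hlow (by nlinarith)
    rw [hD, hS]; nlinarith
  have hbD : (b : ℤ) * D ≤ S * a := by
    have h1 : (N : ℤ) * (b * D) ≤ N * (S * a) := by
      have : (0 : ℤ) ≤ 4 * a * b := by positivity
      nlinarith
    exact le_of_mul_le_mul_left h1 hNpos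
  have h1 : (N : ℤ) * D ≤ S * (Z - 1) ^ 2 := by
    calc (N : ℤ) * D ≤ (a * b) * D := mul_le_mul_of_nonneg_right hNab hDpos.le
      _ = a * (b * D) := by ring
      _ ≤ a * (S * a) := mul_le_mul_of_nonneg_left hbD (by positivity)
      _ = S * (a : ℤ) ^ 2 := by ring
      _ ≤ S * (Z - 1) ^ 2 :=
          mul_le_mul_of_nonneg_left (pow_le_pow_left₀ (by positivity) hup 2) hSpos.le
  have h2 : (Z ^ 3) * (3 * Z ^ 2 - 2 * Z - 4) ≤ (N : ℤ) * D := by
    have h3 : 0 ≤ 3 * Z ^ 2 - 2 * Z - 4 := by nlinarith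
    calc Z ^ 3 * (3 * Z ^ 2 - 2 * Z - 4) ≤ (N : ℤ) * (3 * Z ^ 2 - 2 * Z - 4) :=
          mul_le_mul_of_nonneg_right (by linarith) h3
      _ ≤ (N : ℤ) * D := mul_le_mul_of_nonneg_left hDlow hNpos.le
  have h3 : S * (Z - 1) ^ 2 ≤ Z ^ 5 := by
    have e1 : S * (Z - 1) ^ 2 = Z ^ 2 * (Z - 1) ^ 3 := by rw [hS]; ring
    rw [e1, show Z ^ 5 = Z ^ 2 * Z ^ 3 by ring]
    exact mul_le_mul_of_nonneg_left (pow_le_pow_left₀ (by linarith) (by linarith) 3) (sq_nonneg Z)
  have h4 : Z ^ 5 < Z ^ 3 * (3 * Z ^ 2 - 2 * Z - 4) := by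
    have : Z ^ 2 < 3 * Z ^ 2 - 2 * Z - 4 := by nlinarith
    have hZ3 : 0 < Z ^ 3 := by positivity
    nlinarith
  linarith

set_option maxHeartbeats 4000000 in
/-- The normalised case of the subgroup theorem. -/
theorem even_main (hm : 1 ≤ m) {k : ℕ} (hk : 1 ≤ k) (hdiv : 2 * k + 1 ∣ 2 * m + 1)
    (M : Subgroup ↥(Cfsg.Sz F m)) (hB : ∀ b : F, uS hF 0 b ∈ M ↔ b ∈ subSet k)
    (hT : ∀ t : Fˣ, (t : F) ∈ subSet k → dS hF t ∈ M)
    (hL : ∀ (r s : F) (t : Fˣ), uS hF r s * dS hF t ∈ M → (t : F) ∈ subSet k)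
    (hmove : ∃ g ∈ M, g • suzukiPointInfinity F ≠ suzukiPointInfinity F) :
    M = subGp hF hm k := by
  classical
  haveI : Fact (Nat.Prime 2) := ⟨Nat.prime_two⟩
  have hcE := card_subSet hF hdiv
  set z := 2 ^ (2 * k + 1) with hz
  have hz8 : 8 ≤ z := by
    calc 8 = 2 ^ 3 := by norm_num
      _ ≤ z := Nat.pow_le_pow_right (by norm_num) (by omega)
  have hz4 : 4 ∣ z := by rw [hz]; exact pow_dvd_pow 2 (show 2 ≤ 2 * k + 1 by omega)
  -- elements fixing infinity
  have hstab : ∀ x ∈ M, x • suzukiPointInfinity F = suzukiPointInfinity F →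
      ∃ (a b : F) (t : Fˣ), (t : F) ∈ subSet k ∧ uS hF a b ∈ M ∧ x = uS hF a b * dS hF t := by
    intro x hx hfix
    obtain ⟨a, b, t, rfl⟩ := (mem_stabInf_iff hF hm).mp hfix
    have ht := hL a b t hx
    refine ⟨a, b, t, ht, ?_, rfl⟩
    have := mul_mem hx (inv_mem (hT t ht))
    rwa [mul_inv_cancel_right] at this
  have hA : ∀ a b, uS hF a b ∈ M → a ∈ subSet k := by
    intro a b hab
    have h := mul_mem hab hab
    rw [uS_sq, hB] at h
    exact subSet_of_th_mul hF h
  -- the two possible shapes of the unipotent part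
  have hshape : (∀ a b, uS hF a b ∈ M → a = 0) ∨
      ∀ a b, a ∈ subSet k → b ∈ subSet k → uS hF a b ∈ M := by
    by_cases h : ∀ a b, uS hF a b ∈ M → a = 0
    · exact Or.inl h
    right
    push Not at h
    obtain ⟨a0, b0, h0, ha0⟩ := h
    have hall : ∀ a ∈ subSet k, a ≠ 0 → ∃ t : Fˣ, th m (t : F) * a0 = a ∧ (t : F) ∈ subSet k := by
      intro a ha hne
      obtain ⟨t, ht⟩ := (th_bijective hF).2 (a / a0)
      have ht0 : t ≠ 0 := by
        rintro rfl
        rw [th_zero] at ht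
        exact div_ne_zero hne ha0 ht.symm
      refine ⟨Units.mk0 t ht0, by rw [Units.val_mk0, ht, div_mul_cancel₀ _ ha0], ?_⟩
      refine subSet_of_th hF (m := m) ?_
      rw [Units.val_mk0, ht]
      exact subSet_div ha (hA a0 b0 h0)
    have hconj : ∀ a ∈ subSet k, a ≠ 0 → ∃ b, uS hF a b ∈ M := by
      intro a ha hne
      obtain ⟨t, ht, htE⟩ := hall a ha hne
      have := mul_mem (mul_mem (hT t htE) h0) (inv_mem (hT t htE))
      rw [dS_uS, ht] at this
      exact ⟨_, this⟩
    obtain ⟨β, hβ⟩ := hconj 1 subSet_one one_ne_zero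
    obtain ⟨w, hw, hw0, hw1⟩ := exists_subSet_ne hF hk hdiv
    have hscale : ∀ a ∈ subSet k, a ≠ 0 → uS hF a (th m a * a * β) ∈ M := by
      intro a ha hne
      obtain ⟨t, ht⟩ := (th_bijective hF).2 a
      have ht0 : t ≠ 0 := by rintro rfl; rw [th_zero] at ht; exact hne ht.symm
      have htE : t ∈ subSet k := subSet_of_th hF (by rw [ht]; exact ha)
      have := mul_mem (mul_mem (hT (Units.mk0 t ht0) htE) hβ) (inv_mem (hT (Units.mk0 t ht0) htE))
      rw [dS_uS, Units.val_mk0, ht, mul_one, show a * t ^ 2 = th m a * a by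
        rw [← ht, th_th hF]; ring] at this
      exact this
    have h1w : (1 : F) + w ≠ 0 := by rw [← sub_eq hF, sub_ne_zero]; exact Ne.symm hw1
    have h1wE : (1 : F) + w ∈ subSet k := subSet_add hF subSet_one hw
    have e1 := mul_mem hβ (hscale w hw hw0)
    rw [uS_mul, th_one, one_mul] at e1
    have e2 := mul_mem e1 (inv_mem (hscale _ h1wE h1w))
    rw [uS_inv, uS_mul] at e2
    have h2 := two_eq_zero hF
    have h11 : (1 + w) + (1 + w) = (0 : F) := by linear_combination (1 + w) * h2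
    rw [h11, hB] at e2
    have hbE : β ∈ subSet k := by
      have hne : th m w + w ≠ 0 := by
        rw [← sub_eq hF, sub_ne_zero]; exact th_ne_self hF hw0 hw1
      have hp : β * (th m w + w) ∈ subSet k := by
        have hE2 : β * (th m w + w) + w ∈ subSet k := by
          convert e2 using 1
          simp only [th_add hF, th_one]
          linear_combination (-β - β * th m w * w - 1 - w - th m w - th m w * w) * h2
        have := subSet_add hF hE2 hw
        rwa [add_assoc, show w + w = (0 : F) by linear_combination w * h2, add_zero] at this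
      have := subSet_div hp (subSet_add hF (subSet_th (m := m) hw) hw)
      rwa [mul_div_cancel_right₀ _ hne] at this
    intro a b ha hb
    by_cases hne : a = 0
    · rw [hne]; exact (hB b).mpr hb
    have hc : b + th m a * a * β ∈ subSet k :=
      subSet_add hF hb (subSet_mul (subSet_mul (subSet_th ha) ha) hbE)
    have := mul_mem (hscale a ha hne) ((hB _).mpr hc)
    rw [uS_mul, add_zero, mul_zero, add_zero] at this
    rwa [show th m a * a * β + (b + th m a * a * β) = b by
      linear_combination (th m a * a * β) * h2] at this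
  -- the subgroups of `M`
  set H := (MulAction.stabilizer ↥(Cfsg.Sz F m) (suzukiPointInfinity F)).subgroupOf M with hH
  set S := (U hF).subgroupOf M with hS
  set K := (T hF).subgroupOf M with hK
  have hcardK : Nat.card K = z - 1 := by
    let e : {x : subSet (F := F) k // x ≠ ⟨0, subSet_zero⟩} → K := fun x =>
      ⟨⟨dS hF (Units.mk0 x.1.1 (fun h => x.2 (Subtype.ext h))), hT _ x.1.2⟩,
        (mem_T hF).mpr ⟨_, rfl⟩⟩
    have he : Function.Bijective e := by
      constructor
      · intro x y h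
        have := dS_inj hF (congrArg (fun w => w.1.1) h)
        exact Subtype.ext (Subtype.ext (congrArg Units.val this))
      · rintro ⟨⟨x, hx⟩, hxT⟩
        obtain ⟨t, rfl⟩ := (mem_T hF).mp hxT
        have ht : (t : F) ∈ subSet k := hL 0 0 t (by rwa [uS_zero, one_mul])
        refine ⟨⟨⟨t, ht⟩, fun h => t.ne_zero (congrArg Subtype.val h)⟩, ?_⟩
        exact Subtype.ext (Subtype.ext (congrArg (dS hF) (Units.ext rfl)))
    rw [← Nat.card_congr (Equiv.ofBijective e he), Nat.card_eq_fintype_card,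
      Fintype.card_subtype_compl, Fintype.card_subtype_eq, ← Nat.card_eq_fintype_card, hcE]
  have hcardH : Nat.card H = Nat.card S * (z - 1) := by
    rw [← hcardK, ← Nat.card_prod]
    refine (Nat.card_congr (Equiv.ofBijective (fun p : S × K =>
      (⟨p.1.1 * p.2.1, mul_mem (show p.1.1 ∈ H from U_le_stabInf hF p.1.2) ?_⟩ : H)) ⟨?_, ?_⟩)).symm
    · obtain ⟨t, ht⟩ := (mem_T hF).mp (p.2.2 : (p.2.1 : ↥(Cfsg.Sz F m)) ∈ T hF)
      show (p.2.1 : ↥(Cfsg.Sz F m)) ∈ MulAction.stabilizer _ _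
      have ht' : (p.2.1 : ↥(Cfsg.Sz F m)) = dS hF t := ht
      rw [ht']; exact smul_dS_inf hF t
    · rintro ⟨⟨⟨x, hx⟩, a, b, hab⟩, ⟨y, hy⟩, hy'⟩ ⟨⟨⟨x', hx'⟩, c, d, hcd⟩, ⟨y', hy''⟩, hy'''⟩ h
      obtain ⟨t, ht⟩ := (mem_T hF).mp hy'
      obtain ⟨t', ht'⟩ := (mem_T hF).mp hy'''
      have h' : x * y = x' * y' := congrArg (fun w : H => (w.1 : ↥(Cfsg.Sz F m))) h
      change x = uS hF a b at hab
      change x' = uS hF c d at hcd
      change y = dS hF t at ht
      change y' = dS hF t' at ht'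
      subst hab hcd ht ht'
      obtain ⟨rfl, rfl, rfl⟩ := form_injective hF h'
      rfl
    · rintro ⟨⟨x, hx⟩, hxs⟩
      obtain ⟨a, b, t, ht, hu, rfl⟩ := hstab x hx hxs
      exact ⟨(⟨⟨uS hF a b, hu⟩, a, b, rfl⟩, ⟨⟨dS hF t, hT t ht⟩, (mem_T hF).mpr ⟨t, rfl⟩⟩), rfl⟩
  have hcardS : ((∀ a b, uS hF a b ∈ M → a = 0) ∧ Nat.card S = z) ∨
      ((∀ a b, a ∈ subSet k → b ∈ subSet k → uS hF a b ∈ M) ∧ Nat.card S = z ^ 2) := by
    rcases hshape with h | h
    · refine Or.inl ⟨h, ?_⟩
      rw [← hcE]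
      refine Nat.card_congr (Equiv.ofBijective (fun b : subSet (F := F) k =>
        (⟨⟨uS hF 0 b.1, (hB _).mpr b.2⟩, 0, b.1, rfl⟩ : S)) ⟨?_, ?_⟩).symm
      · intro b c e
        exact Subtype.ext (uS_inj hF (congrArg (fun w => w.1.1) e)).2
      · rintro ⟨⟨x, hx⟩, a, b, hab⟩
        change x = uS hF a b at hab
        subst hab
        obtain rfl := h a b hx
        exact ⟨⟨b, (hB b).mp hx⟩, rfl⟩
    · refine Or.inr ⟨h, ?_⟩
      rw [sq, ← hcE, ← Nat.card_prod]
      refine Nat.card_congr (Equiv.ofBijective (fun p : subSet (F := F) k × subSet (F := F) k =>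
        (⟨⟨uS hF p.1.1 p.2.1, h _ _ p.1.2 p.2.2⟩, p.1.1, p.2.1, rfl⟩ : S)) ⟨?_, ?_⟩).symm
      · intro p r e
        obtain ⟨e1, e2⟩ := uS_inj hF (congrArg (fun w => w.1.1) e)
        exact Prod.ext (Subtype.ext e1) (Subtype.ext e2)
      · rintro ⟨⟨x, hx⟩, a, b, hab⟩
        change x = uS hF a b at hab
        subst hab
        have ha := hA a b hx
        have := mul_mem (inv_mem (h a 0 ha subSet_zero)) hx
        rw [uS_inv, uS_mul] at this
        rw [show a + a = (0 : F) by linear_combination a * two_eq_zero hF, hB] at this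
        have hb : b ∈ subSet k := by
          convert this using 1
          linear_combination (-(th m a * a)) * two_eq_zero hF
        exact ⟨(⟨a, ha⟩, ⟨b, hb⟩), rfl⟩
  -- TI subgroups in `M`
  have hSN : Subgroup.normalizer (S : Set M) = H := by
    ext x
    constructor
    · intro hx
      have h1 : uS hF 0 1 ∈ M := (hB 1).mpr subSet_one
      have := (Subgroup.mem_normalizer_iff.mp hx ⟨_, h1⟩).mp (show (⟨_, h1⟩ : M) ∈ S from ⟨0, 1, rfl⟩)
      exact conj_fix_inf hF (g := uS hF 0 1) (x := x.1) ⟨0, 1, rfl⟩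
        (fun e => one_ne_zero ((eq_one_iff_uS hF).mp e).2) this
    · intro hx
      have hx' : x.1 ∈ Subgroup.normalizer (U hF : Set ↥(Cfsg.Sz F m)) := by
        rw [normalizer_U hF hm]; exact hx
      rw [Subgroup.mem_normalizer_iff]
      intro y
      exact Subgroup.mem_normalizer_iff.mp hx' y.1
  have hSconj := card_conjSet S (fun h hh h1 x hx => by
    rw [hSN]
    exact conj_fix_inf hF (g := h.1) (x := x.1) hh (fun e => h1 (Subtype.ext e)) hx)
  rw [hSN, hcardH] at hSconj
  -- the orbit of infinity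
  let Ω : Set (Projectivization F (Fin 4 → F)) := {p | ∃ x ∈ M, x • suzukiPointInfinity F = p}
  have hΩeq : Ω = MulAction.orbit M (suzukiPointInfinity F) := by
    ext p
    constructor
    · rintro ⟨x, hx, rfl⟩; exact ⟨⟨x, hx⟩, rfl⟩
    · rintro ⟨⟨x, hx⟩, rfl⟩; exact ⟨x, hx, rfl⟩
  have hMcard : Nat.card M = Nat.card S * (z - 1) * Ω.ncard := by
    rw [hΩeq, ← MulAction.index_stabilizer M (suzukiPointInfinity F), ← hcardH]
    have e : MulAction.stabilizer M (suzukiPointInfinity F) = H := rfl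
    rw [e, Subgroup.card_mul_index]
  have hΩinf : suzukiPointInfinity F ∈ Ω := ⟨1, one_mem M, one_smul _ _⟩
  have hΩov : ∀ p ∈ Ω, p ∈ suzukiOvoid F m := by
    rintro p ⟨x, -, rfl⟩; exact smul_mem_ovoid x.2 inf_mem
  have hΩsmul : ∀ x ∈ M, ∀ p ∈ Ω, x • p ∈ Ω := by
    rintro x hx p ⟨y, hy, rfl⟩; exact ⟨x * y, mul_mem hx hy, mul_smul _ _ _⟩
  obtain ⟨j, hj⟩ : Nat.card S ∣ (Ω \ {suzukiPointInfinity F}).ncard := by
    refine free_card_dvd (G := S) _ ?_ ?_
    · rintro ⟨⟨x, hx⟩, a, b, hab⟩ p ⟨hp, hne⟩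
      change x = uS hF a b at hab
      subst hab
      refine ⟨hΩsmul _ hx p hp, fun h => hne ?_⟩
      have h' : uS hF a b • p = uS hF a b • suzukiPointInfinity F :=
        (show uS hF a b • p = suzukiPointInfinity F from h).trans (smul_uS_inf hF a b).symm
      exact MulAction.injective (uS hF a b) h'
    · rintro ⟨⟨x, hx⟩, hxU⟩ p ⟨hp, hne⟩ hfix
      by_contra h1
      exact hne (fix_unique hF (g := x) hxU (fun e => h1 (Subtype.ext (Subtype.ext e))) (hΩov p hp) hfix)
  have hΩ1 : Ω.ncard = 1 + Nat.card S * j := by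
    rw [← hj, add_comm, Set.ncard_diff_singleton_add_one hΩinf (Set.toFinite _)]
  have hj1 : 1 ≤ j := by
    by_contra hj0
    push Not at hj0
    obtain ⟨g, hg, hgne⟩ := hmove
    have : (Ω \ {suzukiPointInfinity F}).ncard = 0 := by
      rw [hj, show j = 0 by omega, mul_zero]
    rw [Set.ncard_eq_zero (Set.toFinite _)] at this
    have hmem : g • suzukiPointInfinity F ∈ Ω \ {suzukiPointInfinity F} := ⟨⟨g, hg, rfl⟩, hgne⟩
    rw [this] at hmem
    exact hmem
  -- classification of elements of `M`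
  have hzK : ∃ t : Fˣ, (t : F) ∈ subSet k ∧ t ≠ 1 := by
    obtain ⟨w, hw, hw0, hw1⟩ := exists_subSet_ne hF hk hdiv
    exact ⟨Units.mk0 w hw0, hw, fun h => hw1 (congrArg Units.val h)⟩
  obtain ⟨t0, ht0, ht01⟩ := hzK
  set z0 : ↥(Cfsg.Sz F m) := dS hF t0 with hz0
  have hz0M : z0 ∈ M := hT t0 ht0
  have hz0ne : z0 ≠ 1 := fun h => ht01 (dS_inj hF (h.trans (dS_one hF).symm))
  have hz0SS : SS hF z0 :=
    ss_of_torus hF hm (Or.inl (card_T hF)) ((mem_T hF).mpr ⟨t0, rfl⟩) hz0ne
  have hCz0 : Subgroup.centralizer ({z0} : Set ↥(Cfsg.Sz F m)) = T hF := centralizer_torus hF hm ht01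
  have hUtype : ∀ y : M, y.1 ∈ conjSet (U hF) → y ∈ conjSet S := by
    intro y hy
    obtain ⟨p, hp, hyp, huniq⟩ := unip_fix hF hm hy
    have hpow : ∃ i : ↥(Cfsg.Sz F m), i ∈ M ∧ i ≠ 1 ∧ i * i = 1 ∧ i • p = p := by
      have hd : orderOf y.1 ∣ 2 ^ ((2 * m + 1) * 2) := by
        rw [pow_mul, ← card_U hF]; exact orderOf_dvd_of_conjSet _ hy
      obtain ⟨i, -, hi⟩ := (Nat.dvd_prime_pow Nat.prime_two).mp hd
      have hi0 : i ≠ 0 := by rintro rfl; exact hy.1 (orderOf_eq_one_iff.mp hi)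
      refine ⟨y.1 ^ 2 ^ (i - 1), pow_mem y.2 _, ?_, ?_, ?_⟩
      · intro h
        have h' := Nat.le_of_dvd (Nat.two_pow_pos _) (orderOf_dvd_of_pow_eq_one h)
        rw [hi] at h'
        have := Nat.pow_lt_pow_right (show 1 < 2 by norm_num) (show i - 1 < i by omega)
        omega
      · rw [← pow_add, ← two_mul, ← pow_succ', Nat.sub_add_cancel (Nat.one_le_iff_ne_zero.mpr hi0),
          ← hi, pow_orderOf_eq_one]
      · exact MulAction.mem_stabilizer_iff.mp
          (pow_mem (show y.1 ∈ MulAction.stabilizer _ p from hyp) _)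
    obtain ⟨i, hiM, hi1, hi2, hip⟩ := hpow
    have hj0 : uS hF (0 : F) 1 ∈ M := (hB 1).mpr subSet_one
    have hpΩ : p ∈ Ω := by
      by_cases hpi : p = suzukiPointInfinity F
      · rw [hpi]; exact hΩinf
      have hjp : i • suzukiPointInfinity F ≠ suzukiPointInfinity F := fun h => by
        obtain ⟨q, -, -, hq⟩ := unip_fix hF hm (invol_unip hF hm hi1 hi2)
        exact hpi ((hq p hp hip).trans (hq _ inf_mem h).symm)
      obtain ⟨x, hxM, hx⟩ := invol_conj hF hm hj0 hiM
        (fun e => one_ne_zero ((eq_one_iff_uS hF).mp e).2) hi1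
        (by rw [uS_sq, th_zero, zero_mul, uS_zero]) hi2 inf_mem (smul_uS_inf hF 0 1) hjp
      refine ⟨x, hxM, ?_⟩
      obtain ⟨q, -, -, hq⟩ := unip_fix hF hm (invol_unip hF hm hi1 hi2)
      rw [hq p hp hip]
      refine hq _ (smul_mem_ovoid x.2 inf_mem) ?_
      rw [← hx, mul_smul, mul_smul, inv_smul_smul, smul_uS_inf]
    obtain ⟨x, hxM, rfl⟩ := hpΩ
    refine ⟨fun h => hy.1 (congrArg Subtype.val h), ⟨x, hxM⟩, ?_⟩
    have hfix : (x⁻¹ * y.1 * x) • suzukiPointInfinity F = suzukiPointInfinity F := by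
      rw [mul_smul, mul_smul, inv_smul_eq_iff]; exact hyp
    obtain ⟨a, b, t, -, -, habt⟩ := hstab _ (mul_mem (mul_mem (inv_mem hxM) y.2) hxM) hfix
    by_cases ht : t = 1
    · rw [ht, dS_one, mul_one] at habt
      exact ⟨a, b, habt⟩
    exfalso
    obtain ⟨c, d, hcd⟩ := exists_conj_torus hF hm a b ht
    refine disjoint_conjSet hF hy ⟨hy.1, x * uS hF c d, (mem_T hF).mpr ⟨t, ?_⟩⟩
    calc (x * uS hF c d)⁻¹ * y.1 * (x * uS hF c d)
        = (uS hF c d)⁻¹ * (x⁻¹ * y.1 * x) * uS hF c d := by group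
      _ = dS hF t := by rw [habt, ← hcd]; group
  -- the classes
  haveI : Fintype M := Fintype.ofFinite M
  let C : ↥(Cfsg.Sz F m) → Finset M := fun w => Finset.univ.filter
    (fun y : M => y ∈ conjSet ((Subgroup.centralizer ({w} : Set ↥(Cfsg.Sz F m))).subgroupOf M))
  let CS : Finset M := Finset.univ.filter (fun y : M => y ∈ conjSet S)
  have data : ∀ w, SS hF w → w ∈ M → ∃ a e : ℕ,
      Nat.card ((Subgroup.centralizer ({w} : Set ↥(Cfsg.Sz F m))).subgroupOf M) = a ∧
      Nat.card (Subgroup.normalizer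
        (((Subgroup.centralizer ({w} : Set ↥(Cfsg.Sz F m))).subgroupOf M : Subgroup M) : Set M)) = e * a ∧
      5 ≤ a ∧ ¬ 2 ∣ a ∧ (e = 1 ∨ e = 2 ∨ e = 4) ∧
      ((C w).card : ℚ) = (Nat.card M : ℚ) * ((1 - 1 / (a : ℚ)) / e) := by
    intro w hw hwM
    obtain ⟨a, e, ha, hN, h5, hodd, he, -, hcount⟩ := class_term hF hm M hw hwM
    refine ⟨a, e, ha, hN, h5, hodd, he, ?_⟩
    have hC : Nat.card (conjSet ((Subgroup.centralizer ({w} : Set ↥(Cfsg.Sz F m))).subgroupOf M)) =
        (C w).card := by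
      rw [Nat.card_eq_fintype_card]; exact Fintype.card_subtype _
    rw [hC] at hcount
    have h := congrArg (Nat.cast (R := ℚ)) hcount
    push_cast [Nat.cast_sub (show 1 ≤ a by omega)] at h
    have ha0 : (a : ℚ) ≠ 0 := by exact_mod_cast (show a ≠ 0 by omega)
    have he0 : (e : ℚ) ≠ 0 := by exact_mod_cast (show e ≠ 0 by omega)
    field_simp
    linear_combination h
  have hCS : ∀ w, SS hF w → Disjoint CS (C w) := by
    intro w hw
    refine Finset.disjoint_left.mpr fun y hy hy' => ?_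
    obtain ⟨hy1, g, hg⟩ := (Finset.mem_filter.mp hy).2
    obtain ⟨-, g', hg'⟩ := (Finset.mem_filter.mp hy').2
    have hy1' : y.1 ≠ 1 := fun e => hy1 (Subtype.ext e)
    replace hg : g.1⁻¹ * y.1 * g.1 ∈ U hF := hg
    replace hg' : g'.1⁻¹ * y.1 * g'.1 ∈ Subgroup.centralizer ({w} : Set ↥(Cfsg.Sz F m)) := hg'
    have hU' : y.1 ∈ conjSet (U hF) := ⟨hy1', g.1, hg⟩
    have hne : g'.1⁻¹ * y.1 * g'.1 ≠ 1 := fun h => hy1' (by
      have := congrArg (fun v => g'.1 * v * g'.1⁻¹) h
      simpa [mul_assoc] using this)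
    refine (ss_centralizer_eq hF hm hw hg' hne).1.2 ⟨hne, g'.1⁻¹ * g.1, ?_⟩
    have e : (g'.1⁻¹ * g.1)⁻¹ * (g'.1⁻¹ * y.1 * g'.1) * (g'.1⁻¹ * g.1) = g.1⁻¹ * y.1 * g.1 := by group
    rw [e]; exact hg
  have hCC : ∀ u w (hu : SS hF u) (hw : SS hF w) (hwM : w ∈ M), (⟨w, hwM⟩ : M) ∉ C u →
      Disjoint (C u) (C w) := by
    intro u w hu hw hwM hn
    refine Finset.disjoint_left.mpr fun y hy hy' => hn (Finset.mem_filter.mpr ⟨Finset.mem_univ _, ?_⟩)
    obtain ⟨hy1, g, hg⟩ := (Finset.mem_filter.mp hy).2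
    obtain ⟨-, g', hg'⟩ := (Finset.mem_filter.mp hy').2
    have hy1' : y.1 ≠ 1 := fun e => hy1 (Subtype.ext e)
    have hne : ∀ v : ↥(Cfsg.Sz F m), v⁻¹ * y.1 * v ≠ 1 := fun v h => hy1' (by
      have := congrArg (fun r => v * r * v⁻¹) h
      simpa [mul_assoc] using this)
    replace hg : g.1⁻¹ * y.1 * g.1 ∈ Subgroup.centralizer ({u} : Set ↥(Cfsg.Sz F m)) := hg
    replace hg' : g'.1⁻¹ * y.1 * g'.1 ∈ Subgroup.centralizer ({w} : Set ↥(Cfsg.Sz F m)) := hg'
    have e1 := (ss_centralizer_eq hF hm hu hg (hne g.1)).2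
    have e2 := (ss_centralizer_eq hF hm hw hg' (hne g'.1)).2
    refine ⟨fun h => hw.1 (congrArg Subtype.val h), g'⁻¹ * g, ?_⟩
    show (g'.1⁻¹ * g.1)⁻¹ * w * (g'.1⁻¹ * g.1) ∈ Subgroup.centralizer ({u} : Set ↥(Cfsg.Sz F m))
    have hw' : w ∈ Subgroup.centralizer ({g'.1⁻¹ * y.1 * g'.1} : Set ↥(Cfsg.Sz F m)) := by
      rw [e2, Subgroup.mem_centralizer_singleton_iff]
    rw [Subgroup.mem_centralizer_singleton_iff] at hw'
    rw [← e1, Subgroup.mem_centralizer_singleton_iff]
    calc (g'.1⁻¹ * g.1)⁻¹ * w * (g'.1⁻¹ * g.1) * (g.1⁻¹ * y.1 * g.1)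
        = g.1⁻¹ * g'.1 * (w * (g'.1⁻¹ * y.1 * g'.1)) * g'.1⁻¹ * g.1 := by group
      _ = g.1⁻¹ * g'.1 * ((g'.1⁻¹ * y.1 * g'.1) * w) * g'.1⁻¹ * g.1 := by rw [hw']
      _ = _ := by group
  -- sizes
  have hS8 : 8 ≤ Nat.card S ∧ Nat.card S ≤ z ^ 2 := by
    rcases hcardS with ⟨-, h⟩ | ⟨-, h⟩ <;> rw [h] <;> constructor <;> nlinarith
  set s := Nat.card S with hs
  set N := Ω.ncard with hN
  have hN1 : s + 1 ≤ N := by rw [hΩ1]; nlinarith
  have hMpos : (0 : ℚ) < (Nat.card M : ℚ) := by exact_mod_cast Nat.card_pos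
  have hCScard : (CS.card : ℚ) = (Nat.card M : ℚ) * ((s - 1) / (s * (z - 1))) := by
    have h1 : Nat.card (conjSet S) = CS.card := by
      rw [Nat.card_eq_fintype_card]; exact Fintype.card_subtype _
    rw [h1] at hSconj
    have h := congrArg (Nat.cast (R := ℚ)) hSconj
    push_cast [Nat.cast_sub (show 1 ≤ s by omega), Nat.cast_sub (show 1 ≤ z by omega)] at h
    have h2 : (s : ℚ) ≠ 0 := by exact_mod_cast (show s ≠ 0 by omega)
    have h3 : (z : ℚ) - 1 ≠ 0 := by
      have : (8 : ℚ) ≤ z := by exact_mod_cast hz8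
      intro hh; linarith
    field_simp
    linear_combination h
  obtain ⟨a0, e0, ha0, hN0, -, -, he0, hC0⟩ := data z0 hz0SS hz0M
  have ha0z : a0 = z - 1 := by rw [← ha0, hCz0]; exact hcardK
  -- the remaining elements
  set R := (Finset.univ : Finset M) \ (insert 1 (CS ∪ C z0)) with hR
  have hR1 : (Finset.univ : Finset M).card = 1 + CS.card + (C z0).card + R.card := by
    have hd : (1 : M) ∉ CS ∪ C z0 := by
      intro h
      rcases Finset.mem_union.mp h with h | h <;> exact (Finset.mem_filter.mp h).2.1 rfl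
    rw [hR, ← Finset.card_sdiff_add_card_eq_card (Finset.subset_univ (insert 1 (CS ∪ C z0))),
      Finset.card_insert_of_notMem hd, Finset.card_union_of_disjoint (hCS z0 hz0SS)]
    ring
  have hRSS : ∀ y ∈ R, SS hF y.1 := by
    intro y hy
    rw [hR, Finset.mem_sdiff, Finset.mem_insert, Finset.mem_union] at hy
    refine ⟨fun e => hy.2 (Or.inl (Subtype.ext e)), fun hU' => hy.2 (Or.inr (Or.inl ?_))⟩
    exact Finset.mem_filter.mpr ⟨Finset.mem_univ _, hUtype y hU'⟩
  have hRC : ∀ y ∈ R, C y.1 ⊆ R := by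
    intro y hy w hw
    have hyn : (⟨y.1, y.2⟩ : M) ∉ C z0 := fun h => by
      rw [hR, Finset.mem_sdiff, Finset.mem_insert, Finset.mem_union] at hy
      exact hy.2 (Or.inr (Or.inr h))
    rw [hR, Finset.mem_sdiff, Finset.mem_insert, Finset.mem_union]
    refine ⟨Finset.mem_univ _, ?_⟩
    rintro (h | h | h)
    · exact (Finset.mem_filter.mp hw).2.1 h
    · exact Finset.disjoint_left.mp (hCS _ (hRSS y hy)) h hw
    · exact Finset.disjoint_left.mp (hCC z0 y.1 hz0SS (hRSS y hy) y.2 hyn) h hw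
  have hz8' : (8 : ℚ) ≤ z := by exact_mod_cast hz8
  have hs8' : (8 : ℚ) ≤ s := by exact_mod_cast hS8.1
  have hMq : (Nat.card M : ℚ) = (s : ℚ) * ((z : ℚ) - 1) * N := by
    rw [hMcard, Nat.cast_mul, Nat.cast_mul, Nat.cast_sub (show 1 ≤ z by omega), Nat.cast_one]
  set σ : ℚ := ((s : ℚ) - 1) / (s * (z - 1)) with hσ
  set μ : ℚ := 1 / (Nat.card M : ℚ) with hμ
  have hμ0 : 0 < μ := by rw [hμ]; positivity
  have hz1' : (0 : ℚ) < (z : ℚ) - 1 := by linarith
  have hσb : 0 < σ ∧ σ < 1 / 7 + 1e-9 ∧ σ = 1 / ((z : ℚ) - 1) - 1 / (s * ((z : ℚ) - 1)) := by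
    refine ⟨by rw [hσ]; exact div_pos (by linarith) (by positivity), ?_, ?_⟩
    · have h1 : σ ≤ 1 / 7 := by
        rw [hσ, div_le_div_iff₀ (by positivity) (by norm_num)]
        nlinarith
      linarith
    · rw [hσ, sub_div, div_mul_eq_div_div, div_self (by positivity)]
  -- total for the remaining classes
  have hrest : (R.card : ℚ) = (Nat.card M : ℚ) * (1 - μ - σ - (1 - 1 / (a0 : ℚ)) / e0) := by
    have h : (Nat.card M : ℚ) = 1 + CS.card + (C z0).card + R.card := by
      rw [Nat.card_eq_fintype_card, ← Finset.card_univ, hR1]; push_cast; ring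
    rw [hCScard, hC0] at h
    rw [hμ, mul_sub, mul_sub, mul_sub, mul_one_div_cancel hMpos.ne', mul_one]
    linear_combination -h
  have lower : ∀ {a e : ℕ}, 5 ≤ a → (e = 1 ∨ e = 2 ∨ e = 4) →
      (1 / 5 : ℚ) ≤ (1 - 1 / (a : ℚ)) / e ∧
        (e ≠ 4 → (2 / 5 : ℚ) ≤ (1 - 1 / (a : ℚ)) / e) ∧
        (e = 1 → (4 / 5 : ℚ) ≤ (1 - 1 / (a : ℚ)) / e) ∧
        (e = 4 → (1 - 1 / (a : ℚ)) / e < 1 / 4) := by
    intro a e ha he
    have hinv : 1 / (a : ℚ) ≤ 1 / 5 :=
      one_div_le_one_div_of_le (by norm_num) (by exact_mod_cast ha)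
    have hinv0 : 0 < 1 / (a : ℚ) := by
      have : 0 < a := by omega
      positivity
    rcases he with rfl | rfl | rfl <;> refine ⟨?_, fun h => ?_, fun h => ?_, fun h => ?_⟩ <;>
      push_cast <;> first
        | linarith
        | omega
  have hone : ∀ {A : ℚ}, R = ∅ → (R.card : ℚ) = (Nat.card M : ℚ) * A → A = 0 := by
    intro A he h
    rw [he, Finset.card_empty, Nat.cast_zero] at h
    exact (mul_eq_zero.mp h.symm).resolve_left hMpos.ne'
  have htake : ∀ y ∈ R, ∃ a e : ℕ,
      Nat.card ((Subgroup.centralizer ({y.1} : Set ↥(Cfsg.Sz F m))).subgroupOf M) = a ∧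
      Nat.card (Subgroup.normalizer
        (((Subgroup.centralizer ({y.1} : Set ↥(Cfsg.Sz F m))).subgroupOf M : Subgroup M) : Set M)) = e * a ∧
      5 ≤ a ∧ ¬ 2 ∣ a ∧ (e = 1 ∨ e = 2 ∨ e = 4) ∧
      ((C y.1).card : ℚ) = (Nat.card M : ℚ) * ((1 - 1 / (a : ℚ)) / e) :=
    fun y hy => data y.1 (hRSS y hy) y.2
  have hC1sub : ∀ y ∈ R, ((C y.1).card : ℚ) ≤ R.card := fun y hy => by
    exact_mod_cast Finset.card_le_card (hRC y hy)
  -- the torus normaliser contains a Weyl element
  have he02 : e0 = 2 ∧ ∃ r : Fˣ, wS hF * dS hF r ∈ M := by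
    by_cases hw : ∃ r : Fˣ, wS hF * dS hF r ∈ M
    · refine ⟨?_, hw⟩
      obtain ⟨r, hr⟩ := hw
      have h1 : e0 ≠ 1 := by
        intro h
        rw [h, one_mul] at hN0
        set AM := (Subgroup.centralizer ({z0} : Set ↥(Cfsg.Sz F m))).subgroupOf M
        set NM := Subgroup.normalizer (AM : Set M)
        have heq : AM = NM :=
          Subgroup.eq_of_le_of_card_ge Subgroup.le_normalizer (by rw [hN0, ha0])
        have hmem : (⟨_, hr⟩ : M) ∈ NM := by
          rw [Subgroup.mem_normalizer_iff]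
          intro y
          have hy' : (wS hF * dS hF r) ∈ Subgroup.normalizer (T hF : Set ↥(Cfsg.Sz F m)) := by
            refine TI_T hF hm z0 ((mem_T hF).mpr ⟨t0, rfl⟩) hz0ne _ ((mem_T hF).mpr ⟨t0⁻¹, ?_⟩)
            rw [hz0, _root_.mul_inv_rev, wS_inv, dS_inv, mul_assoc (wS hF), dS_mul, ← mul_assoc,
              mul_assoc (wS hF) (dS hF (r * t0)), dS_mul, mul_comm r t0, mul_inv_cancel_right, wS_dS]
          rw [Subgroup.mem_subgroupOf, Subgroup.mem_subgroupOf, hCz0]
          exact Subgroup.mem_normalizer_iff.mp hy' y.1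
        rw [← heq] at hmem
        have hmem' : wS hF * dS hF r ∈ Subgroup.centralizer ({z0} : Set ↥(Cfsg.Sz F m)) := hmem
        rw [hCz0, mem_T] at hmem'
        obtain ⟨u, hu⟩ := hmem'
        have h' := congrArg (fun g : ↥(Cfsg.Sz F m) => g • suzukiPointInfinity F) hu
        simp only [mul_smul, smul_dS_inf, smul_wS_inf] at h'
        rw [← pt_zero (m := m)] at h'
        exact pt_ne_inf _ _ h'
      obtain ⟨-, -, -, -, -, -, hle⟩ : True ∧ True ∧ True ∧ True ∧ True ∧ True ∧ e0 ≤ 2 := by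
        refine ⟨trivial, trivial, trivial, trivial, trivial, trivial, ?_⟩
        obtain ⟨a, e, ha, hN', -, -, -, ⟨c, -, hc, hec⟩, -⟩ := class_term hF hm M hz0SS hz0M
        obtain ⟨c', hc', -, -, hNG⟩ := ss_data hF hm hz0SS
        have hsub : Nat.card (Subgroup.normalizer
            (((Subgroup.centralizer ({z0} : Set ↥(Cfsg.Sz F m))).subgroupOf M : Subgroup M) : Set M)) ≤
            2 * (z - 1) := by
          let f : Subgroup.normalizer
              (((Subgroup.centralizer ({z0} : Set ↥(Cfsg.Sz F m))).subgroupOf M : Subgroup M) : Set M) →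
              K × Fin 2 := fun x =>
            if hx : (x.1.1 : ↥(Cfsg.Sz F m)) ∈ T hF then (⟨x.1, hx⟩, 0) else
              if hx' : (wS hF * dS hF r) * x.1.1 ∈ T hF then
                (⟨⟨_, mul_mem hr x.1.2⟩, hx'⟩, 1) else (1, 1)
          have hmemT : ∀ x : Subgroup.normalizer
              (((Subgroup.centralizer ({z0} : Set ↥(Cfsg.Sz F m))).subgroupOf M : Subgroup M) : Set M),
              (x.1.1 : ↥(Cfsg.Sz F m)) ∈ T hF ∨ (wS hF * dS hF r) * x.1.1 ∈ T hF := by
            intro x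
            have h := (Subgroup.mem_normalizer_iff.mp x.2 ⟨z0, hz0M⟩).mp
              (show z0 ∈ Subgroup.centralizer ({z0} : Set ↥(Cfsg.Sz F m)) from
                Subgroup.mem_centralizer_singleton_iff.mpr rfl)
            have h' : x.1.1 * z0 * x.1.1⁻¹ ∈ T hF := hCz0 ▸ h
            obtain ⟨s', hs'⟩ := (mem_T hF).mp h'
            rcases conj_torus hF hm ht01 hs' with ⟨q, hq, -⟩ | ⟨q, hq, -⟩
            · exact Or.inl ((mem_T hF).mpr ⟨q, hq⟩)
            · refine Or.inr ((mem_T hF).mpr ⟨r⁻¹ * q, ?_⟩)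
              rw [hq, mul_assoc, ← mul_assoc (dS hF r), ← mul_assoc (wS hF)]
              have e : wS hF * (dS hF r * wS hF) = dS hF r⁻¹ := by rw [← mul_assoc, wS_dS]
              rw [e, dS_mul]
          have hf : Function.Injective f := by
            intro x y hxy
            simp only [f] at hxy
            rcases hmemT x with hx | hx <;> rcases hmemT y with hy | hy
            · rw [dif_pos hx, dif_pos hy] at hxy
              exact Subtype.ext (congrArg (fun p => p.1.1) hxy)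
            · by_cases hy2 : (y.1.1 : ↥(Cfsg.Sz F m)) ∈ T hF
              · rw [dif_pos hx, dif_pos hy2] at hxy
                exact Subtype.ext (congrArg (fun p => p.1.1) hxy)
              · rw [dif_pos hx, dif_neg hy2, dif_pos hy] at hxy
                exact absurd (congrArg Prod.snd hxy) (by simp)
            · by_cases hx2 : (x.1.1 : ↥(Cfsg.Sz F m)) ∈ T hF
              · rw [dif_pos hx2, dif_pos hy] at hxy
                exact Subtype.ext (congrArg (fun p => p.1.1) hxy)
              · rw [dif_neg hx2, dif_pos hx, dif_pos hy] at hxy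
                exact absurd (congrArg Prod.snd hxy) (by simp)
            · by_cases hx2 : (x.1.1 : ↥(Cfsg.Sz F m)) ∈ T hF <;>
                by_cases hy2 : (y.1.1 : ↥(Cfsg.Sz F m)) ∈ T hF
              · rw [dif_pos hx2, dif_pos hy2] at hxy
                exact Subtype.ext (congrArg (fun p => p.1.1) hxy)
              · rw [dif_pos hx2, dif_neg hy2, dif_pos hy] at hxy
                exact absurd (congrArg Prod.snd hxy) (by simp)
              · rw [dif_neg hx2, dif_pos hx, dif_pos hy2] at hxy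
                exact absurd (congrArg Prod.snd hxy) (by simp)
              · rw [dif_neg hx2, dif_pos hx, dif_neg hy2, dif_pos hy] at hxy
                exact Subtype.ext (Subtype.ext (mul_left_cancel (congrArg (fun p => p.1.1.1) hxy)))
          refine (Nat.card_le_card_of_injective f hf).trans ?_
          rw [Nat.card_prod, hcardK, Nat.card_fin, mul_comm]
        rw [hN0, ha0z] at hsub
        exact Nat.le_of_mul_le_mul_right hsub (by omega)
      rcases he0 with h | h | h <;> omega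
    · exfalso
      -- then the torus is self-normalising in `M`
      have hle : Subgroup.normalizer
          (((Subgroup.centralizer ({z0} : Set ↥(Cfsg.Sz F m))).subgroupOf M : Subgroup M) : Set M) ≤
          (Subgroup.centralizer ({z0} : Set ↥(Cfsg.Sz F m))).subgroupOf M := by
        intro x hx
        have h := (Subgroup.mem_normalizer_iff.mp hx ⟨z0, hz0M⟩).mp
          (show z0 ∈ Subgroup.centralizer ({z0} : Set ↥(Cfsg.Sz F m)) from
            Subgroup.mem_centralizer_singleton_iff.mpr rfl)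
        have h' : x.1 * z0 * x.1⁻¹ ∈ T hF := hCz0 ▸ h
        obtain ⟨s', hs'⟩ := (mem_T hF).mp h'
        rcases conj_torus hF hm ht01 hs' with ⟨q, hq, -⟩ | ⟨q, hq, -⟩
        · rw [Subgroup.mem_subgroupOf, hCz0]; exact (mem_T hF).mpr ⟨q, hq⟩
        · exact absurd ⟨q, hq ▸ x.2⟩ hw
      have h1 : e0 = 1 := by
        have h := Subgroup.card_le_of_le hle
        rw [hN0, ha0] at h
        have : e0 * a0 ≤ 1 * a0 := by rwa [one_mul]
        have h' := Nat.le_of_mul_le_mul_right this (by omega)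
        omega
      subst h1
      push_cast at hrest
      have e : 1 - μ - σ - (1 - 1 / (a0 : ℚ)) / 1 = 1 / (s * ((z : ℚ) - 1)) - μ := by
        rw [hσb.2.2, ha0z, Nat.cast_sub (show 1 ≤ z by omega), Nat.cast_one]; ring
      rw [e] at hrest
      rcases Finset.eq_empty_or_nonempty R with hRe | ⟨y, hy⟩
      · have h0 := hone hRe hrest
        rw [hμ, hMq, sub_eq_zero, div_eq_div_iff (by positivity) (by rw [← hMq]; positivity),
          one_mul, one_mul] at h0
        have hN' : (N : ℚ) = 1 :=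
          mul_left_cancel₀ (show (s : ℚ) * ((z : ℚ) - 1) ≠ 0 by positivity) (h0.trans (mul_one _).symm)
        have : N = 1 := by exact_mod_cast hN'
        omega
      · obtain ⟨a, e', -, -, h5, -, he', hC'⟩ := htake y hy
        have h1 := hC1sub y hy
        rw [hC', hrest] at h1
        have h2 := le_of_mul_le_mul_left h1 hMpos
        have h3 := (lower h5 he').1
        have h4 : 1 / ((s : ℚ) * ((z : ℚ) - 1)) ≤ 1 / 56 :=
          one_div_le_one_div_of_le (by norm_num) (by nlinarith)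
        linarith
  obtain ⟨rfl, r, hr⟩ := he02
  set τ : ℚ := 1 - μ - σ - (1 - 1 / (a0 : ℚ)) / (2 : ℕ) with hτ
  have hτ' : τ = 1 / 2 - μ - ((s : ℚ) - 2) / (2 * s * ((z : ℚ) - 1)) := by
    rw [hτ, hσ, ha0z, Nat.cast_sub (show 1 ≤ z by omega), Nat.cast_one]
    field_simp
    ring
  have hτb : (1 / 4 : ℚ) < τ ∧ τ < 1 / 2 := by
    have h1 : ((s : ℚ) - 2) / (2 * s * ((z : ℚ) - 1)) ≤ 1 / 14 := by
      rw [div_le_div_iff₀ (by positivity) (by norm_num)]; nlinarith
    have h2 : 0 ≤ ((s : ℚ) - 2) / (2 * s * ((z : ℚ) - 1)) := div_nonneg (by linarith) (by positivity)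
    have h3 : μ ≤ 1 / 56 := by
      rw [hμ, hMq]
      refine one_div_le_one_div_of_le (by norm_num) ?_
      have : (1 : ℚ) ≤ N := by exact_mod_cast (show 1 ≤ N by omega)
      have : (56 : ℚ) ≤ (s : ℚ) * ((z : ℚ) - 1) := by nlinarith
      nlinarith
    rw [hτ']
    constructor <;> linarith
  obtain ⟨y1, hy1⟩ : R.Nonempty := by
    rcases Finset.eq_empty_or_nonempty R with hRe | hne
    · have := hone hRe hrest
      linarith [hτb.1]
    · exact hne
  obtain ⟨a1, e1, ha1, hN1', h51, hodd1, he1, hC1⟩ := htake y1 hy1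
  have hr1 : (1 - 1 / (a1 : ℚ)) / e1 ≤ τ := by
    have h := hC1sub y1 hy1
    rw [hC1, hrest] at h
    exact le_of_mul_le_mul_left h hMpos
  -- the case of a single further class
  have single : R = C y1.1 → False := by
    intro hR'
    have heq : (1 - 1 / (a1 : ℚ)) / e1 = τ := by
      have h : (R.card : ℚ) = ((C y1.1).card : ℚ) := by rw [← hR']
      rw [hC1, hrest] at h
      exact (mul_left_cancel₀ hMpos.ne' h).symm
    rcases he1 with rfl | rfl | rfl
    · have := (lower h51 (Or.inl rfl)).2.2.1 rfl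
      linarith [hτb.2]
    · rw [hτ', hμ, hMq] at heq
      have ha1' : (a1 : ℚ) ≠ 0 := by exact_mod_cast (show a1 ≠ 0 by omega)
      have hN' : (N : ℚ) ≠ 0 := by exact_mod_cast (show N ≠ 0 by omega)
      push_cast at heq
      field_simp at heq
      have hnat : a1 * ((s - 2) * N + 2) = s * (z - 1) * N := by
        have : ((a1 * ((s - 2) * N + 2) : ℕ) : ℚ) = ((s * (z - 1) * N : ℕ) : ℚ) := by
          push_cast [Nat.cast_sub (show 2 ≤ s by omega), Nat.cast_sub (show 1 ≤ z by omega)]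
          linear_combination heq
        exact_mod_cast this
      have hodd : ¬ 2 ∣ N := by
        rw [hΩ1]
        have : 2 ∣ s := by
          rcases hcardS with ⟨-, h⟩ | ⟨-, h⟩
          · rw [h, hz]; exact dvd_pow_self 2 (by omega)
          · rw [h, hz, ← pow_mul]; exact dvd_pow_self 2 (by omega)
        intro h2
        have := (Nat.dvd_add_left (this.mul_right j)).mp h2
        omega
      have hcop : Nat.Coprime N ((s - 2) * N + 2) := by
        rw [Nat.coprime_mul_right_add_right]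
        exact (Nat.coprime_comm.mp (Nat.prime_two.coprime_iff_not_dvd.mpr hodd))
      obtain ⟨c, rfl⟩ : N ∣ a1 := hcop.dvd_of_dvd_mul_right (by rw [hnat]; exact dvd_mul_left _ _)
      have hc : c * ((s - 2) * N + 2) = s * (z - 1) := by
        refine Nat.eq_of_mul_eq_mul_left (show 0 < N by omega) ?_
        rw [← mul_assoc, hnat, mul_comm]
      have hcpos : 1 ≤ c := Nat.one_le_iff_ne_zero.mpr (by rintro rfl; rw [mul_zero] at h51; omega)
      have hlow : (s - 2) * (s + 1) + 2 ≤ (s - 2) * N + 2 :=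
        Nat.add_le_add_right (Nat.mul_le_mul_left _ hN1) 2
      have hss : (s - 2) * (s + 1) + 2 = s * (s - 1) := by
        obtain ⟨s', hs'⟩ : ∃ s', s = s' + 2 := ⟨s - 2, by omega⟩
        rw [hs', show s' + 2 - 2 = s' by omega, show s' + 2 - 1 = s' + 1 by omega]; ring
      rcases hcardS with ⟨hSa, hsz⟩ | ⟨-, hsz⟩
      · rw [hsz] at hc hlow hss hN1
        have hmul := Nat.mul_le_mul hcpos hlow
        rw [one_mul, hc, hss] at hmul
        have hNz : N = z + 1 := by
          by_contra hne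
          have h2 : (z - 2) * (z + 2) ≤ (z - 2) * N := Nat.mul_le_mul_left _ (by omega)
          have h3 : (z - 2) * (z + 2) = (z - 2) * (z + 1) + (z - 2) := by ring
          have h4 : (z - 2) * N + 2 ≤ c * ((z - 2) * N + 2) := Nat.le_mul_of_pos_left _ hcpos
          omega
        have h3 : 3 ∣ Nat.card ↥(Cfsg.Sz F m) := by
          refine dvd_trans ?_ (Subgroup.card_subgroup_dvd_card M)
          rw [hMcard, hsz, hNz]
          have : z % 3 = 2 := by rw [hz, pow_succ, pow_mul, Nat.mul_mod, Nat.pow_mod]; norm_num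
          exact dvd_mul_of_dvd_right (by omega) _
        obtain ⟨-, -, -, -, hq3, -, -⟩ := arith hF hm _ _ rfl rfl
        rw [card_Sz hF hm] at h3
        have e : (2 ^ (2 * m + 1)) ^ 2 % 3 = 1 := by rw [Nat.pow_mod, hq3]
        rcases Nat.prime_three.dvd_mul.mp h3 with h | h
        · rcases Nat.prime_three.dvd_mul.mp h with h' | h' <;> omega
        · omega
      · rw [hsz] at hc hlow hss
        have hmul := Nat.mul_le_mul hcpos hlow
        rw [one_mul, hc, hss] at hmul
        have hlt : z ^ 2 * (z - 1) < z ^ 2 * (z ^ 2 - 1) := by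
          have : z < z ^ 2 := by nlinarith
          exact Nat.mul_lt_mul_of_pos_left (by omega) (by positivity)
        omega
    · have := (lower h51 (Or.inr (Or.inr rfl))).2.2.2 rfl
      linarith [hτb.1]
  obtain ⟨y2, hy2, hy2n⟩ : ∃ y2 ∈ R, y2 ∉ C y1.1 := by
    by_contra hall
    push Not at hall
    exact single (Finset.Subset.antisymm hall (hRC y1 hy1))
  obtain ⟨a2, e2, ha2, hN2', h52, hodd2, he2, hC2⟩ := htake y2 hy2
  have d12 : Disjoint (C y1.1) (C y2.1) := hCC y1.1 y2.1 (hRSS _ hy1) (hRSS _ hy2) y2.2 hy2n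
  have hcover : R = C y1.1 ∪ C y2.1 := by
    refine (Finset.Subset.antisymm (Finset.union_subset (hRC _ hy1) (hRC _ hy2)) ?_).symm
    intro y3 hy3
    by_contra hn
    rw [Finset.mem_union, not_or] at hn
    obtain ⟨a3, e3, -, -, h53, -, he3, hC3⟩ := htake y3 hy3
    have d13 := hCC y1.1 y3.1 (hRSS _ hy1) (hRSS _ hy3) y3.2 hn.1
    have d23 := hCC y2.1 y3.1 (hRSS _ hy2) (hRSS _ hy3) y3.2 hn.2
    have hsum : (C y1.1).card + (C y2.1).card + (C y3.1).card ≤ R.card := by
      rw [← Finset.card_union_of_disjoint d12, ← Finset.card_union_of_disjoint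
        (Finset.disjoint_union_left.mpr ⟨d13, d23⟩)]
      exact Finset.card_le_card (Finset.union_subset (Finset.union_subset (hRC _ hy1) (hRC _ hy2))
        (hRC _ hy3))
    have hq : ((C y1.1).card : ℚ) + (C y2.1).card + (C y3.1).card ≤ (R.card : ℚ) := by
      exact_mod_cast hsum
    rw [hC1, hC2, hC3, hrest, ← mul_add, ← mul_add] at hq
    have := le_of_mul_le_mul_left hq hMpos
    linarith [(lower h51 he1).1, (lower h52 he2).1, (lower h53 he3).1, hτb.2]
  have hsum : (1 - 1 / (a1 : ℚ)) / e1 + (1 - 1 / (a2 : ℚ)) / e2 = τ := by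
    have h : (R.card : ℚ) = ((C y1.1).card : ℚ) + (C y2.1).card := by
      rw [hcover, Finset.card_union_of_disjoint d12]; push_cast; rfl
    rw [hC1, hC2, hrest, ← mul_add] at h
    exact (mul_left_cancel₀ hMpos.ne' h).symm
  have h44 : e1 = 4 ∧ e2 = 4 := by
    constructor
    · by_contra hne
      linarith [(lower h51 he1).2.1 hne, (lower h52 he2).1, hτb.2]
    · by_contra hne
      linarith [(lower h52 he2).2.1 hne, (lower h51 he1).1, hτb.2]
  obtain ⟨rfl, rfl⟩ := h44
  -- there are elements of order four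
  rcases hcardS with ⟨hSa, -⟩ | ⟨hSfull, hsz⟩
  · exfalso
    obtain ⟨x, hx, hx4, hx2⟩ := exists_order_four hF hm M (hRSS _ hy1) y1.2 (by rw [hN1', ha1])
    have hxU : x ∈ conjSet (U hF) := by
      by_contra hn
      have hx1 : x ≠ 1 := fun e => hx2 (by rw [e, one_pow])
      have hd : orderOf x ∣ 2 ^ 2 := orderOf_dvd_of_pow_eq_one hx4
      obtain ⟨i, -, hi⟩ := (Nat.dvd_prime_pow Nat.prime_two).mp hd
      rcases Nat.eq_zero_or_pos i with rfl | hpos
      · exact hx1 (orderOf_eq_one_iff.mp hi)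
      · exact ss_orderOf_odd hF hm ⟨hx1, hn⟩ (hi ▸ dvd_pow_self 2 hpos.ne')
    obtain ⟨-, g, a, b, hab⟩ := hUtype ⟨x, hx⟩ hxU
    change g.1⁻¹ * x * g.1 = uS hF a b at hab
    have hmem : uS hF a b ∈ M := hab ▸ mul_mem (mul_mem (inv_mem g.2) hx) g.2
    obtain rfl := hSa a b hmem
    refine hx2 ?_
    have : (g.1⁻¹ * x * g.1) * (g.1⁻¹ * x * g.1) = 1 := by
      rw [hab, uS_sq, th_zero, zero_mul, uS_zero]
    calc x ^ 2 = g.1 * ((g.1⁻¹ * x * g.1) * (g.1⁻¹ * x * g.1)) * g.1⁻¹ := by rw [sq]; group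
      _ = 1 := by rw [this]; group
  -- now `S` is the full root group over the subfield
  set E2 : Set (Projectivization F (Fin 4 → F)) :=
    {p | ∃ a b, a ∈ subSet k ∧ b ∈ subSet k ∧ p = pt m a b} with hE2
  have hzeroΩ : suzukiPointZero F ∈ Ω :=
    ⟨_, hr, by rw [mul_smul, smul_dS_inf, smul_wS_inf]⟩
  have hE2Ω : E2 ⊆ Ω \ {suzukiPointInfinity F} := by
    rintro p ⟨a, b, ha, hb, rfl⟩
    refine ⟨?_, pt_ne_inf a b⟩
    rw [← smul_uS_zero hF a b]
    exact hΩsmul _ (hSfull a b ha hb) _ hzeroΩ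
  have hE2card : E2.ncard = z ^ 2 := by
    rw [← Nat.card_coe_set_eq, sq, ← hcE, ← Nat.card_prod]
    refine Nat.card_congr (Equiv.ofBijective (fun p : subSet (F := F) k × subSet (F := F) k =>
      (⟨pt m p.1.1 p.2.1, p.1.1, p.2.1, p.1.2, p.2.2, rfl⟩ : E2)) ⟨?_, ?_⟩).symm
    · intro p q h
      obtain ⟨h1, h2⟩ := pt_injective (congrArg Subtype.val h)
      exact Prod.ext (Subtype.ext h1) (Subtype.ext h2)
    · rintro ⟨p, a, b, ha, hb, rfl⟩
      exact ⟨(⟨a, ha⟩, ⟨b, hb⟩), rfl⟩
  have hfree : Nat.card H ∣ ((Ω \ {suzukiPointInfinity F}) \ E2).ncard := by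
    have hSmem : ∀ a b, uS hF a b ∈ M → a ∈ subSet k ∧ b ∈ subSet k := by
      intro a b hab
      refine ⟨hA a b hab, ?_⟩
      have := mul_mem (inv_mem (hSfull a 0 (hA a b hab) subSet_zero)) hab
      rw [uS_inv, uS_mul, show a + a = (0 : F) by linear_combination a * two_eq_zero hF, hB] at this
      convert this using 1
      linear_combination (-(th m a * a)) * two_eq_zero hF
    have hmapE : ∀ x : H, ∀ a b : F, a ∈ subSet k → b ∈ subSet k →
        (x.1.1 : ↥(Cfsg.Sz F m)) • pt m a b ∈ E2 := by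
      rintro ⟨⟨x, hx⟩, hxs⟩ a b ha hb
      obtain ⟨c, d, t, ht, hu, rfl⟩ := hstab x hx hxs
      obtain ⟨hc, hd⟩ := hSmem c d hu
      show (uS hF c d * dS hF t) • pt m a b ∈ E2
      rw [mul_smul]
      show (uEl m c d : Matrix.SpecialLinearGroup (Fin 4) F) • ((dEl m t : Matrix.SpecialLinearGroup (Fin 4) F) • pt m a b) ∈ E2
      rw [dEl_smul_pt hF, uEl_smul_pt hF]
      exact ⟨_, _, subSet_add hF (subSet_mul (subSet_th ht) ha) hc,
        subSet_add hF (subSet_add hF (subSet_mul (subSet_mul (subSet_th ht)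
          (by rw [sq]; exact subSet_mul ht ht)) hb)
          (subSet_mul (subSet_th hc) (subSet_mul (subSet_th ht) ha))) hd, rfl⟩
    refine free_card_dvd (G := H) _ ?_ ?_
    · rintro x p ⟨⟨hp, hne⟩, hpE⟩
      refine ⟨⟨hΩsmul _ x.1.2 p hp, fun h => hne ?_⟩, fun h => hpE ?_⟩
      · have h' : (x.1.1 : ↥(Cfsg.Sz F m)) • p = x.1.1 • suzukiPointInfinity F :=
          (show _ = suzukiPointInfinity F from h).trans (MulAction.mem_stabilizer_iff.mp x.2).symm
        exact MulAction.injective x.1.1 h'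
      · obtain ⟨a, b, ha, hb, hab⟩ := h
        have h' : p = (x⁻¹).1.1 • pt m a b := by
          rw [← hab]
          show p = (x⁻¹).1.1 • (x.1.1 • p)
          rw [← mul_smul]
          simp
        rw [h']
        exact hmapE x⁻¹ a b ha hb
    · rintro ⟨⟨x, hx⟩, hxs⟩ p ⟨⟨hp, hne⟩, hpE⟩ hfix
      obtain ⟨c, d, t, ht, hu, rfl⟩ := hstab x hx hxs
      obtain ⟨hc, hd⟩ := hSmem c d hu
      have hfix' : (uS hF c d * dS hF t) • p = p := hfix
      by_contra h1
      by_cases ht1 : t = 1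
      · rw [ht1, dS_one, mul_one] at hfix'
        refine hne (fix_unique hF ⟨c, d, rfl⟩ (fun e => h1 ?_) (hΩov p hp) hfix')
        apply Subtype.ext; apply Subtype.ext
        show uS hF c d * dS hF t = 1
        rw [ht1, dS_one, mul_one, e]
      · -- the second fixed point is rational over the subfield
        set x0 := c / (1 + th m (t : F))
        have hT1 : 1 + th m (t : F) ≠ 0 := by
          rw [← sub_eq hF, sub_ne_zero, ← th_one (F := F) (m := m)]
          exact fun h => ht1 (Units.ext (th_injective hF h).symm)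
        have hL1 : 1 + th m (t : F) * (t : F) ^ 2 ≠ 0 := by
          rw [← sub_eq hF, sub_ne_zero]
          exact fun h => ht1 (Units.ext (eq_one_of_th_sq hF h.symm))
        rcases mem_ovoid_iff.mp (hΩov p hp) with h | ⟨a, b, rfl⟩
        · exact hne h
        rw [mul_smul] at hfix'
        have h2' : (uEl m c d : Matrix.SpecialLinearGroup (Fin 4) F) •
            ((dEl m t : Matrix.SpecialLinearGroup (Fin 4) F) • pt m a b) = pt m a b := hfix'
        rw [dEl_smul_pt hF, uEl_smul_pt hF] at h2'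
        obtain ⟨f1, f2⟩ := pt_injective h2'
        have hh := two_eq_zero hF
        have ha : a = c / (1 + th m (t : F)) := by
          rw [eq_div_iff hT1]; linear_combination f1 + (a - c) * hh
        have hb : b = (th m c * (th m (t : F) * a) + d) / (1 + th m (t : F) * (t : F) ^ 2) := by
          rw [eq_div_iff hL1]; linear_combination f2 + (b - d - th m c * (th m (t : F) * a)) * hh
        have haE : a ∈ subSet k := ha ▸ subSet_div hc (subSet_add hF subSet_one (subSet_th ht))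
        refine hpE ⟨a, b, haE, ?_, rfl⟩
        rw [hb]
        exact subSet_div (subSet_add hF (subSet_mul (subSet_th hc) (subSet_mul (subSet_th ht) haE)) hd)
          (subSet_add hF subSet_one (subSet_mul (subSet_th ht) (by rw [sq]; exact subSet_mul ht ht)))
  obtain ⟨i, hi⟩ := hfree
  have hΩ2 : N = 1 + z ^ 2 + z ^ 2 * (z - 1) * i := by
    rw [hN, ← Set.ncard_diff_singleton_add_one hΩinf (Set.toFinite _),
      ← Set.ncard_diff_add_ncard_of_subset hE2Ω (Set.toFinite _), hE2card, hi, hcardH, hsz]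
    ring
  have hi0 : i = 0 := by
    by_contra hne
    have hge : z ^ 3 + 1 ≤ N := by
      rw [hΩ2]
      obtain ⟨z', hz'⟩ : ∃ z', z = z' + 1 := ⟨z - 1, by omega⟩
      have : z ^ 2 * (z - 1) * 1 ≤ z ^ 2 * (z - 1) * i := Nat.mul_le_mul_left _ (Nat.one_le_iff_ne_zero.mpr hne)
      rw [hz'] at this ⊢
      rw [show z' + 1 - 1 = z' by omega] at this ⊢
      nlinarith
    -- every prime power dividing `N` divides one of the two torus orders
    have hNab : N ≤ a1 * a2 := by
      refine Nat.le_of_dvd (by positivity) ?_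
      rw [Nat.dvd_iff_prime_pow_dvd_dvd]
      intro p e hp hpe
      rcases Nat.eq_zero_or_pos e with rfl | he
      · simp
      haveI : Fact p.Prime := ⟨hp⟩
      have hp2 : p ≠ 2 := by
        rintro rfl
        have h := (dvd_pow_self 2 he.ne').trans hpe
        rw [hΩ2] at h
        have h2 : 2 ∣ z ^ 2 := dvd_pow (by rw [hz]; exact dvd_pow_self 2 (by omega)) two_ne_zero
        have : 2 ∣ 1 + z ^ 2 := (Nat.dvd_add_left ((h2.mul_right _).mul_right i)).mp h
        omega
      obtain ⟨P⟩ : Nonempty (Sylow p M) := inferInstance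
      haveI : IsCyclic P := by
        obtain ⟨Q, hQ⟩ := (P.isPGroup'.map M.subtype).exists_le_sylow
        haveI := isCyclic_sylow_odd hF hm hp2 Q
        let f : (P : Subgroup M) →* (Q : Subgroup ↥(Cfsg.Sz F m)) :=
          (M.subtype.comp (P : Subgroup M).subtype).codRestrict _ (fun x => hQ ⟨x.1, x.2, rfl⟩)
        exact isCyclic_of_injective f fun a b h => by
          have h' := congrArg (fun w : (Q : Subgroup ↥(Cfsg.Sz F m)) => (w : ↥(Cfsg.Sz F m))) h
          exact Subtype.ext (Subtype.ext h')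
      obtain ⟨gP, hgP⟩ := IsCyclic.exists_ofOrder_eq_natCard (α := P)
      rw [P.card_eq_multiplicity] at hgP
      set v := (Nat.card M).factorization p
      have hd : p ^ e ∣ p ^ v := by
        refine pow_dvd_pow p ((hp.pow_dvd_iff_le_factorization Nat.card_pos.ne').mp ?_)
        rw [hMcard]
        exact dvd_mul_of_dvd_right hpe _
      set y : M := gP.1
      have hyo : orderOf y = p ^ v := by rw [Subgroup.orderOf_coe]; exact hgP
      have hv : 1 ≤ v := le_trans he ((Nat.pow_dvd_pow_iff_le_right hp.one_lt).mp hd)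
      have hyne : y.1 ≠ 1 := by
        intro h
        rw [orderOf_eq_one_iff.mpr (Subtype.ext h : y = 1)] at hyo
        exact (Nat.one_lt_pow (by omega) hp.one_lt).ne hyo
      have hySS : SS hF y.1 := by
        refine ⟨hyne, fun hU => ?_⟩
        have h := orderOf_dvd_of_conjSet _ hU
        rw [Subgroup.orderOf_coe, hyo, card_U, ← pow_mul] at h
        exact hp2 ((Nat.prime_dvd_prime_iff_eq hp Nat.prime_two).mp
          (hp.dvd_of_dvd_pow ((dvd_pow_self p (by omega)).trans h)))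
      have hnot : y ∉ C z0 := by
        intro h
        have h1 := orderOf_dvd_of_conjSet _ (Finset.mem_filter.mp h).2
        rw [hyo, hCz0] at h1
        have h1' : p ^ v ∣ z - 1 := hcardK ▸ h1
        have h2 : p ^ (v + e) ∣ Nat.card M := by
          rw [hMcard, pow_add]
          exact mul_dvd_mul (dvd_mul_of_dvd_right h1' _) hpe
        have := (hp.pow_dvd_iff_le_factorization Nat.card_pos.ne').mp h2
        omega
      have hyR : y ∈ R := by
        rw [hR, Finset.mem_sdiff, Finset.mem_insert, Finset.mem_union]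
        refine ⟨Finset.mem_univ _, ?_⟩
        rintro (h | h | h)
        · exact hyne (congrArg Subtype.val h)
        · obtain ⟨-, g, hg⟩ := (Finset.mem_filter.mp h).2
          exact hySS.2 ⟨hyne, g.1, hg⟩
        · exact hnot h
      rw [hcover, Finset.mem_union] at hyR
      refine hd.trans ?_
      rcases hyR with h | h
      · have := orderOf_dvd_of_conjSet _ (Finset.mem_filter.mp h).2
        rw [hyo, ha1] at this
        exact dvd_mul_of_dvd_left this _
      · have := orderOf_dvd_of_conjSet _ (Finset.mem_filter.mp h).2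
        rw [hyo, ha2] at this
        exact dvd_mul_of_dvd_right this _
    -- the square of a torus order is at most the group order
    have hsq : ∀ (y : M) (a : ℕ), y ∈ R →
        Nat.card ((Subgroup.centralizer ({y.1} : Set ↥(Cfsg.Sz F m))).subgroupOf M) = a →
        Nat.card (Subgroup.normalizer
          (((Subgroup.centralizer ({y.1} : Set ↥(Cfsg.Sz F m))).subgroupOf M : Subgroup M) : Set M)) =
            4 * a →
        ¬ 2 ∣ a → a * a ≤ z ^ 2 * (z - 1) * N := by
      intro y a hy ha hNa hao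
      rw [← hsz, hs, ← hMcard]
      set A := (Subgroup.centralizer ({y.1} : Set ↥(Cfsg.Sz F m))).subgroupOf M with hAdef
      set NA := Subgroup.normalizer (A : Set M)
      obtain ⟨g, hg⟩ : ∃ g, g ∉ NA := by
        by_contra hall
        push Not at hall
        have h : NA = ⊤ := eq_top_iff.mpr fun x _ => hall x
        rw [h, Subgroup.card_top, hMcard, hsz] at hNa
        have h8 : 8 ∣ z ^ 2 * (z - 1) * Ω.ncard := by
          refine dvd_mul_of_dvd_left (dvd_mul_of_dvd_left ?_ _) _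
          rw [hz, ← pow_mul]
          exact pow_dvd_pow 2 (show 3 ≤ (2 * k + 1) * 2 by omega)
        rw [hNa] at h8
        obtain ⟨c, hc⟩ := h8
        exact hao ⟨c, by omega⟩
      let f : A × A → M := fun p => p.1.1 * (g * p.2.1 * g⁻¹)
      have hf : Function.Injective f := by
        rintro ⟨u1, v1⟩ ⟨u2, v2⟩ h
        have h' : (u2.1)⁻¹ * u1.1 = g * (v2.1 * (v1.1)⁻¹) * g⁻¹ := by
          have h1 : u1.1 * (g * v1.1 * g⁻¹) = u2.1 * (g * v2.1 * g⁻¹) := h
          calc (u2.1)⁻¹ * u1.1 = (u2.1)⁻¹ * (u1.1 * (g * v1.1 * g⁻¹)) * (g * (v1.1)⁻¹ * g⁻¹) := by group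
            _ = _ := by rw [h1]; group
        by_cases hv : v2.1 * (v1.1)⁻¹ = 1
        · rw [hv, mul_one, mul_inv_cancel, inv_mul_eq_one] at h'
          exact Prod.ext (Subtype.ext h'.symm) (Subtype.ext (mul_inv_eq_one.mp hv).symm)
        · exfalso
          apply hg
          have hmem : g * (v2.1 * (v1.1)⁻¹) * g⁻¹ ∈ A := h' ▸ mul_mem (inv_mem u2.2) u1.2
          have hvA : v2.1 * (v1.1)⁻¹ ∈ A := mul_mem v2.2 (inv_mem v1.2)
          have hn := ss_normalizer hF hm (hRSS y hy) (a := (v2.1 * (v1.1)⁻¹ : M).1) (x := g.1) hvA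
            (fun e => hv (Subtype.ext e)) hmem
          rw [Subgroup.mem_normalizer_iff]
          intro w
          exact Subgroup.mem_normalizer_iff.mp hn w.1
      have := Nat.card_le_card_of_injective f hf
      rwa [Nat.card_prod, ha] at this
    have heqq : ((a1 : ℤ) + a2) * (z ^ 2 * (z - 1) * N) =
        a1 * a2 * (4 + 2 * (z ^ 2 - 2) * N) := by
      rw [hτ', hμ, hMq, hsz] at hsum
      push_cast at hsum
      have ha1' : (a1 : ℚ) ≠ 0 := by exact_mod_cast (show a1 ≠ 0 by omega)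
      have ha2' : (a2 : ℚ) ≠ 0 := by exact_mod_cast (show a2 ≠ 0 by omega)
      have hN' : (N : ℚ) ≠ 0 := by exact_mod_cast (show N ≠ 0 by omega)
      have hzne : (z : ℚ) ≠ 0 := by positivity
      have : ((a1 : ℚ) + a2) * ((z : ℚ) ^ 2 * (z - 1) * N) =
          a1 * a2 * (4 + 2 * ((z : ℚ) ^ 2 - 2) * N) := by
        field_simp at hsum
        apply mul_left_cancel₀ (show (2 : ℚ) ≠ 0 by norm_num)
        linear_combination -hsum
      exact_mod_cast this
    rcases le_total a1 a2 with h | h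
    · exact two_class_bound hF hz8 hz4 h51 h52 hodd1 h hge hNab (hsq y2 a2 hy2 ha2 hN2' hodd2) heqq
    · exact two_class_bound hF hz8 hz4 h52 h51 hodd2 h hge (by rwa [mul_comm])
        (hsq y1 a1 hy1 ha1 hN1' hodd1) (by linear_combination heqq)
  subst hi0
  -- the orbit is the rational part of the ovoid
  have hΩE : ∀ p ∈ Ω, p = suzukiPointInfinity F ∨ p ∈ E2 := by
    intro p hp
    by_cases h : p = suzukiPointInfinity F
    · exact Or.inl h
    · have heq : E2 = Ω \ {suzukiPointInfinity F} := by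
        refine Set.eq_of_subset_of_ncard_le hE2Ω ?_ (Set.toFinite _)
        have := Set.ncard_diff_singleton_add_one hΩinf (Set.toFinite Ω)
        rw [hE2card]
        omega
      exact Or.inr (heq ▸ ⟨hp, h⟩)
  -- the Weyl element is rational
  have hrE : (r : F) ∈ subSet k := by
    have hp : (wS hF * dS hF r * uS hF 0 1) • suzukiPointZero F ∈ Ω := by
      refine hΩsmul _ (mul_mem hr ((hB 1).mpr subSet_one)) _ hzeroΩ
    rcases hΩE _ hp with h | ⟨a, b, ha, -, h⟩
    · exfalso
      rw [mul_smul, mul_smul, smul_uS_zero] at h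
      have h' : wS hF • (dS hF r • pt m (0 : F) 1) = wS hF • suzukiPointZero F :=
        h.trans (smul_wS_zero hF).symm
      have h'' := MulAction.injective (wS hF) h'
      have h3 : (dEl m r : Matrix.SpecialLinearGroup (Fin 4) F) • pt m (0 : F) 1 = pt m 0 0 := by
        rw [pt_zero]; exact h''
      rw [dEl_smul_pt hF] at h3
      have := (pt_injective h3).2
      rw [mul_one] at this
      exact mul_ne_zero (fun e => r.ne_zero (th_eq_zero_iff.mp e)) (pow_ne_zero _ r.ne_zero) this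
    · rw [mul_smul, mul_smul, smul_uS_zero] at h
      have h3 : (wEl : Matrix.SpecialLinearGroup (Fin 4) F) •
          ((dEl m r : Matrix.SpecialLinearGroup (Fin 4) F) • pt m (0 : F) 1) = pt m a b := h
      rw [dEl_smul_pt hF, mul_zero, mul_one] at h3
      have hl : th m (r : F) * (r : F) ^ 2 ≠ 0 :=
        mul_ne_zero (fun h => r.ne_zero (th_eq_zero_iff.mp h)) (pow_ne_zero _ r.ne_zero)
      rw [wEl_smul_pt hF (Or.inr hl)] at h3
      have e1 := (pt_injective h3).1
      simp only [fp, th_zero, zero_mul, zero_add, mul_zero, th_mul, th_th hF, th_pow] at e1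
      have hrr : (r : F) ≠ 0 := r.ne_zero
      have htr : th m (r : F) ≠ 0 := fun e => hrr (th_eq_zero_iff.mp e)
      have e2 : th m (r : F) = 1 / a := by
        have e3 : a = 1 / th m (r : F) := by rw [← e1]; field_simp
        rw [e3]; field_simp
      exact subSet_of_th hF (e2 ▸ subSet_div subSet_one ha)
  have hwS : wS hF ∈ M := by
    have := mul_mem hr (inv_mem (hT r hrE))
    rwa [mul_inv_cancel_right] at this
  apply le_antisymm
  · intro g hg
    rcases hΩE _ ⟨g, hg, rfl⟩ with h | ⟨a, b, ha, hb, h⟩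
    · obtain ⟨c, d, t, ht, hu, rfl⟩ := hstab g hg h
      refine mul_mem ((uS_mem_subGp hF hm).mpr ⟨hA c d hu, ?_⟩) ((dS_mem_subGp hF hm).mpr ht)
      have := mul_mem (inv_mem (hSfull c 0 (hA c d hu) subSet_zero)) hu
      rw [uS_inv, uS_mul, show c + c = (0 : F) by linear_combination c * two_eq_zero hF, hB] at this
      convert this using 1
      linear_combination (-(th m c * c)) * two_eq_zero hF
    · set g' := wS hF * (uS hF a b)⁻¹ * g with hg'
      have hg'M : g' ∈ M := mul_mem (mul_mem hwS (inv_mem (hSfull a b ha hb))) hg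
      have hfix : g' • suzukiPointInfinity F = suzukiPointInfinity F := by
        rw [hg', mul_smul, mul_smul, h, ← smul_uS_zero hF a b, inv_smul_smul, smul_wS_zero]
      obtain ⟨c, d, t, ht, hu, hgc⟩ := hstab g' hg'M hfix
      have hd : d ∈ subSet k := by
        have := mul_mem (inv_mem (hSfull c 0 (hA c d hu) subSet_zero)) hu
        rw [uS_inv, uS_mul, show c + c = (0 : F) by linear_combination c * two_eq_zero hF, hB] at this
        convert this using 1
        linear_combination (-(th m c * c)) * two_eq_zero hF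
      have e : g = uS hF a b * wS hF * (uS hF c d * dS hF t) := by
        rw [← hgc, hg']
        simp only [← mul_assoc]
        rw [mul_assoc (uS hF a b) (wS hF) (wS hF), wS_mul_self, mul_one, mul_inv_cancel, one_mul]
      rw [e]
      exact mul_mem (mul_mem ((uS_mem_subGp hF hm).mpr ⟨ha, hb⟩) (wS_mem_subGp hF hm k))
        (mul_mem ((uS_mem_subGp hF hm).mpr ⟨hA c d hu, hd⟩) ((dS_mem_subGp hF hm).mpr ht))
  · intro g hg
    rcases subGp_form hF hm hg with ⟨a, b, t, ha, hb, ht, rfl⟩ |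
      ⟨a, b, c, d, t, ha, hb, hc, hd, ht, rfl⟩
    · exact mul_mem (hSfull a b ha hb) (hT t ht)
    · exact mul_mem (mul_mem (hSfull a b ha hb) hwS) (mul_mem (hSfull c d hc hd) (hT t ht))

end CfsgLib.Suzuki
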