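/-
The subgroup theorem for the Suzuki groups.
-/
import Mathlib
import Cfsg.Prelude.Def_LieExceptional
import Cfsg.Agent.Lib.Suzuki.SubgroupEven

namespace CfsgLib.Suzuki

open Cfsg
open scoped Pointwise

variable {F : Type*} [Field F] [Fintype F] {m : ℕ} (hF : Fintype.card F = 2 ^ (2 * m + 1))
include hF

/-- The three kinds of subgroups. -/
def Tri (hm : 1 ≤ m) (M : Subgroup ↥(Cfsg.Sz F m)) : Prop :=
  (∃ p ∈ suzukiOvoid F m, ∀ g ∈ M, g • p = p) ∨
  (∃ z, SS hF z ∧ M ≤ Subgroup.normalizer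
    (Subgroup.centralizer ({z} : Set ↥(Cfsg.Sz F m)) : Set ↥(Cfsg.Sz F m))) ∨
  (∃ (k : ℕ) (g : ↥(Cfsg.Sz F m)), 1 ≤ k ∧ 2 * k + 1 ∣ 2 * m + 1 ∧
    M = (subGp hF hm k).map (MulAut.conj g).toMonoidHom)

theorem ss_conj {z : ↥(Cfsg.Sz F m)} (hz : SS hF z) (g : ↥(Cfsg.Sz F m)) :
    SS hF (g * z * g⁻¹) := by
  refine ⟨fun e => hz.1 ?_, fun h => hz.2 ⟨hz.1, ?_⟩⟩
  · simpa [mul_assoc] using congrArg (fun v => g⁻¹ * v * g) e
  · obtain ⟨-, k, hk⟩ := h
    refine ⟨g⁻¹ * k, ?_⟩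
    have e : (g⁻¹ * k)⁻¹ * z * (g⁻¹ * k) = k⁻¹ * (g * z * g⁻¹) * k := by group
    rw [e]; exact hk

theorem tri_of_conj (hm : 1 ≤ m) {M : Subgroup ↥(Cfsg.Sz F m)} (g : ↥(Cfsg.Sz F m))
    (h : Tri hF hm (M.map (MulAut.conj g).toMonoidHom)) : Tri hF hm M := by
  have hmem : ∀ x ∈ M, g * x * g⁻¹ ∈ M.map (MulAut.conj g).toMonoidHom := fun x hx =>
    ⟨x, hx, rfl⟩
  rcases h with ⟨p, hp, hfix⟩ | ⟨z, hz, hle⟩ | ⟨k, h, hk, hdiv, heq⟩
  · refine Or.inl ⟨g⁻¹ • p, smul_mem_ovoid (g⁻¹ : ↥(Cfsg.Sz F m)).2 hp, fun x hx => ?_⟩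
    have := hfix _ (hmem x hx)
    rw [mul_smul, mul_smul] at this
    exact eq_inv_smul_iff.mpr this
  · have hz' : SS hF (g⁻¹ * z * g) := by
      have := ss_conj hF hz g⁻¹
      rwa [inv_inv] at this
    refine Or.inr (Or.inl ⟨_, hz', fun x hx => ?_⟩)
    refine ss_normalizer hF hm hz' (Subgroup.mem_centralizer_singleton_iff.mpr rfl) hz'.1 ?_
    rw [Subgroup.mem_centralizer_singleton_iff]
    have hzc : z ∈ Subgroup.centralizer ({z} : Set ↥(Cfsg.Sz F m)) :=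
      Subgroup.mem_centralizer_singleton_iff.mpr rfl
    have := (Subgroup.mem_normalizer_iff.mp (hle (hmem x hx)) z).mp hzc
    rw [Subgroup.mem_centralizer_singleton_iff] at this
    calc x * (g⁻¹ * z * g) * x⁻¹ * (g⁻¹ * z * g)
        = g⁻¹ * (g * x * g⁻¹ * z * (g * x * g⁻¹)⁻¹ * z) * g := by group
      _ = g⁻¹ * (z * (g * x * g⁻¹ * z * (g * x * g⁻¹)⁻¹)) * g := by rw [this]
      _ = _ := by group
  · refine Or.inr (Or.inr ⟨k, g⁻¹ * h, hk, hdiv, ?_⟩)
    apply Subgroup.map_injective (f := (MulAut.conj g).toMonoidHom) (MulAut.conj g).injective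
    refine heq.trans ?_
    rw [Subgroup.map_map]
    congr 1
    apply MonoidHom.ext
    intro y
    simp [mul_assoc]

theorem tri_of_abelian_normal (hm : 1 ≤ m) {M : Subgroup ↥(Cfsg.Sz F m)} (C : Subgroup M)
    [hC : C.Normal] (hne : C ≠ ⊥) (hab : ∀ x ∈ C, ∀ y ∈ C, x * y = y * x) : Tri hF hm M := by
  obtain ⟨⟨c, hc⟩, hc1⟩ := (Subgroup.ne_bot_iff_exists_ne_one (H := C)).mp hne
  replace hc1 : c ≠ 1 := fun e => hc1 (Subtype.ext e)
  have hc1' : (c : ↥(Cfsg.Sz F m)) ≠ 1 := fun e => hc1 (Subtype.ext e)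
  have hcomm : ∀ x : M, (x.1 * c.1 * x.1⁻¹) * c.1 = c.1 * (x.1 * c.1 * x.1⁻¹) := fun x =>
    congrArg Subtype.val (hab _ (hC.conj_mem c hc x) c hc)
  by_cases hU : (c : ↥(Cfsg.Sz F m)) ∈ conjSet (U hF)
  · obtain ⟨p, hp, hcp, huniq⟩ := unip_fix hF hm hU
    refine Or.inl ⟨p, hp, fun x hx => ?_⟩
    have h := hcomm (⟨x, hx⟩⁻¹)
    change (x⁻¹ * c.1 * x⁻¹⁻¹) * c.1 = c.1 * (x⁻¹ * c.1 * x⁻¹⁻¹) at h
    rw [inv_inv] at h
    have h' : (x⁻¹ * c.1 * x) • p = p := by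
      refine huniq _ (smul_mem_ovoid (x⁻¹ * c.1 * x).2 hp) ?_
      rw [← mul_smul, ← h, mul_smul, hcp]
    refine huniq _ (smul_mem_ovoid x.2 hp) ?_
    rw [mul_smul, mul_smul, inv_smul_eq_iff] at h'
    exact h'
  · refine Or.inr (Or.inl ⟨c.1, ⟨hc1', hU⟩, fun x hx => ?_⟩)
    refine ss_normalizer hF hm ⟨hc1', hU⟩ (Subgroup.mem_centralizer_singleton_iff.mpr rfl) hc1' ?_
    rw [Subgroup.mem_centralizer_singleton_iff]
    exact hcomm ⟨x, hx⟩

theorem tri_of_odd_normal (hm : 1 ≤ m) {M : Subgroup ↥(Cfsg.Sz F m)} (N : Subgroup M)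
    [hN : N.Normal] (hne : N ≠ ⊥) (hodd : ¬ 2 ∣ Nat.card N) : Tri hF hm M := by
  haveI : IsZGroup N := by
    have hinj := M.subtype_injective
    haveI := isZGroup_of_odd hF hm (M := N.map M.subtype)
      (by rwa [Subgroup.card_map_of_injective hinj])
    exact IsZGroup.of_injective (N.equivMapOfInjective M.subtype hinj).injective
      (f := (N.equivMapOfInjective M.subtype hinj).toMonoidHom)
  by_cases hcm : ⁅N, N⁆ = ⊥
  · refine tri_of_abelian_normal hF hm N hne fun x hx y hy => ?_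
    have h := Subgroup.commutator_mem_commutator hx hy
    rw [hcm, Subgroup.mem_bot] at h
    exact mul_inv_eq_iff_eq_mul.mp (mul_inv_eq_one.mp h)
  · haveI := IsZGroup.isCyclic_commutator (G := N)
    letI : CommGroup (commutator N) := IsCyclic.commGroup
    refine tri_of_abelian_normal hF hm ⁅N, N⁆ hcm fun x hx y hy => ?_
    rw [← Subgroup.map_subtype_commutator] at hx hy
    obtain ⟨x', hx', rfl⟩ := hx
    obtain ⟨y', hy', rfl⟩ := hy
    exact congrArg N.subtype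
      (congrArg Subtype.val (mul_comm (⟨x', hx'⟩ : commutator N) ⟨y', hy'⟩))

theorem tri_of_odd (hm : 1 ≤ m) {M : Subgroup ↥(Cfsg.Sz F m)} (hodd : ¬ 2 ∣ Nat.card M) :
    Tri hF hm M := by
  by_cases hM : M = ⊥
  · refine Or.inl ⟨_, inf_mem, fun g hg => ?_⟩
    rw [hM, Subgroup.mem_bot] at hg
    rw [hg, one_smul]
  · haveI : Nontrivial M := (Subgroup.nontrivial_iff_ne_bot M).mpr hM
    exact tri_of_odd_normal hF hm ⊤ top_ne_bot
      (by rwa [Subgroup.card_top])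

/-- All involutions of `M` in the centre of `U` are fused by the stabiliser of infinity. -/
theorem center_fused (hm : 1 ≤ m) {M : Subgroup ↥(Cfsg.Sz F m)}
    (hmove : ∃ g ∈ M, g • suzukiPointInfinity F ≠ suzukiPointInfinity F)
    {b b' : F} (hb : uS hF 0 b ∈ M) (hb0 : b ≠ 0) (hb' : uS hF 0 b' ∈ M) (hb'0 : b' ≠ 0) :
    ∃ (r s : F) (t : Fˣ), uS hF r s * dS hF t ∈ M ∧ b' = th m (t : F) * (t : F) ^ 2 * b := by
  obtain ⟨g, hg, hgne⟩ := hmove
  have hne : ∀ c : F, c ≠ 0 → uS hF 0 c ≠ 1 := fun c hc e => hc ((eq_one_iff_uS hF).mp e).2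
  have hsq : ∀ c : F, uS hF 0 c * uS hF 0 c = 1 := fun c => by
    rw [uS_sq, th_zero, zero_mul, uS_zero]
  set j := g * uS hF 0 b * g⁻¹ with hjdef
  have hj : j ∈ M := mul_mem (mul_mem hg hb) (inv_mem hg)
  have hj1 : j ≠ 1 := fun e => hne b hb0 (by
    simpa [hjdef, mul_assoc] using congrArg (fun v => g⁻¹ * v * g) e)
  have hj2 : j * j = 1 := by
    calc j * j = g * (uS hF 0 b * uS hF 0 b) * g⁻¹ := by rw [hjdef]; group
      _ = 1 := by rw [hsq]; group
  have hjmove : j • suzukiPointInfinity F ≠ suzukiPointInfinity F := by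
    intro h
    refine hgne ?_
    obtain ⟨p, -, -, hu⟩ := unip_fix hF hm (invol_unip hF hm hj1 hj2)
    have e1 := hu (g • suzukiPointInfinity F) (smul_mem_ovoid g.2 inf_mem)
      (by rw [hjdef, mul_smul, mul_smul, inv_smul_smul, smul_uS_inf])
    exact e1.trans (hu _ inf_mem h).symm
  obtain ⟨x, hx, hxe⟩ := invol_conj hF hm hb hj (hne b hb0) hj1 (hsq b) hj2 inf_mem
    (smul_uS_inf hF 0 b) hjmove
  obtain ⟨y, hy, hye⟩ := invol_conj hF hm hb' hj (hne b' hb'0) hj1 (hsq b') hj2 inf_mem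
    (smul_uS_inf hF 0 b') hjmove
  have hconj : (y⁻¹ * x) * uS hF 0 b * (y⁻¹ * x)⁻¹ = uS hF 0 b' := by
    calc (y⁻¹ * x) * uS hF 0 b * (y⁻¹ * x)⁻¹ = y⁻¹ * (x * uS hF 0 b * x⁻¹) * y := by group
      _ = y⁻¹ * (y * uS hF 0 b' * y⁻¹) * y := by rw [hxe, hye]
      _ = _ := by group
  have hfix := conj_fix_inf hF (g := uS hF 0 b) (x := y⁻¹ * x) ⟨0, b, rfl⟩ (hne b hb0)
    (by rw [hconj]; exact ⟨0, b', rfl⟩)
  obtain ⟨r, s, t, ht⟩ := (mem_stabInf_iff hF hm).mp hfix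
  refine ⟨r, s, t, ht ▸ mul_mem (inv_mem hy) hx, ?_⟩
  rw [ht, conj_uS_zero] at hconj
  exact (uS_inj hF hconj).2.symm

/-- The diagonal parts of the elements of `M` fixing infinity. -/
def diagPart (M : Subgroup ↥(Cfsg.Sz F m)) : Subgroup Fˣ where
  carrier := {t | ∃ r s : F, uS hF r s * dS hF t ∈ M}
  one_mem' := ⟨0, 0, by rw [uS_zero, dS_one, mul_one]; exact one_mem M⟩
  mul_mem' := by
    rintro t u ⟨r, s, h⟩ ⟨r', s', h'⟩
    obtain ⟨a, b, hab⟩ : ∃ a b, uS hF r s * dS hF t * (uS hF r' s' * dS hF u) =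
        uS hF a b * dS hF (t * u) := by
      refine ⟨r + th m (t : F) * r', s + th m (t : F) * (t : F) ^ 2 * s' + th m r * (th m (t : F) * r'), ?_⟩
      rw [mul_assoc (uS hF r s), ← mul_assoc (dS hF t), dS_mul_uS, mul_assoc, dS_mul,
        ← mul_assoc, uS_mul]
    exact ⟨a, b, hab ▸ mul_mem h h'⟩
  inv_mem' := by
    rintro t ⟨r, s, h⟩
    refine ⟨th m ((t⁻¹ : Fˣ) : F) * r,
      th m ((t⁻¹ : Fˣ) : F) * ((t⁻¹ : Fˣ) : F) ^ 2 * (s + th m r * r), ?_⟩
    have := inv_mem h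
    rwa [_root_.mul_inv_rev, dS_inv, uS_inv, dS_mul_uS] at this

theorem mem_diagPart {M : Subgroup ↥(Cfsg.Sz F m)} {t : Fˣ} :
    t ∈ diagPart hF M ↔ ∃ r s : F, uS hF r s * dS hF t ∈ M := Iff.rfl

/-- The case of a diagonal complement and a large centre containing `1`. -/
theorem tri_normalised (hm : 1 ≤ m) {M : Subgroup ↥(Cfsg.Sz F m)}
    (hmove : ∃ g ∈ M, g • suzukiPointInfinity F ≠ suzukiPointInfinity F)
    (hone : uS hF 0 1 ∈ M) (hbig : ∃ b : F, uS hF 0 b ∈ M ∧ b ≠ 0 ∧ b ≠ 1)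
    (hdiag : ∀ t ∈ diagPart hF M, dS hF t ∈ M) : Tri hF hm M := by
  classical
  haveI : Fact (Nat.Prime 2) := ⟨Nat.prime_two⟩
  have h2 := two_eq_zero hF
  -- the multiplicative structure of the centre
  have hΛ : ∀ b : F, (uS hF 0 b ∈ M ∧ b ≠ 0) ↔
      ∃ t ∈ diagPart hF M, b = th m (t : F) * (t : F) ^ 2 := by
    intro b
    constructor
    · rintro ⟨hb, hb0⟩
      obtain ⟨r, s, t, ht, he⟩ := center_fused hF hm hmove hone one_ne_zero hb hb0
      exact ⟨t, ⟨r, s, ht⟩, by rw [he, mul_one]⟩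
    · rintro ⟨t, ht, rfl⟩
      refine ⟨?_, mul_ne_zero (fun h => t.ne_zero (th_eq_zero_iff.mp h)) (pow_ne_zero _ t.ne_zero)⟩
      have := mul_mem (mul_mem (hdiag t ht) hone) (inv_mem (hdiag t ht))
      rwa [dS_uS, mul_zero, mul_one] at this
  let Bg : AddSubgroup F :=
    { carrier := {b | uS hF 0 b ∈ M}
      zero_mem' := by show uS hF 0 0 ∈ M; rw [uS_zero]; exact one_mem M
      add_mem' := fun {a b} ha hb => by
        show uS hF 0 (a + b) ∈ M
        have ha' : uS hF 0 a ∈ M := ha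
        have hb' : uS hF 0 b ∈ M := hb
        have := mul_mem ha' hb'
        rwa [uS_mul, add_zero, mul_zero, add_zero] at this
      neg_mem' := fun {a} ha => by show uS hF 0 (-a) ∈ M; rw [neg_eq hF]; exact ha }
  obtain ⟨e, -, he⟩ : ∃ e ≤ 2 * m + 1, Nat.card Bg = 2 ^ e := by
    have h := Bg.card_addSubgroup_dvd_card
    rw [Nat.card_eq_fintype_card (α := F), hF] at h
    exact (Nat.dvd_prime_pow Nat.prime_two).mp h
  have hcΛ : Nat.card (diagPart hF M) = Nat.card Bg - 1 := by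
    have hb : Function.Bijective (fun t : diagPart hF M =>
        (⟨⟨th m ((t : Fˣ) : F) * ((t : Fˣ) : F) ^ 2, ((hΛ _).mpr ⟨t.1, t.2, rfl⟩).1⟩,
          fun h => ((hΛ _).mpr ⟨t.1, t.2, rfl⟩).2 (congrArg Subtype.val h)⟩ : {b : Bg // b ≠ 0})) := by
      constructor
      · intro t u h
        have h' : th m ((t : Fˣ) : F) * ((t : Fˣ) : F) ^ 2 =
            th m ((u : Fˣ) : F) * ((u : Fˣ) : F) ^ 2 := congrArg (fun w => w.1.1) h
        have hu0 : th m ((u : Fˣ) : F) * ((u : Fˣ) : F) ^ 2 ≠ 0 :=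
          ((hΛ _).mpr ⟨u.1, u.2, rfl⟩).2
        have : ((t : Fˣ) : F) / (u : Fˣ) = 1 := eq_one_of_th_sq hF (m := m)
          (by rw [th_div, div_pow, div_mul_div_comm, h', div_self hu0])
        exact Subtype.ext (Units.ext ((div_eq_one_iff_eq (u : Fˣ).ne_zero).mp this))
      · rintro ⟨⟨b, hb⟩, hb0⟩
        obtain ⟨t, ht, rfl⟩ := (hΛ b).mp ⟨hb, fun h => hb0 (Subtype.ext h)⟩
        exact ⟨⟨t, ht⟩, rfl⟩
    rw [Nat.card_congr (Equiv.ofBijective _ hb), Nat.card_eq_fintype_card,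
      Fintype.card_subtype_compl, Fintype.card_subtype_eq, ← Nat.card_eq_fintype_card]
  rw [he] at hcΛ
  obtain ⟨k, rfl⟩ : Odd e := by
    have hdvd : 2 ^ e - 1 ∣ 2 ^ (2 * m + 1) - 1 := by
      rw [← hcΛ, ← hF, ← Fintype.card_units, ← Nat.card_eq_fintype_card]
      exact Subgroup.card_subgroup_dvd_card _
    have hg := Nat.pow_sub_one_gcd_pow_sub_one 2 e (2 * m + 1)
    rw [Nat.gcd_eq_left hdvd] at hg
    have hee : e = Nat.gcd e (2 * m + 1) := by
      have h1 : 1 ≤ 2 ^ e := Nat.one_le_two_pow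
      have h1' : 1 ≤ 2 ^ Nat.gcd e (2 * m + 1) := Nat.one_le_two_pow
      exact Nat.pow_right_injective (le_refl 2) (show 2 ^ e = 2 ^ Nat.gcd e (2 * m + 1) by omega)
    exact Odd.of_dvd_nat ⟨m, rfl⟩ (hee ▸ Nat.gcd_dvd_right e (2 * m + 1))
  have hdiv : 2 * k + 1 ∣ 2 * m + 1 := by
    have hdvd : 2 ^ (2 * k + 1) - 1 ∣ 2 ^ (2 * m + 1) - 1 := by
      rw [← hcΛ, ← hF, ← Fintype.card_units, ← Nat.card_eq_fintype_card]
      exact Subgroup.card_subgroup_dvd_card _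
    have hg := Nat.pow_sub_one_gcd_pow_sub_one 2 (2 * k + 1) (2 * m + 1)
    rw [Nat.gcd_eq_left hdvd] at hg
    have h1 : 1 ≤ 2 ^ (2 * k + 1) := Nat.one_le_two_pow
    have h1' : 1 ≤ 2 ^ Nat.gcd (2 * k + 1) (2 * m + 1) := Nat.one_le_two_pow
    have hee : 2 * k + 1 = Nat.gcd (2 * k + 1) (2 * m + 1) :=
      Nat.pow_right_injective (le_refl 2)
        ((Nat.sub_add_cancel h1).symm.trans
          ((congrArg (· + 1) hg).trans (Nat.sub_add_cancel h1')))
    exact hee ▸ Nat.gcd_dvd_right _ _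
  have hBsub : (Bg : Set F) ⊆ subSet k := by
    intro b hb
    by_cases hb0 : b = 0
    · rw [hb0]; exact subSet_zero
    obtain ⟨t, ht, rfl⟩ := (hΛ b).mp ⟨hb, hb0⟩
    have hz : 1 ≤ 2 ^ (2 * k + 1) := Nat.one_le_two_pow
    have hpow : t ^ (2 ^ (2 * k + 1) - 1) = 1 := by
      rw [← hcΛ]
      exact congrArg Subtype.val (pow_card_eq_one' (x := (⟨t, ht⟩ : diagPart hF M)))
    have ht' : (t : F) ∈ subSet k := by
      show (t : F) ^ 2 ^ (2 * k + 1) = t
      rw [← Nat.sub_add_cancel hz]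
      rw [pow_succ, ← Units.val_pow_eq_pow_val, hpow, Units.val_one, one_mul]
    exact subSet_mul (subSet_th ht') (by rw [sq]; exact subSet_mul ht' ht')
  have hBeq : (Bg : Set F) = subSet k := by
    refine Set.eq_of_subset_of_ncard_le hBsub ?_ (Set.toFinite _)
    rw [← Nat.card_coe_set_eq, card_subSet hF hdiv, ← Nat.card_coe_set_eq]
    exact he.ge
  have hB : ∀ b : F, uS hF 0 b ∈ M ↔ b ∈ subSet k := fun b => by rw [← hBeq]; rfl
  have hk : 1 ≤ k := by
    by_contra hk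
    obtain ⟨b, hb, hb0, hb1⟩ := hbig
    obtain rfl : k = 0 := by omega
    have h : b ^ 2 ^ (2 * 0 + 1) = b := (hB b).mp hb
    norm_num at h
    have : b * (b - 1) = 0 := by linear_combination h
    rcases mul_eq_zero.mp this with h' | h'
    · exact hb0 h'
    · exact hb1 (sub_eq_zero.mp h')
  refine Or.inr (Or.inr ⟨k, 1, hk, hdiv, ?_⟩)
  have heq : M = subGp hF hm k := by
    refine even_main hF hm hk hdiv M hB (fun t ht => ?_) (fun r s t h => ?_) hmove
    · have hφ : th m (t : F) * (t : F) ^ 2 ∈ subSet k :=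
        subSet_mul (subSet_th ht) (by rw [sq]; exact subSet_mul ht ht)
      obtain ⟨u, hu, hue⟩ := (hΛ _).mp ⟨(hB _).mpr hφ,
        mul_ne_zero (fun h => t.ne_zero (th_eq_zero_iff.mp h)) (pow_ne_zero _ t.ne_zero)⟩
      have hu0 : th m (u : F) * (u : F) ^ 2 ≠ 0 := ((hΛ _).mpr ⟨u, hu, rfl⟩).2
      have : (t : F) / u = 1 := eq_one_of_th_sq hF (m := m)
        (by rw [th_div, div_pow, div_mul_div_comm, hue, div_self hu0])
      have htu : t = u := Units.ext ((div_eq_one_iff_eq u.ne_zero).mp this)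
      exact hdiag t (htu ▸ hu)
    · exact subSet_of_th_sq hF ((hB _).mp ((hΛ _).mpr ⟨t, ⟨r, s, h⟩, rfl⟩).1)
  rw [map_one]
  exact heq.trans (Subgroup.map_id _).symm

/-- An involution in the centre of `U`, unique there. -/
theorem tri_single (hm : 1 ≤ m) {M : Subgroup ↥(Cfsg.Sz F m)}
    (hmove : ∃ g ∈ M, g • suzukiPointInfinity F ≠ suzukiPointInfinity F)
    {b0 : F} (hb0 : uS hF 0 b0 ∈ M) (hb00 : b0 ≠ 0)
    (hall : ∀ b : F, uS hF 0 b ∈ M → b = 0 ∨ b = b0) : Tri hF hm M := by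
  classical
  haveI : Fact (Nat.Prime 2) := ⟨Nat.prime_two⟩
  have h2 := two_eq_zero hF
  set i : M := ⟨uS hF 0 b0, hb0⟩ with hi
  set P0 : Subgroup M := (U hF).subgroupOf M with hP0
  have hcyc : IsCyclic P0 := by
    have hz : ∀ a b : F, uS hF a b ∈ M → a ≠ 0 → th m a * a = b0 := by
      intro a b h ha
      have h' := mul_mem h h
      rw [uS_sq] at h'
      exact (hall _ h').resolve_left (mul_ne_zero (fun e => ha (th_eq_zero_iff.mp e)) ha)
    by_cases hex : ∃ a b : F, uS hF a b ∈ M ∧ a ≠ 0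
    · obtain ⟨a, b, h, ha⟩ := hex
      set g0 : P0 := ⟨⟨uS hF a b, h⟩, a, b, rfl⟩
      refine ⟨g0, fun x => ?_⟩
      obtain ⟨⟨x, hx⟩, c, d, hcd⟩ := x
      change x = uS hF c d at hcd
      subst hcd
      show ∃ n : ℤ, g0 ^ n = _
      have hsq : uS hF a b * uS hF a b = uS hF 0 b0 := by rw [uS_sq, hz a b h ha]
      by_cases hc : c = 0
      · subst hc
        rcases hall d hx with rfl | rfl
        · exact ⟨0, by apply Subtype.ext; apply Subtype.ext; simp [uS_zero]⟩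
        · refine ⟨(2 : ℕ), ?_⟩
          apply Subtype.ext; apply Subtype.ext
          simp [g0, sq, hsq]
      · have hca : c = a := by
          have e : th m (c / a) * (c / a) = 1 := by
            rw [th_div, div_mul_div_comm, hz c d hx hc, hz a b h ha, div_self hb00]
          exact (div_eq_one_iff_eq ha).mp (eq_one_of_th_mul hF e)
        subst hca
        have hq := mul_mem (inv_mem h) hx
        have hmul : (uS hF c b)⁻¹ * uS hF c d = uS hF 0 (b + d) := by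
          rw [uS_inv, uS_mul]
          congr 1
          · linear_combination c * h2
          · linear_combination (th m c * c) * h2
        rw [hmul] at hq
        rcases hall _ hq with hbd | hbd
        · refine ⟨(1 : ℕ), ?_⟩
          apply Subtype.ext; apply Subtype.ext
          have : d = b := by linear_combination hbd - b * h2
          simp [g0, this]
        · refine ⟨(3 : ℕ), ?_⟩
          apply Subtype.ext; apply Subtype.ext
          have hd : uS hF c d = uS hF c b * uS hF 0 b0 := by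
            rw [← hbd, ← hmul]; group
          simp [g0, pow_succ, hd, ← hsq, mul_assoc]
    · push Not at hex
      set g0 : P0 := ⟨i, 0, b0, rfl⟩
      refine ⟨g0, fun x => ?_⟩
      obtain ⟨⟨x, hx⟩, c, d, hcd⟩ := x
      change x = uS hF c d at hcd
      subst hcd
      show ∃ n : ℤ, g0 ^ n = _
      obtain rfl := hex c d hx
      rcases hall d hx with rfl | rfl
      · exact ⟨0, by apply Subtype.ext; apply Subtype.ext; simp [uS_zero]⟩
      · exact ⟨1, by apply Subtype.ext; apply Subtype.ext; simp [g0, hi]⟩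
  have hP0p : IsPGroup 2 P0 := (U_isPGroup hF).comap_of_injective M.subtype M.subtype_injective
  obtain ⟨P, hP⟩ := hP0p.exists_le_sylow
  have hPeq : (P : Subgroup M) = P0 := by
    refine le_antisymm (fun x hx => ?_) hP
    obtain ⟨g, hg⟩ := exists_conj_le_U hF hm (P.isPGroup'.map M.subtype)
    have hi' : g * uS hF 0 b0 * g⁻¹ ∈ U hF :=
      hg ⟨_, ⟨i, hP (show i ∈ P0 from ⟨0, b0, rfl⟩), rfl⟩, rfl⟩
    have hfix := conj_fix_inf hF (g := uS hF 0 b0) (x := g) ⟨0, b0, rfl⟩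
      (fun e => hb00 ((eq_one_iff_uS hF).mp e).2) hi'
    have hgN : g ∈ Subgroup.normalizer (U hF : Set ↥(Cfsg.Sz F m)) := by
      rw [normalizer_U hF hm]; exact hfix
    exact (Subgroup.mem_normalizer_iff.mp hgN x.1).mpr (hg ⟨_, ⟨x, hx, rfl⟩, rfl⟩)
  have hPc : IsCyclic (P : Subgroup M) := by rw [hPeq]; exact hcyc
  have h2dvd : 2 ∣ Nat.card M := by
    have hord : orderOf i = 2 := by
      refine orderOf_eq_prime ?_ (fun e => hb00 ((eq_one_iff_uS hF).mp (congrArg Subtype.val e)).2)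
      apply Subtype.ext
      simp [hi, sq, uS_sq, uS_zero, th_zero]
    exact hord ▸ orderOf_dvd_natCard i
  have hmin : (Nat.card M).minFac = 2 := (Nat.minFac_eq_two_iff _).mpr h2dvd
  have hNC := hPc.normalizer_le_centralizer hmin
  set N := (MonoidHom.transferSylow P hNC).ker with hN
  have hcompl := MonoidHom.ker_transferSylow_isComplement' P hNC
  have hodd : ¬ 2 ∣ Nat.card N := MonoidHom.not_dvd_card_ker_transferSylow P hNC
  by_cases hbot : N = ⊥
  · exfalso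
    obtain ⟨g, hg, hgne⟩ := hmove
    have htop : (P : Subgroup M) = ⊤ := by
      have := hcompl
      rw [← hN, hbot] at this
      exact Subgroup.isComplement'_bot_left.mp this
    have hgU : g ∈ U hF := (hPeq ▸ htop ▸ Subgroup.mem_top (⟨g, hg⟩ : M) : (⟨g, hg⟩ : M) ∈ P0)
    obtain ⟨a, b, rfl⟩ := hgU
    exact hgne (smul_uS_inf hF a b)
  · exact tri_of_odd_normal hF hm N hbot hodd

/-- The subgroup theorem. -/
theorem trichotomy (hm : 1 ≤ m) (M : Subgroup ↥(Cfsg.Sz F m)) : Tri hF hm M := by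
  classical
  haveI : Fact (Nat.Prime 2) := ⟨Nat.prime_two⟩
  by_cases hodd : ¬ 2 ∣ Nat.card M
  · exact tri_of_odd hF hm hodd
  push Not at hodd
  obtain ⟨i, hi⟩ := exists_prime_orderOf_dvd_card' 2 hodd
  have hi1 : (i : ↥(Cfsg.Sz F m)) ≠ 1 := by
    intro e
    rw [show i = 1 from Subtype.ext e, orderOf_one] at hi
    omega
  have hi2 : (i : ↥(Cfsg.Sz F m)) * i = 1 := by
    have := congrArg Subtype.val (pow_orderOf_eq_one i)
    rw [hi, sq] at this
    simpa using this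
  obtain ⟨-, k, hk⟩ := invol_unip hF hm hi1 hi2
  refine tri_of_conj hF hm k⁻¹ ?_
  set M1 := M.map (MulAut.conj k⁻¹).toMonoidHom with hM1
  have hiM : k⁻¹ * i.1 * k ∈ M1 := ⟨i.1, i.2, by simp⟩
  obtain ⟨b0, hb0⟩ := mem_Z_of_sq hF hk (by
    calc k⁻¹ * i.1 * k * (k⁻¹ * i.1 * k) = k⁻¹ * (i.1 * i.1) * k := by group
      _ = 1 := by rw [hi2]; group)
  have hb00 : b0 ≠ 0 := by
    rintro rfl
    rw [uS_zero] at hb0
    exact hi1 (by simpa [mul_assoc] using congrArg (fun v => k * v * k⁻¹) hb0)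
  have hb0M : uS hF 0 b0 ∈ M1 := hb0 ▸ hiM
  clear_value M1
  clear hiM hb0 hM1
  by_cases hmove : ∃ g ∈ M1, g • suzukiPointInfinity F ≠ suzukiPointInfinity F
  swap
  · push Not at hmove
    exact Or.inl ⟨_, inf_mem, hmove⟩
  by_cases hbig : ∃ b : F, uS hF 0 b ∈ M1 ∧ b ≠ 0 ∧ b ≠ b0
  swap
  · push Not at hbig
    refine tri_single hF hm hmove hb0M hb00 fun b hb => ?_
    by_cases h0 : b = 0
    · exact Or.inl h0
    · exact Or.inr (hbig b hb h0)
  obtain ⟨b1, hb1M, hb10, hb1ne⟩ := hbig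
  -- a generator of the diagonal part
  obtain ⟨τ, hτ⟩ := IsCyclic.exists_generator (α := diagPart hF M1)
  have hτ1 : (τ : Fˣ) ≠ 1 := by
    intro e
    obtain ⟨r, s, t, ht, he⟩ := center_fused hF hm hmove hb0M hb00 hb1M hb10
    have ht1 : t = 1 := by
      obtain ⟨n, hn⟩ := Subgroup.mem_zpowers_iff.mp (hτ ⟨t, r, s, ht⟩)
      have := congrArg Subtype.val hn
      simp [e] at this
      exact this.symm
    rw [ht1, Units.val_one, th_one, one_pow, one_mul, one_mul] at he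
    exact hb1ne he
  obtain ⟨r, s, hτM⟩ := τ.2
  obtain ⟨c, d, hcd⟩ := exists_conj_torus hF hm r s hτ1
  obtain ⟨u, hu⟩ := th_sq_surj hF (m := m) (inv_ne_zero hb00)
  set g := dS hF u * (uS hF c d)⁻¹ with hg
  refine tri_of_conj hF hm g ?_
  set M2 := M1.map (MulAut.conj g).toMonoidHom with hM2
  have hmem : ∀ x, x ∈ M2 ↔ g⁻¹ * x * g ∈ M1 := fun x => mem_map_conj_iff M1 g x
  have hginf : g • suzukiPointInfinity F = suzukiPointInfinity F := by
    rw [hg, mul_smul, inv_smul_eq_iff.mpr (smul_uS_inf hF c d).symm, smul_dS_inf]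
  have hgb : ∀ b : F, g * uS hF 0 b * g⁻¹ = uS hF 0 (b0⁻¹ * b) := by
    intro b
    calc g * uS hF 0 b * g⁻¹
        = dS hF u * (uS hF c (d + th m c * c) * uS hF 0 b * (uS hF c (d + th m c * c))⁻¹) *
            (dS hF u)⁻¹ := by rw [hg, uS_inv]; group
      _ = _ := by rw [uS_conj_uS, mul_zero, th_zero, zero_mul, add_zero, add_zero, dS_uS, mul_zero, hu]
  have hB : ∀ b : F, uS hF 0 (b0⁻¹ * b) ∈ M2 ↔ uS hF 0 b ∈ M1 := fun b => by
    rw [hmem, ← hgb b]
    constructor <;> intro h <;> simpa [mul_assoc] using h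
  refine tri_normalised hF hm ?_ ?_ ?_ ?_
  · obtain ⟨x, hx, hxne⟩ := hmove
    refine ⟨g * x * g⁻¹, ⟨x, hx, rfl⟩, fun h => hxne ?_⟩
    rw [mul_smul, mul_smul, inv_smul_eq_iff.mpr hginf.symm] at h
    exact MulAction.injective g (h.trans hginf.symm)
  · have := (hB b0).mpr hb0M
    rwa [inv_mul_cancel₀ hb00] at this
  · refine ⟨b0⁻¹ * b1, (hB b1).mpr hb1M, mul_ne_zero (inv_ne_zero hb00) hb10, fun h => hb1ne ?_⟩
    calc b1 = b0 * (b0⁻¹ * b1) := by rw [mul_inv_cancel_left₀ hb00]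
      _ = b0 := by rw [h, mul_one]
  · have hτ2 : dS hF (τ : Fˣ) ∈ M2 := by
      rw [hmem]
      have e : g⁻¹ * dS hF (τ : Fˣ) * g = uS hF r s * dS hF (τ : Fˣ) := by
        calc g⁻¹ * dS hF (τ : Fˣ) * g
            = uS hF c d * ((dS hF u)⁻¹ * dS hF (τ : Fˣ) * dS hF u) * (uS hF c d)⁻¹ := by
              rw [hg]; group
          _ = uS hF c d * dS hF (τ : Fˣ) * (uS hF c d)⁻¹ := by
              rw [dS_inv, dS_mul, dS_mul, mul_comm u⁻¹, inv_mul_cancel_right]
          _ = _ := hcd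
      rw [e]; exact hτM
    rintro t ⟨r', s', ht⟩
    -- the diagonal part is unchanged
    have htM1 : t ∈ diagPart hF M1 := by
      rw [hmem] at ht
      have hfix : (g⁻¹ * (uS hF r' s' * dS hF t) * g) • suzukiPointInfinity F =
          suzukiPointInfinity F := by
        rw [mul_smul, mul_smul, hginf, mul_smul, smul_dS_inf, smul_uS_inf,
          inv_smul_eq_iff.mpr hginf.symm]
      obtain ⟨a, b, t', he⟩ := (mem_stabInf_iff hF hm).mp hfix
      have hcc : t' = t := by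
        have e1 := congrArg (fun x => x * uS hF 0 1 * x⁻¹) he
        beta_reduce at e1
        have e2 : g⁻¹ * (uS hF r' s' * dS hF t) * g * uS hF 0 1 *
            (g⁻¹ * (uS hF r' s' * dS hF t) * g)⁻¹ =
            g⁻¹ * (uS hF r' s' * dS hF t * (g * uS hF 0 1 * g⁻¹) *
              (uS hF r' s' * dS hF t)⁻¹) * g := by group
        rw [e2, hgb, conj_uS_zero, conj_uS_zero] at e1
        have e3 := congrArg (fun x => g * x * g⁻¹) e1
        beta_reduce at e3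
        rw [hgb] at e3
        have e4 : g * (g⁻¹ * uS hF 0 (th m (t : F) * (t : F) ^ 2 * (b0⁻¹ * 1)) * g) * g⁻¹ =
            uS hF 0 (th m (t : F) * (t : F) ^ 2 * (b0⁻¹ * 1)) := by group
        rw [e4] at e3
        have e5 := (uS_inj hF e3).2
        have ht0 : th m (t' : F) * (t' : F) ^ 2 ≠ 0 :=
          mul_ne_zero (fun h => t'.ne_zero (th_eq_zero_iff.mp h)) (pow_ne_zero _ t'.ne_zero)
        have e6 : th m (t : F) * (t : F) ^ 2 = th m (t' : F) * (t' : F) ^ 2 :=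
          mul_right_cancel₀ (inv_ne_zero hb00) (by linear_combination e5)
        have : (t : F) / t' = 1 := eq_one_of_th_sq hF (m := m)
          (by rw [th_div, div_pow, div_mul_div_comm, e6, div_self ht0])
        exact (Units.ext ((div_eq_one_iff_eq t'.ne_zero).mp this)).symm
      exact ⟨a, b, hcc ▸ he ▸ ht⟩
    obtain ⟨n, hn⟩ := Subgroup.mem_zpowers_iff.mp (hτ ⟨t, htM1⟩)
    have hn' : (τ : Fˣ) ^ n = t := by simpa using congrArg Subtype.val hn
    have : dS hF t = dS hF (τ : Fˣ) ^ n := by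
      rw [← hn']
      exact map_zpow (dHomS hF) (τ : Fˣ) n
    rw [this]
    exact zpow_mem hτ2 n

end CfsgLib.Suzuki
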