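/-
Consequences of the subgroup theorem for the Suzuki groups.
-/
import Mathlib
import Cfsg.Prelude.Def_LieExceptional
import Cfsg.Agent.Lib.Suzuki.Subgroups

namespace CfsgLib.Suzuki

open Cfsg
open scoped Pointwise

variable {F : Type*} [Field F] [Fintype F] {m : ℕ} (hF : Fintype.card F = 2 ^ (2 * m + 1))
include hF

theorem fix_le_sylow_normalizer (hm : 1 ≤ m) {M : Subgroup ↥(Cfsg.Sz F m)}
    {p : Projectivization F (Fin 4 → F)} (hp : p ∈ suzukiOvoid F m) (hfix : ∀ g ∈ M, g • p = p) :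
    ∃ P : Sylow 2 ↥(Cfsg.Sz F m),
      M ≤ Subgroup.normalizer ((P : Subgroup ↥(Cfsg.Sz F m)) : Set ↥(Cfsg.Sz F m)) := by
  haveI : Fact (Nat.Prime 2) := ⟨Nat.prime_two⟩
  obtain ⟨g, hg⟩ := exists_to_inf hF hp
  refine ⟨g⁻¹ • Usyl hF hm, fun x hx => ?_⟩
  have hy : g * x * g⁻¹ ∈ Subgroup.normalizer (U hF : Set ↥(Cfsg.Sz F m)) := by
    rw [normalizer_U hF hm, MulAction.mem_stabilizer_iff, mul_smul, mul_smul,
      inv_smul_eq_iff.mpr hg.symm, hfix x hx, hg]
  have hcoe : ((g⁻¹ • Usyl hF hm : Sylow 2 ↥(Cfsg.Sz F m)) : Subgroup ↥(Cfsg.Sz F m)) =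
      (U hF).map (MulAut.conj g⁻¹).toMonoidHom := by
    rw [Sylow.coe_subgroup_smul, coe_Usyl]; rfl
  rw [hcoe, ← Subgroup.map_equiv_normalizer_eq]
  exact ⟨g * x * g⁻¹, hy, by simp [mul_assoc]⟩

theorem eq_top_of_subGp (hm : 1 ≤ m) (g : ↥(Cfsg.Sz F m)) :
    (subGp hF hm m).map (MulAut.conj g).toMonoidHom = ⊤ := by
  apply Subgroup.eq_top_of_card_eq
  rw [card_map_conj, card_subGp hF hm hm dvd_rfl, card_Sz hF hm]

theorem subfield_lt (hm : 1 ≤ m) {M : Subgroup ↥(Cfsg.Sz F m)} (hM : M ≠ ⊤) {k : ℕ}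
    {g : ↥(Cfsg.Sz F m)} (hdiv : 2 * k + 1 ∣ 2 * m + 1)
    (h : M = (subGp hF hm k).map (MulAut.conj g).toMonoidHom) : k < m := by
  rcases Nat.lt_or_ge k m with h' | h'
  · exact h'
  · exfalso
    obtain rfl : k = m := by
      have := Nat.le_of_dvd (by omega) hdiv
      omega
    exact hM (h.trans (eq_top_of_subGp hF hm g))

theorem not_fix_of_simple (hm : 1 ≤ m) {S : Subgroup ↥(Cfsg.Sz F m)} (hperf : commutator S = ⊤)
    (hnt : Nontrivial S) {p : Projectivization F (Fin 4 → F)} (hp : p ∈ suzukiOvoid F m) :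
    ¬ ∀ g ∈ S, g • p = p := by
  intro hfix
  haveI : Fact (Nat.Prime 2) := ⟨Nat.prime_two⟩
  obtain ⟨g, hg⟩ := exists_to_inf hF hp
  have hstab : ∀ x ∈ S, (g * x * g⁻¹) • suzukiPointInfinity F = suzukiPointInfinity F := by
    intro x hx
    rw [mul_smul, mul_smul, inv_smul_eq_iff.mpr hg.symm, hfix x hx, hg]
  -- so all of `S` is conjugate into `U`
  let f : S →* ↥(Cfsg.Sz F m) := (MulAut.conj g).toMonoidHom.comp S.subtype
  have hle : commutator S ≤ (U hF).comap f := by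
    rw [commutator_def, Subgroup.commutator_le]
    intro x _ y _
    show f (x * y * x⁻¹ * y⁻¹) ∈ U hF
    rw [map_mul, map_mul, map_mul, map_inv, map_inv]
    exact commutator_mem_U hF hm (hstab x.1 x.2) (hstab y.1 y.2)
  rw [hperf] at hle
  have hinj : Function.Injective f := (MulAut.conj g).injective.comp S.subtype_injective
  have hpS : IsPGroup 2 S :=
    ((U_isPGroup hF).comap_of_injective f hinj).to_le hle |>.of_equiv Subgroup.topEquiv
  haveI := hpS.isNilpotent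
  exact (Group.IsSolvable.commutator_lt_top_of_nontrivial (G := S)).ne hperf

theorem not_le_torus_normalizer (hm : 1 ≤ m) {S : Subgroup ↥(Cfsg.Sz F m)}
    (hperf : commutator S = ⊤) [IsSimpleGroup S] (h5 : 5 ≤ Nat.card S)
    {z : ↥(Cfsg.Sz F m)} (hz : SS hF z) :
    ¬ S ≤ Subgroup.normalizer
      (Subgroup.centralizer ({z} : Set ↥(Cfsg.Sz F m)) : Set ↥(Cfsg.Sz F m)) := by
  intro hle
  obtain ⟨c, hc, hcyc, -, hN⟩ := ss_data hF hm hz
  set C := Subgroup.centralizer ({z} : Set ↥(Cfsg.Sz F m))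
  set N := Subgroup.normalizer (C : Set ↥(Cfsg.Sz F m))
  haveI : (C.subgroupOf S).Normal :=
    ⟨fun x hx y => (Subgroup.mem_normalizer_iff.mp (hle y.2) x.1).mp hx⟩
  rcases Subgroup.Normal.eq_bot_or_eq_top (H := C.subgroupOf S) inferInstance with h | h
  · let f : S → N ⧸ C.subgroupOf N := fun x => QuotientGroup.mk ⟨x.1, hle x.2⟩
    have hf : Function.Injective f := by
      intro x y hxy
      have h0 : (⟨x.1, hle x.2⟩ : N)⁻¹ * ⟨y.1, hle y.2⟩ ∈ C.subgroupOf N := QuotientGroup.eq.mp hxy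
      have h1 : x⁻¹ * y ∈ C.subgroupOf S := h0
      rw [h, Subgroup.mem_bot] at h1
      exact inv_mul_eq_one.mp h1
    have h1 := Nat.card_le_card_of_injective f hf
    rw [← Subgroup.index_eq_card] at h1
    have h2 := (C.subgroupOf N).card_mul_index
    rw [Nat.card_congr (Subgroup.subgroupOfEquivOfLe Subgroup.le_normalizer).toEquiv, hN,
      mul_comm c] at h2
    have := Nat.eq_of_mul_eq_mul_left Nat.card_pos h2
    omega
  · letI : CommGroup C := IsCyclic.commGroup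
    have hSC : ∀ x : S, x.1 ∈ C := fun x => (h ▸ Subgroup.mem_top x : x ∈ C.subgroupOf S)
    have hbot : commutator S = ⊥ := by
      rw [commutator_def, Subgroup.commutator_eq_bot_iff_le_centralizer]
      intro x _
      rw [Subgroup.mem_centralizer_iff]
      intro y _
      apply Subtype.ext
      exact congrArg (fun v : C => (v : ↥(Cfsg.Sz F m))) (mul_comm (⟨y.1, hSC y⟩ : C) ⟨x.1, hSC x⟩)
    rw [hperf] at hbot
    exact top_ne_bot hbot

omit [Fintype F] hF in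
theorem pow_card_mono {a b : ℕ} (h : a < b) :
    (2 ^ (2 * a + 1)) ^ 2 * ((2 ^ (2 * a + 1)) ^ 2 + 1) * (2 ^ (2 * a + 1) - 1) <
      (2 ^ (2 * b + 1)) ^ 2 * ((2 ^ (2 * b + 1)) ^ 2 + 1) * (2 ^ (2 * b + 1) - 1) := by
  have hlt : 2 ^ (2 * a + 1) < 2 ^ (2 * b + 1) := Nat.pow_lt_pow_right (by norm_num) (by omega)
  have h1 : 1 ≤ 2 ^ (2 * a + 1) := Nat.one_le_two_pow
  exact Nat.mul_lt_mul_of_le_of_lt (Nat.mul_le_mul (Nat.pow_le_pow_left hlt.le 2)
    (Nat.add_le_add_right (Nat.pow_le_pow_left hlt.le 2) 1)) (by omega) (by positivity)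

/-- Every copy of a smaller Suzuki group is conjugate to the subfield subgroup. -/
theorem copy_conj (hm : 1 ≤ m) {K : Type*} [Field K] [Fintype K] {k : ℕ} (hk : 1 ≤ k)
    (hK : Fintype.card K = 2 ^ (2 * k + 1)) (S : Subgroup ↥(Cfsg.Sz F m))
    (e : ↥S ≃* ↥(Cfsg.Sz K k)) :
    ∃ g, S = (subGp hF hm k).map (MulAut.conj g).toMonoidHom := by
  haveI : IsSimpleGroup ↥(Cfsg.Sz K k) := isSimple hK hk
  haveI : IsSimpleGroup S := e.isSimpleGroup
  have hperf : commutator S = ⊤ := by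
    apply Subgroup.map_injective (f := e.toMonoidHom) e.injective
    rw [commutator_def, Subgroup.map_commutator, Subgroup.map_top_of_surjective _ e.surjective,
      ← commutator_def, perfect hK hk]
  have hcard : Nat.card S = (2 ^ (2 * k + 1)) ^ 2 * ((2 ^ (2 * k + 1)) ^ 2 + 1) *
      (2 ^ (2 * k + 1) - 1) := by rw [Nat.card_congr e.toEquiv, card_Sz hK hk]
  have h5 : 5 ≤ Nat.card S := by
    rw [hcard]
    have h8 : 8 ≤ 2 ^ (2 * k + 1) := by
      calc 8 = 2 ^ 3 := by norm_num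
        _ ≤ _ := Nat.pow_le_pow_right (by norm_num) (by omega)
    calc 5 ≤ 8 ^ 2 * 1 * 1 := by norm_num
      _ ≤ _ := Nat.mul_le_mul (Nat.mul_le_mul (Nat.pow_le_pow_left h8 2) (by omega)) (by omega)
  rcases trichotomy hF hm S with ⟨p, hp, hfix⟩ | ⟨z, hz, hle⟩ | ⟨j, g, hj, hjdiv, heq⟩
  · exact absurd hfix (not_fix_of_simple hF hm hperf inferInstance hp)
  · exact absurd hle (not_le_torus_normalizer hF hm hperf h5 hz)
  · refine ⟨g, ?_⟩
    suffices j = k by rw [← this]; exact heq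
    have hc := congrArg (fun H : Subgroup ↥(Cfsg.Sz F m) => Nat.card H) heq
    beta_reduce at hc
    rw [hcard, card_map_conj, card_subGp hF hm hj hjdiv] at hc
    rcases lt_trichotomy j k with h | h | h
    · exact absurd hc.symm (pow_card_mono h).ne
    · exact h
    · exact absurd hc (pow_card_mono h).ne

end CfsgLib.Suzuki
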