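/-
Transitive actions of the Suzuki groups in which non-trivial elements fix at most two points.
-/
import Mathlib
import Cfsg.Prelude.Def_LieExceptional
import Cfsg.Agent.Lib.Suzuki.Maximal

namespace CfsgLib.Suzuki

open Cfsg
open scoped Pointwise

section General

variable {G : Type*} [Group G]

/-- Two points of coset fixity, in relative index form. -/
def CosetFix2 (H : Subgroup G) : Prop :=
  ∀ h ∈ H, h ≠ 1 → ∀ S : Subgroup G, (∀ x ∈ S, x⁻¹ * h * x ∈ H) → H.relIndex S ≤ 2

theorem cosetFix2_of_action [Finite G] {Ω : Type*} [Finite Ω] [MulAction G Ω]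
    (hfix : ∀ g : G, g ≠ 1 → Nat.card (MulAction.fixedBy Ω g) ≤ 2) (α : Ω) :
    CosetFix2 (MulAction.stabilizer G α) := by
  intro h hh h1 S hS
  classical
  let f : S ⧸ (MulAction.stabilizer G α).subgroupOf S → MulAction.fixedBy Ω h :=
    Quotient.lift (fun x : S => ⟨x.1 • α, by
      have := hS x.1 x.2
      rw [MulAction.mem_stabilizer_iff, mul_smul, mul_smul, inv_smul_eq_iff] at this
      exact this⟩) (by
      intro x y hxy
      have h0 : x⁻¹ * y ∈ (MulAction.stabilizer G α).subgroupOf S :=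
        QuotientGroup.leftRel_apply.mp hxy
      have h' : x.1⁻¹ * y.1 ∈ MulAction.stabilizer G α := h0
      rw [MulAction.mem_stabilizer_iff, mul_smul, inv_smul_eq_iff] at h'
      exact Subtype.ext h'.symm)
  have hf : Function.Injective f := by
    intro a b
    induction a using QuotientGroup.induction_on with
    | H x =>
      induction b using QuotientGroup.induction_on with
      | H y =>
        intro hxy
        have h' : x.1 • α = y.1 • α := congrArg Subtype.val hxy
        refine QuotientGroup.eq.mpr ?_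
        show x.1⁻¹ * y.1 ∈ MulAction.stabilizer G α
        rw [MulAction.mem_stabilizer_iff, mul_smul, ← h', inv_smul_smul]
  exact (Nat.card_le_card_of_injective f hf).trans (hfix h h1)

theorem CosetFix2.map {G' : Type*} [Group G'] {H : Subgroup G} (hH : CosetFix2 H) (e : G ≃* G') :
    CosetFix2 (H.map e.toMonoidHom) := by
  rintro _ ⟨h, hh, rfl⟩ h1 S hS
  have := hH h hh (fun e' => h1 (by rw [e', map_one])) (S.comap e.toMonoidHom) (fun x hx => by
    obtain ⟨y, hy, hye⟩ := hS _ hx
    have : y = x⁻¹ * h * x := e.injective (by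
      have h' : e y = (e x)⁻¹ * e h * e x := hye
      rw [h', map_mul, map_mul, map_inv])
    rw [← this]; exact hy)
  rwa [← Subgroup.relIndex_map_map_of_injective H (S.comap e.toMonoidHom) (f := e.toMonoidHom) e.injective,
    Subgroup.map_comap_eq_self_of_surjective e.surjective] at this

theorem relIndex_ne_zero_fin [Finite G] (H K : Subgroup G) : H.relIndex K ≠ 0 :=
  Subgroup.index_ne_zero_of_finite

theorem card_normalizer_conj {G : Type*} [Group G] (H : Subgroup G) (k : G) :
    Nat.card (Subgroup.normalizer (H.map (MulAut.conj k).toMonoidHom : Set G)) =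
      Nat.card (Subgroup.normalizer (H : Set G)) := by
  rw [← Subgroup.map_equiv_normalizer_eq, card_map_conj]

end General

variable {F : Type*} [Field F] [Fintype F] {m : ℕ} (hF : Fintype.card F = 2 ^ (2 * m + 1))
include hF

omit [Fintype F] hF in
theorem centralizer_conj {G : Type*} [Group G] (h k : G) :
    Subgroup.centralizer ({k * h * k⁻¹} : Set G) =
      (Subgroup.centralizer ({h} : Set G)).map (MulAut.conj k).toMonoidHom := by
  ext y
  rw [mem_map_conj_iff, Subgroup.mem_centralizer_singleton_iff,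
    Subgroup.mem_centralizer_singleton_iff]
  constructor
  · intro e
    calc k⁻¹ * y * k * h = k⁻¹ * (y * (k * h * k⁻¹)) * k := by group
      _ = k⁻¹ * (k * h * k⁻¹ * y) * k := by rw [e]
      _ = h * (k⁻¹ * y * k) := by group
  · intro e
    calc y * (k * h * k⁻¹) = k * (k⁻¹ * y * k * h) * k⁻¹ := by group
      _ = k * (h * (k⁻¹ * y * k)) * k⁻¹ := by rw [e]
      _ = k * h * k⁻¹ * y := by group

theorem centralizer_conj_torus (hm : 1 ≤ m) {t : Fˣ} (ht : t ≠ 1) (a b : F) :
    Nat.card (Subgroup.centralizer ({uS hF a b * dS hF t} : Set ↥(Cfsg.Sz F m))) =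
      2 ^ (2 * m + 1) - 1 := by
  obtain ⟨c, d, hcd⟩ := exists_conj_torus hF hm a b ht
  rw [← hcd, centralizer_conj, card_map_conj, centralizer_torus hF hm ht, card_T]

/-- A torus has normaliser index `2` exactly when it is split. -/
theorem ss_index_two (hm : 1 ≤ m) {z : ↥(Cfsg.Sz F m)} (hz : SS hF z)
    (h : Nat.card (Subgroup.normalizer
      (Subgroup.centralizer ({z} : Set ↥(Cfsg.Sz F m)) : Set ↥(Cfsg.Sz F m))) ≤
      2 * Nat.card (Subgroup.centralizer ({z} : Set ↥(Cfsg.Sz F m)))) :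
    Nat.card (Subgroup.centralizer ({z} : Set ↥(Cfsg.Sz F m))) = 2 ^ (2 * m + 1) - 1 := by
  obtain ⟨Ap, Am, -, hAp, up, np, -, hAm, um, nm, hall⟩ := classify hF hm
  have key : ∀ A : Subgroup ↥(Cfsg.Sz F m),
      (∀ u ∈ A, u ≠ 1 → Subgroup.centralizer ({u} : Set ↥(Cfsg.Sz F m)) = A) →
      Nat.card (Subgroup.normalizer (A : Set ↥(Cfsg.Sz F m))) = 4 * Nat.card A →
      z ∈ conjSet A → False := by
    rintro A hA hN ⟨hz1, k, hk⟩
    have e : Subgroup.centralizer ({z} : Set ↥(Cfsg.Sz F m)) = A.map (MulAut.conj k).toMonoidHom := by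
      rw [← hA _ hk (fun e => hz1 (by
        simpa [mul_assoc] using congrArg (fun v => k * v * k⁻¹) e)), ← centralizer_conj]
      congr 2
      group
    rw [e, card_normalizer_conj, card_map_conj, hN] at h
    have := Nat.card_pos (α := A)
    omega
  rcases hall z hz.1 with h' | h' | h' | h'
  · exact absurd h' hz.2
  · obtain ⟨hz1, k, hk⟩ := h'
    obtain ⟨t, ht⟩ := (mem_T hF).mp hk
    have ht1 : t ≠ 1 := fun e => hz1 (by
      rw [e, dS_one] at ht
      simpa [mul_assoc] using congrArg (fun v => k * v * k⁻¹) ht)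
    have e : z = k * dS hF t * k⁻¹ := by rw [← ht]; group
    rw [e, centralizer_conj, card_map_conj, centralizer_torus hF hm ht1, card_T]
  · exact absurd h' (fun h'' => key Ap up (by rw [np, hAp]) h'')
  · exact absurd h' (fun h'' => key Am um (by rw [nm, hAm]) h'')

theorem ss_centralizer_le (hm : 1 ≤ m) {H : Subgroup ↥(Cfsg.Sz F m)} (hH : CosetFix2 H)
    {h : ↥(Cfsg.Sz F m)} (hh : h ∈ H) (hs : SS hF h) :
    Subgroup.centralizer ({h} : Set ↥(Cfsg.Sz F m)) ≤ H := by
  have h2 := hH h hh hs.1 (Subgroup.centralizer ({h} : Set ↥(Cfsg.Sz F m))) (fun x hx => by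
    rw [Subgroup.mem_centralizer_singleton_iff] at hx
    rwa [mul_assoc, ← hx, inv_mul_cancel_left])
  obtain ⟨c, -, -, hord, -⟩ := ss_data hF hm hs
  have hodd := (torusOrder_props hF hm hord).2.2.1
  have hdvd := H.relIndex_dvd_card (K := Subgroup.centralizer ({h} : Set ↥(Cfsg.Sz F m)))
  rw [← Subgroup.relIndex_eq_one]
  rcases Nat.le_one_iff_eq_zero_or_eq_one.mp (show H.relIndex (Subgroup.centralizer
      ({h} : Set ↥(Cfsg.Sz F m))) ≤ 1 by
    by_contra hc
    have h3 : H.relIndex (Subgroup.centralizer ({h} : Set ↥(Cfsg.Sz F m))) = 2 := by omega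
    rw [h3] at hdvd
    exact hodd hdvd) with h0 | h0
  · exact absurd h0 (relIndex_ne_zero_fin _ _)
  · exact h0

theorem invol_mem_Z (hm : 1 ≤ m) {i : ↥(Cfsg.Sz F m)} (h1 : i ≠ 1) (h2 : i * i = 1)
    (hfix : i • suzukiPointInfinity F = suzukiPointInfinity F) : i ∈ Z hF := by
  refine mem_Z_of_sq hF ?_ h2
  obtain ⟨a, b, t, rfl⟩ := (mem_stabInf_iff hF hm).mp hfix
  by_cases ht : t = 1
  · exact ⟨a, b, by rw [ht, dS_one, mul_one]⟩
  · exfalso
    obtain ⟨c, d, hcd⟩ := exists_conj_torus hF hm a b ht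
    refine disjoint_conjSet hF (invol_unip hF hm h1 h2) ⟨h1, uS hF c d, (mem_T hF).mpr ⟨t, ?_⟩⟩
    rw [← hcd]; group

theorem U_le_centralizer (b : F) :
    U hF ≤ Subgroup.centralizer ({uS hF 0 b} : Set ↥(Cfsg.Sz F m)) := by
  rintro _ ⟨r, s, rfl⟩
  rw [Subgroup.mem_centralizer_singleton_iff, ← mul_inv_eq_iff_eq_mul, uS_conj_uS]
  simp

/-- Stabilisers inside the Borel subgroup. -/
theorem fixity_inf (hm : 1 ≤ m) {H : Subgroup ↥(Cfsg.Sz F m)} (hne : H ≠ ⊥) (hH : CosetFix2 H)
    (hle : H ≤ MulAction.stabilizer ↥(Cfsg.Sz F m) (suzukiPointInfinity F)) :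
    Nat.card H = 2 ^ (2 * m + 1) - 1 ∨
      H = MulAction.stabilizer ↥(Cfsg.Sz F m) (suzukiPointInfinity F) := by
  classical
  haveI : Fact (Nat.Prime 2) := ⟨Nat.prime_two⟩
  set B := MulAction.stabilizer ↥(Cfsg.Sz F m) (suzukiPointInfinity F) with hB
  by_cases heven : 2 ∣ Nat.card H
  · right
    obtain ⟨i, hi⟩ := exists_prime_orderOf_dvd_card' 2 heven
    have hi1 : (i : ↥(Cfsg.Sz F m)) ≠ 1 := by
      intro e
      rw [show i = 1 from Subtype.ext e, orderOf_one] at hi
      omega
    have hi2 : (i : ↥(Cfsg.Sz F m)) * i = 1 := by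
      have := congrArg Subtype.val (pow_orderOf_eq_one i)
      rw [hi, sq] at this
      simpa using this
    obtain ⟨b0, hb0⟩ := invol_mem_Z hF hm hi1 hi2 (hle i.2)
    have hb0H : uS hF 0 b0 ∈ H := hb0 ▸ i.2
    have hne0 : uS hF 0 b0 ≠ 1 := hb0 ▸ hi1
    have hU2 : H.relIndex (U hF) ≤ 2 := hH _ hb0H hne0 (U hF) (fun x hx => by
      have h := U_le_centralizer hF b0 hx
      rw [Subgroup.mem_centralizer_singleton_iff] at h
      rwa [mul_assoc, ← h, inv_mul_cancel_left])
    have hsqmem : ∀ S : Subgroup ↥(Cfsg.Sz F m), H.relIndex S ≤ 2 → ∀ x ∈ S, x * x ∈ H := by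
      intro S hS x hx
      have h0 : H.relIndex S ≠ 0 := (relIndex_ne_zero_fin _ _)
      rcases (show H.relIndex S = 1 ∨ H.relIndex S = 2 by omega) with h | h
      · exact mul_mem (Subgroup.relIndex_eq_one.mp h hx) (Subgroup.relIndex_eq_one.mp h hx)
      · exact Subgroup.mul_self_mem_of_index_two (H := H.subgroupOf S) h ⟨x, hx⟩
    have hZH : ∀ b : F, uS hF 0 b ∈ H := by
      intro b
      by_cases hb : b = 0
      · rw [hb, uS_zero]; exact one_mem H
      obtain ⟨t, ht⟩ := th_mul_surj hF (m := m) hb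
      have := hsqmem _ hU2 _ (⟨(t : F), 0, rfl⟩ : uS hF (t : F) 0 ∈ U hF)
      rwa [uS_sq, ht] at this
    have hB2 : H.relIndex B ≤ 2 := hH _ hb0H hne0 B (fun x hx => by
      obtain ⟨r, s, t, hxe⟩ := (mem_stabInf_iff hF hm).mp (inv_mem hx : x⁻¹ ∈ B)
      have e : x⁻¹ * uS hF 0 b0 * x = x⁻¹ * uS hF 0 b0 * (x⁻¹)⁻¹ := by rw [inv_inv]
      rw [e, hxe, conj_uS_zero]
      exact hZH _)
    have hT : ∀ t : Fˣ, dS hF t ∈ H := by
      intro t
      have hodd : Odd (Fintype.card Fˣ) := by
        rw [Fintype.card_units, hF]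
        exact Nat.Even.sub_odd Nat.one_le_two_pow (Nat.even_pow.mpr ⟨even_two, by omega⟩) odd_one
      obtain ⟨j, hj⟩ := hodd
      have hs : t ^ (j + 1) * t ^ (j + 1) = t := by
        rw [← pow_add, show j + 1 + (j + 1) = Fintype.card Fˣ + 1 by omega, pow_succ, pow_card_eq_one,
          one_mul]
      have := hsqmem B hB2 (dS hF (t ^ (j + 1))) (smul_dS_inf hF _)
      rwa [dS_mul, hs] at this
    have hnorm : ∀ x ∈ B, ∀ y ∈ H, x * y * x⁻¹ ∈ H := by
      intro x hx y hy
      have h0 : H.relIndex B ≠ 0 := (relIndex_ne_zero_fin _ _)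
      haveI : (H.subgroupOf B).Normal := by
        rcases (show H.relIndex B = 1 ∨ H.relIndex B = 2 by omega) with h | h
        · have : H.subgroupOf B = ⊤ := Subgroup.index_eq_one.mp h
          rw [this]; infer_instance
        · exact Subgroup.normal_of_index_eq_two h
      exact Subgroup.Normal.conj_mem (H := H.subgroupOf B) inferInstance ⟨y, hle hy⟩ hy ⟨x, hx⟩
    obtain ⟨t0, ht0, ht01⟩ := exists_not_zero_one hF hm
    have ht : Units.mk0 t0 ht0 ≠ 1 := fun e => ht01 (congrArg Units.val e)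
    refine le_antisymm hle fun x hx => ?_
    obtain ⟨a, b, t, rfl⟩ := (mem_stabInf_iff hF hm).mp hx
    obtain ⟨c, d, hcd⟩ := exists_conj_torus hF hm a b ht
    have h1 := hnorm _ (smul_uS_inf hF c d) _ (hT (Units.mk0 t0 ht0))
    rw [hcd] at h1
    have h2 := mul_mem (mul_mem h1 (inv_mem (hT (Units.mk0 t0 ht0)))) (hT t)
    rwa [mul_inv_cancel_right] at h2
  · left
    have hss : ∀ h ∈ H, h ≠ 1 → SS hF h := by
      intro h hh h1
      refine ⟨h1, fun hU => h1 (orderOf_eq_one_iff.mp ?_)⟩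
      have hd := orderOf_dvd_of_conjSet _ hU
      rw [card_U, ← pow_mul] at hd
      refine Nat.eq_one_of_dvd_coprimes ?_ hd (Subgroup.orderOf_dvd_natCard H hh)
      exact Nat.Coprime.pow_left _ (Nat.prime_two.coprime_iff_not_dvd.mpr heven)
    have hform : ∀ h : H, ∃ (a b : F) (t : Fˣ), h.1 = uS hF a b * dS hF t := fun h =>
      (mem_stabInf_iff hF hm).mp (hle h.2)
    choose fa fb ft hfe using hform
    have hinj : Function.Injective ft := by
      intro h h' e
      have hU : h.1 * h'.1⁻¹ ∈ U hF := ⟨_, _, by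
        rw [hfe h, hfe h', e, _root_.mul_inv_rev, ← mul_assoc, mul_inv_cancel_right, uS_inv, uS_mul]⟩
      by_contra hne'
      have h1 : h.1 * h'.1⁻¹ ≠ 1 := fun e' => hne' (Subtype.ext (mul_inv_eq_one.mp e'))
      exact (hss _ (mul_mem h.2 (inv_mem h'.2)) h1).2 ⟨h1, 1, by simpa using hU⟩
    apply le_antisymm
    · refine (Nat.card_le_card_of_injective ft hinj).trans ?_
      rw [Nat.card_eq_fintype_card, Fintype.card_units, hF]
    · obtain ⟨h, h1⟩ := Subgroup.ne_bot_iff_exists_ne_one.mp hne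
      have ht : ft h ≠ 1 := fun e => h1 (hinj (e.trans (by
        have h' := hfe 1
        rw [show ((1 : H) : ↥(Cfsg.Sz F m)) = uS hF 0 0 * dS hF 1 by
          rw [uS_zero, dS_one, mul_one]; rfl] at h'
        exact (form_injective hF h').2.2)))
      have hle' := Subgroup.card_le_of_le
        (ss_centralizer_le hF hm hH h.2 (hss _ h.2 (fun e => h1 (Subtype.ext e))))
      rwa [hfe h, centralizer_conj_torus hF hm ht] at hle'

/-- Point stabilisers of fixity-two actions. -/
theorem fixity_stab (hm : 1 ≤ m) {H : Subgroup ↥(Cfsg.Sz F m)} (hne : H ≠ ⊥) (hne' : H ≠ ⊤)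
    (hH : CosetFix2 H) : Nat.card H = 2 ^ (2 * m + 1) - 1 ∨
      ∃ p ∈ suzukiOvoid F m, H = MulAction.stabilizer ↥(Cfsg.Sz F m) p := by
  haveI : Fact (Nat.Prime 2) := ⟨Nat.prime_two⟩
  rcases trichotomy hF hm H with ⟨p, hp, hfix⟩ | ⟨z, hz, hle⟩ | ⟨k, g, hk, hdiv, heq⟩
  · obtain ⟨g, hg⟩ := exists_to_inf hF hp
    set H' := H.map (MulAut.conj g).toMonoidHom with hH'
    have hle : H' ≤ MulAction.stabilizer ↥(Cfsg.Sz F m) (suzukiPointInfinity F) := by
      rintro _ ⟨x, hx, rfl⟩
      show (g * x * g⁻¹) • suzukiPointInfinity F = suzukiPointInfinity F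
      rw [mul_smul, mul_smul, inv_smul_eq_iff.mpr hg.symm, hfix x hx, hg]
    rcases fixity_inf hF hm (H := H')
        (fun e => hne ((Subgroup.map_eq_bot_iff_of_injective H (MulAut.conj g).injective).mp e))
        (hH.map (MulAut.conj g)) hle with h | h
    · left; rwa [hH', card_map_conj] at h
    · right
      refine ⟨p, hp, le_antisymm (fun x hx => hfix x hx) fun x hx => ?_⟩
      have : g * x * g⁻¹ ∈ H' := by
        rw [h]
        show (g * x * g⁻¹) • suzukiPointInfinity F = suzukiPointInfinity F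
        rw [mul_smul, mul_smul, inv_smul_eq_iff.mpr hg.symm, MulAction.mem_stabilizer_iff.mp hx, hg]
      obtain ⟨y, hy, hye⟩ := this
      have : y = x := (MulAut.conj g).injective hye
      exact this ▸ hy
  · left
    obtain ⟨c, hc, hcyc, hord, hN⟩ := ss_data hF hm hz
    set C := Subgroup.centralizer ({z} : Set ↥(Cfsg.Sz F m)) with hC
    set N := Subgroup.normalizer (C : Set ↥(Cfsg.Sz F m)) with hNdef
    have hodd : ¬ 2 ∣ Nat.card H := by
      intro h2
      obtain ⟨i, hi⟩ := exists_prime_orderOf_dvd_card' 2 h2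
      have hi1 : (i : ↥(Cfsg.Sz F m)) ≠ 1 := by
        intro e
        rw [show i = 1 from Subtype.ext e, orderOf_one] at hi
        omega
      have hi2 : (i : ↥(Cfsg.Sz F m)) * i = 1 := by
        have := congrArg Subtype.val (pow_orderOf_eq_one i)
        rw [hi, sq] at this
        simpa using this
      obtain ⟨-, k, hk⟩ := invol_unip hF hm hi1 hi2
      obtain ⟨b0, hb0⟩ := mem_Z_of_sq hF hk (by
        calc k⁻¹ * i.1 * k * (k⁻¹ * i.1 * k) = k⁻¹ * (i.1 * i.1) * k := by group
          _ = 1 := by rw [hi2]; group)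
      set S := (U hF).map (MulAut.conj k).toMonoidHom with hS
      have hS2 := hH i.1 i.2 hi1 S (by
        rintro _ ⟨u, hu, rfl⟩
        have h := U_le_centralizer hF b0 hu
        rw [Subgroup.mem_centralizer_singleton_iff, ← hb0] at h
        have e : (MulAut.conj k).toMonoidHom u = k * u * k⁻¹ := rfl
        rw [e, show (k * u * k⁻¹)⁻¹ * i.1 * (k * u * k⁻¹) = k * (u⁻¹ * ((k⁻¹ * i.1 * k) * u)) * k⁻¹ by
          group, ← h, inv_mul_cancel_left]
        simpa [mul_assoc] using i.2)
      have hmul : H.relIndex S * Nat.card (H ⊓ S : Subgroup ↥(Cfsg.Sz F m)) = Nat.card S := by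
        rw [mul_comm, ← Subgroup.relIndex_bot_left, ← Subgroup.relIndex_bot_left S,
          ← Subgroup.inf_relIndex_right H S,
          Subgroup.relIndex_mul_relIndex _ _ _ bot_le inf_le_right]
      have hsmall : Nat.card (H ⊓ S : Subgroup ↥(Cfsg.Sz F m)) ≤ 4 := by
        have h1 := Subgroup.card_dvd_of_le (show H ⊓ S ≤ S from inf_le_right)
        have h2 := Subgroup.card_dvd_of_le (show H ⊓ S ≤ N from inf_le_left.trans hle)
        rw [hS, card_map_conj, card_U] at h1
        rw [hN] at h2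
        have h3 : Nat.card (H ⊓ S : Subgroup ↥(Cfsg.Sz F m)) ∣ c :=
          (Nat.Coprime.coprime_dvd_left h1 (torusOrder_props hF hm hord).1).dvd_of_dvd_mul_right h2
        exact (Nat.le_of_dvd (by omega) h3).trans (by omega)
      have hS' : Nat.card S ≤ 2 * 4 := hmul ▸ Nat.mul_le_mul hS2 hsmall
      rw [hS, card_map_conj, card_U] at hS'
      have h8 : 8 ^ 2 ≤ (2 ^ (2 * m + 1)) ^ 2 := Nat.pow_le_pow_left (by
        calc 8 = 2 ^ 3 := by norm_num
          _ ≤ _ := Nat.pow_le_pow_right (by norm_num) (by omega)) 2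
      omega
    haveI : (C.subgroupOf N).Normal := Subgroup.normal_in_normalizer
    have hidx : (C.subgroupOf N).index = c := by
      have h2 := (C.subgroupOf N).card_mul_index
      rw [Nat.card_congr (Subgroup.subgroupOfEquivOfLe Subgroup.le_normalizer).toEquiv, hN,
        mul_comm c] at h2
      exact Nat.eq_of_mul_eq_mul_left Nat.card_pos h2
    have hHC : H ≤ C := by
      intro x hx
      have h1 : x ^ c ∈ C := by
        have := Subgroup.pow_index_mem (C.subgroupOf N) ⟨x, hle hx⟩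
        rw [hidx] at this
        exact this
      have hcop : Nat.Coprime c (orderOf x) := by
        have h' := Subgroup.orderOf_dvd_natCard H hx
        have : ¬ 2 ∣ orderOf x := fun h => hodd (h.trans h')
        have h2 : Nat.Coprime 2 (orderOf x) := Nat.prime_two.coprime_iff_not_dvd.mpr this
        rcases hc with rfl | rfl
        · exact h2
        · exact h2.pow_left 2
      obtain ⟨j, hj⟩ := exists_pow_eq_self_of_coprime hcop
      exact hj ▸ pow_mem h1 j
    obtain ⟨⟨h, hh⟩, h1⟩ := Subgroup.ne_bot_iff_exists_ne_one.mp hne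
    have h1' : h ≠ 1 := fun e => h1 (Subtype.ext e)
    obtain ⟨hs, heC⟩ := ss_centralizer_eq hF hm hz (hHC hh) h1'
    have hHeq : H = C := le_antisymm hHC (heC.symm.le.trans (ss_centralizer_le hF hm hH hh hs))
    rw [hHeq]
    refine ss_index_two hF hm hz ?_
    have h2 := hH h hh h1' N (fun x hx => by
      rw [hHeq]
      have := (Subgroup.mem_normalizer_iff.mp (inv_mem hx) h).mp (hHC hh)
      rwa [inv_inv] at this)
    rw [hHeq] at h2
    have h3 : C.relIndex N = c := hidx
    rw [hN]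
    exact Nat.mul_le_mul_right _ (h3 ▸ h2)
  · exfalso
    have hlt := subfield_lt hF hm hne' hdiv heq
    obtain ⟨w, hw, hw0, hw1⟩ := exists_subSet_ne hF hk hdiv
    set t0 := Units.mk0 w hw0
    have ht0 : t0 ≠ 1 := fun e => hw1 (congrArg Units.val e)
    have hmem : g * dS hF t0 * g⁻¹ ∈ H := heq ▸ ⟨_, (dS_mem_subGp hF hm).mpr hw, rfl⟩
    have hs0 : SS hF (dS hF t0) := ss_of_torus hF hm (Or.inl (card_T hF)) ((mem_T hF).mpr ⟨t0, rfl⟩)
      (fun e => ht0 (dS_inj hF (e.trans (dS_one hF).symm)))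
    have hC := ss_centralizer_le hF hm hH hmem (ss_conj hF hs0 g)
    rw [centralizer_conj, centralizer_torus hF hm ht0, heq] at hC
    have hTle : T hF ≤ subGp hF hm k :=
      (Subgroup.map_le_map_iff_of_injective (MulAut.conj g).injective).mp hC
    have hall : ∀ x : F, x ∈ subSet k := fun x => by
      by_cases hx : x = 0
      · rw [hx]; exact subSet_zero
      · exact (dS_mem_subGp hF hm (t := Units.mk0 x hx)).mp (hTle ((mem_T hF).mpr ⟨_, rfl⟩))
    have h := card_subSet hF (k := k) hdiv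
    rw [Set.eq_univ_of_forall hall, Nat.card_univ, Nat.card_eq_fintype_card, hF] at h
    exact (Nat.pow_lt_pow_right (by norm_num) (show 2 * k + 1 < 2 * m + 1 by omega)).ne' h

end CfsgLib.Suzuki
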