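/-
The three families of maximal tori of the Suzuki group and the 2-elements normalising them.
-/
import Mathlib
import Cfsg.Prelude.Def_LieExceptional
import Cfsg.Agent.Lib.Suzuki.Fixity

namespace CfsgLib.Suzuki

open Cfsg
open scoped Pointwise

variable {F : Type*} [Field F] [Fintype F] {m : ℕ} (hF : Fintype.card F = 2 ^ (2 * m + 1))
include hF

/-- The tori of a given order. -/
def tori (k : ℕ) : Set (Subgroup ↥(Cfsg.Sz F m)) :=
  {A | Nat.card A = k ∧ ∃ z, SS hF z ∧ A = Subgroup.centralizer ({z} : Set ↥(Cfsg.Sz F m))}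

/-- The index of a torus in its normaliser. -/
def torC (m k : ℕ) : ℕ := if k = 2 ^ (2 * m + 1) - 1 then 2 else 4

omit [Field F] [Fintype F] hF in
theorem torC_cases (m k : ℕ) : torC m k = 2 ∨ torC m k = 4 := by
  unfold torC; split <;> simp

theorem torus_orders_ne (hm : 1 ≤ m) :
    2 ^ (2 * m + 1) - 1 ≠ 2 ^ (2 * m + 1) + 2 ^ (m + 1) + 1 ∧
    2 ^ (2 * m + 1) - 1 ≠ 2 ^ (2 * m + 1) - 2 ^ (m + 1) + 1 ∧
    2 ^ (2 * m + 1) + 2 ^ (m + 1) + 1 ≠ 2 ^ (2 * m + 1) - 2 ^ (m + 1) + 1 := by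
  obtain ⟨-, hsq, hs4, hq8, -, -, -⟩ := arith hF hm _ _ rfl rfl
  refine ⟨by omega, by omega, by omega⟩

theorem tori_rep (hm : 1 ≤ m) {k : ℕ} (hk : IsTorusOrder m k) :
    ∃ A0 ∈ tori hF k, Nat.card (Subgroup.normalizer (A0 : Set ↥(Cfsg.Sz F m))) = torC m k * k ∧
      ∀ A ∈ tori hF k, ∃ g, A = A0.map (MulAut.conj g).toMonoidHom := by
  obtain ⟨Ap, Am, -, hAp, up, np, -, hAm, um, nm, hall⟩ := classify hF hm
  obtain ⟨n1, n2, n3⟩ := torus_orders_ne hF hm
  have uT : ∀ u ∈ T hF, u ≠ 1 → Subgroup.centralizer ({u} : Set ↥(Cfsg.Sz F m)) = T hF := by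
    intro u hu h1
    obtain ⟨t, rfl⟩ := (mem_T hF).mp hu
    exact centralizer_torus hF hm (fun e => h1 (by rw [e, dS_one]))
  have rep : ∀ H : Subgroup ↥(Cfsg.Sz F m),
      (∀ u ∈ H, u ≠ 1 → Subgroup.centralizer ({u} : Set ↥(Cfsg.Sz F m)) = H) →
      Nat.card H = k → H ∈ tori hF k := by
    intro H hu hcard
    have hne : H ≠ ⊥ := by
      intro h
      rw [h, Subgroup.card_bot] at hcard
      have := (torusOrder_props hF hm hk).2.1
      omega
    obtain ⟨⟨u, huH⟩, hu1⟩ := Subgroup.ne_bot_iff_exists_ne_one.mp hne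
    have hu1' : u ≠ 1 := fun e => hu1 (Subtype.ext e)
    exact ⟨hcard, u, ss_of_torus hF hm (hcard ▸ hk) huH hu1', (hu u huH hu1').symm⟩
  have into : ∀ (H : Subgroup ↥(Cfsg.Sz F m)) (z : ↥(Cfsg.Sz F m)),
      (∀ u ∈ H, u ≠ 1 → Subgroup.centralizer ({u} : Set ↥(Cfsg.Sz F m)) = H) → z ∈ conjSet H →
      ∃ g, Subgroup.centralizer ({z} : Set ↥(Cfsg.Sz F m)) = H.map (MulAut.conj g).toMonoidHom := by
    rintro H z hu ⟨hz1, g, hg⟩
    refine ⟨g, ?_⟩
    rw [← hu _ hg (fun e => hz1 (by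
      simpa [mul_assoc] using congrArg (fun v => g * v * g⁻¹) e)), ← centralizer_conj]
    congr 2
    group
  have pick : ∀ A ∈ tori hF k,
      (∃ g, A = (T hF).map (MulAut.conj g).toMonoidHom ∧ k = 2 ^ (2 * m + 1) - 1) ∨
      (∃ g, A = Ap.map (MulAut.conj g).toMonoidHom ∧ k = 2 ^ (2 * m + 1) + 2 ^ (m + 1) + 1) ∨
      (∃ g, A = Am.map (MulAut.conj g).toMonoidHom ∧ k = 2 ^ (2 * m + 1) - 2 ^ (m + 1) + 1) := by
    rintro A ⟨hA, z, hz, rfl⟩
    rcases hall z hz.1 with h | h | h | h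
    · exact absurd h hz.2
    · obtain ⟨g, hg⟩ := into _ z uT h
      exact Or.inl ⟨g, hg, by rw [← hA, hg, card_map_conj, card_T]⟩
    · obtain ⟨g, hg⟩ := into _ z up h
      exact Or.inr (Or.inl ⟨g, hg, by rw [← hA, hg, card_map_conj, hAp]⟩)
    · obtain ⟨g, hg⟩ := into _ z um h
      exact Or.inr (Or.inr ⟨g, hg, by rw [← hA, hg, card_map_conj, hAm]⟩)
  rcases hk with rfl | rfl | rfl
  · refine ⟨T hF, rep _ uT (card_T hF), by rw [card_normalizer_T hF hm, torC, if_pos rfl], ?_⟩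
    intro A hA
    rcases pick A hA with ⟨g, hg, -⟩ | ⟨g, -, h⟩ | ⟨g, -, h⟩
    · exact ⟨g, hg⟩
    · exact absurd h n1
    · exact absurd h n2
  · refine ⟨Ap, rep _ up hAp, by rw [np, torC, if_neg n1.symm], ?_⟩
    intro A hA
    rcases pick A hA with ⟨g, -, h⟩ | ⟨g, hg, -⟩ | ⟨g, -, h⟩
    · exact absurd h.symm n1
    · exact ⟨g, hg⟩
    · exact absurd h n3
  · refine ⟨Am, rep _ um hAm, by rw [nm, torC, if_neg n2.symm], ?_⟩
    intro A hA
    rcases pick A hA with ⟨g, -, h⟩ | ⟨g, -, h⟩ | ⟨g, hg, -⟩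
    · exact absurd h.symm n2
    · exact absurd h.symm n3
    · exact ⟨g, hg⟩

theorem tori_map (k : ℕ) {A : Subgroup ↥(Cfsg.Sz F m)} (hA : A ∈ tori hF k) (g : ↥(Cfsg.Sz F m)) :
    A.map (MulAut.conj g).toMonoidHom ∈ tori hF k := by
  obtain ⟨hc, z, hz, rfl⟩ := hA
  exact ⟨by rw [card_map_conj, hc], g * z * g⁻¹, ss_conj hF hz g, (centralizer_conj z g).symm⟩

theorem tori_card_normalizer (hm : 1 ≤ m) {k : ℕ} (hk : IsTorusOrder m k)
    {A : Subgroup ↥(Cfsg.Sz F m)} (hA : A ∈ tori hF k) :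
    Nat.card (Subgroup.normalizer (A : Set ↥(Cfsg.Sz F m))) = torC m k * k := by
  obtain ⟨A0, -, hN, hall⟩ := tori_rep hF hm hk
  obtain ⟨g, rfl⟩ := hall A hA
  rw [card_normalizer_conj, hN]

theorem card_tori (hm : 1 ≤ m) {k : ℕ} (hk : IsTorusOrder m k) :
    Nat.card (tori hF k) * (torC m k * k) = Nat.card ↥(Cfsg.Sz F m) := by
  obtain ⟨A0, hA0, hN, hall⟩ := tori_rep hF hm hk
  set N := Subgroup.normalizer (A0 : Set ↥(Cfsg.Sz F m)) with hNdef
  let f : ↥(Cfsg.Sz F m) ⧸ N → tori hF k :=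
    Quotient.lift (fun g => ⟨A0.map (MulAut.conj g).toMonoidHom, tori_map hF k hA0 g⟩) (by
      intro g g' h
      have h' : g⁻¹ * g' ∈ N := QuotientGroup.leftRel_apply.mp h
      apply Subtype.ext
      show A0.map (MulAut.conj g).toMonoidHom = A0.map (MulAut.conj g').toMonoidHom
      ext y
      rw [mem_map_conj_iff, mem_map_conj_iff, Subgroup.mem_normalizer_iff.mp h' (g'⁻¹ * y * g')]
      have e : g⁻¹ * g' * (g'⁻¹ * y * g') * (g⁻¹ * g')⁻¹ = g⁻¹ * y * g := by group
      rw [e])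
  have hf : Function.Bijective f := by
    constructor
    · intro a b
      induction a using QuotientGroup.induction_on with
      | H g =>
        induction b using QuotientGroup.induction_on with
        | H g' =>
          intro h
          have h' : A0.map (MulAut.conj g).toMonoidHom = A0.map (MulAut.conj g').toMonoidHom :=
            congrArg Subtype.val h
          refine QuotientGroup.eq.mpr (Subgroup.mem_normalizer_iff.mpr fun y => ?_)
          have h'' := SetLike.ext_iff.mp h' (g' * y * g'⁻¹)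
          rw [mem_map_conj_iff, mem_map_conj_iff] at h''
          have e1 : g⁻¹ * (g' * y * g'⁻¹) * g = g⁻¹ * g' * y * (g⁻¹ * g')⁻¹ := by group
          have e2 : g'⁻¹ * (g' * y * g'⁻¹) * g' = y := by group
          rw [e1, e2] at h''
          exact h''.symm
    · rintro ⟨A, hA⟩
      obtain ⟨g, hg⟩ := hall A hA
      exact ⟨QuotientGroup.mk g, Subtype.ext hg.symm⟩
  rw [← hN, ← Nat.card_congr (Equiv.ofBijective f hf), mul_comm, ← Subgroup.index_eq_card,
    Subgroup.card_mul_index]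

section One

variable {k : ℕ} {A : Subgroup ↥(Cfsg.Sz F m)} (hm : 1 ≤ m) (hk : IsTorusOrder m k)
  (hA : A ∈ tori hF k)
include hm hk hA

theorem torus_self {a : ↥(Cfsg.Sz F m)} (ha : a ∈ A) (h1 : a ≠ 1) :
    SS hF a ∧ Subgroup.centralizer ({a} : Set ↥(Cfsg.Sz F m)) = A := by
  obtain ⟨-, z, hz, rfl⟩ := hA
  exact ss_centralizer_eq hF hm hz ha h1

theorem torus_index : (A.subgroupOf (Subgroup.normalizer (A : Set ↥(Cfsg.Sz F m)))).index = torC m k := by
  have h := (A.subgroupOf (Subgroup.normalizer (A : Set ↥(Cfsg.Sz F m)))).card_mul_index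
  rw [Nat.card_congr (Subgroup.subgroupOfEquivOfLe Subgroup.le_normalizer).toEquiv,
    tori_card_normalizer hF hm hk hA, hA.1, mul_comm (torC m k)] at h
  exact Nat.eq_of_mul_eq_mul_left (by have := (torusOrder_props hF hm hk).2.1; omega) h

theorem torus_pow_mem {y : ↥(Cfsg.Sz F m)}
    (hy : y ∈ Subgroup.normalizer (A : Set ↥(Cfsg.Sz F m))) : y ^ torC m k ∈ A := by
  haveI : (A.subgroupOf (Subgroup.normalizer (A : Set ↥(Cfsg.Sz F m)))).Normal :=
    Subgroup.normal_in_normalizer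
  have := Subgroup.pow_index_mem (A.subgroupOf (Subgroup.normalizer (A : Set ↥(Cfsg.Sz F m)))) ⟨y, hy⟩
  rw [torus_index hF hm hk hA] at this
  exact this

theorem torus_odd_mem {y : ↥(Cfsg.Sz F m)}
    (hy : y ∈ Subgroup.normalizer (A : Set ↥(Cfsg.Sz F m))) (hodd : ¬ 2 ∣ orderOf y) : y ∈ A := by
  have hcop : Nat.Coprime (torC m k) (orderOf y) := by
    have h2 : Nat.Coprime 2 (orderOf y) := Nat.prime_two.coprime_iff_not_dvd.mpr hodd
    rcases torC_cases m k with h | h <;> rw [h]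
    · exact h2
    · exact h2.pow_left 2
  obtain ⟨j, hj⟩ := exists_pow_eq_self_of_coprime hcop
  exact hj ▸ pow_mem (torus_pow_mem hF hm hk hA hy) j

theorem torus_outside {y : ↥(Cfsg.Sz F m)}
    (hy : y ∈ Subgroup.normalizer (A : Set ↥(Cfsg.Sz F m))) (hyA : y ∉ A) :
    y ∈ conjSet (U hF) := by
  by_contra h
  exact hyA (torus_odd_mem hF hm hk hA hy
    (ss_orderOf_odd hF hm ⟨fun e => hyA (e ▸ one_mem A), h⟩))

theorem torus_unipotent_not_mem {y : ↥(Cfsg.Sz F m)} (hy : y ∈ conjSet (U hF)) : y ∉ A := by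
  intro h
  exact (torus_self hF hm hk hA h hy.1).1.2 hy

/-- The fixed point of an outside element is fixed by nothing in the torus. -/
theorem torus_fix_trivial {x : ↥(Cfsg.Sz F m)}
    (hx : x ∈ Subgroup.normalizer (A : Set ↥(Cfsg.Sz F m))) (hxU : x ∈ conjSet (U hF))
    {p : Projectivization F (Fin 4 → F)} (hp : p ∈ suzukiOvoid F m) (hxp : x • p = p)
    {a : ↥(Cfsg.Sz F m)} (ha : a ∈ A) (hap : a • p = p) : a = 1 := by
  by_contra h1
  obtain ⟨hss, hC⟩ := torus_self hF hm hk hA ha h1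
  obtain ⟨-, g, hg⟩ := (classify_point hF hm h1 hp hap).resolve_left hss.2
  obtain ⟨t, ht⟩ := (mem_T hF).mp hg
  have ht1 : t ≠ 1 := fun e => h1 (by
    rw [e, dS_one] at ht
    simpa [mul_assoc] using congrArg (fun v => g * v * g⁻¹) ht)
  have e : a = g * dS hF t * g⁻¹ := by rw [← ht]; group
  have hAeq : A = (T hF).map (MulAut.conj g).toMonoidHom := by
    rw [← hC, e, centralizer_conj, centralizer_torus hF hm ht1]
  have hq : g⁻¹ • p ∈ suzukiOvoid F m := smul_mem_ovoid (g⁻¹ : ↥(Cfsg.Sz F m)).2 hp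
  have hfix : dS hF t • (g⁻¹ • p) = g⁻¹ • p := by
    rw [← ht, mul_smul, mul_smul, smul_inv_smul, hap]
  have hfix' : (g⁻¹ * x * g) • (g⁻¹ • p) = g⁻¹ • p := by
    rw [mul_smul, mul_smul, smul_inv_smul, hxp]
  have hxT : g⁻¹ * x * g * dS hF t * (g⁻¹ * x * g)⁻¹ ∈ T hF := by
    have h := (Subgroup.mem_normalizer_iff.mp hx a).mp ha
    rw [hAeq, mem_map_conj_iff] at h
    have e2 : g⁻¹ * x * g * dS hF t * (g⁻¹ * x * g)⁻¹ = g⁻¹ * (x * a * x⁻¹) * g := by
      rw [e]; group
    rw [e2]; exact h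
  obtain ⟨s, hs⟩ := (mem_T hF).mp hxT
  rcases conj_torus hF hm ht1 hs with ⟨r, hr, -⟩ | ⟨r, hr, -⟩
  · refine torus_unipotent_not_mem hF hm hk hA hxU ?_
    rw [hAeq, mem_map_conj_iff, hr]
    exact (mem_T hF).mpr ⟨r, rfl⟩
  · have hne : suzukiPointZero F ≠ suzukiPointInfinity F := by
      rw [← pt_zero (m := m)]; exact pt_ne_inf _ _
    rw [hr, mul_smul] at hfix'
    rcases fix_torus hF hm ht1 hq hfix with h | h <;> rw [h] at hfix'
    · rw [smul_dS_inf, smul_wS_inf] at hfix'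
      exact hne hfix'
    · rw [smul_dS_zero, smul_wS_zero] at hfix'
      exact hne hfix'.symm

/-- The stabiliser in the normaliser of the fixed point of an outside element. -/
theorem card_torus_stab {x : ↥(Cfsg.Sz F m)}
    (hx : x ∈ Subgroup.normalizer (A : Set ↥(Cfsg.Sz F m))) (hxU : x ∈ conjSet (U hF))
    {p : Projectivization F (Fin 4 → F)} (hp : p ∈ suzukiOvoid F m) (hxp : x • p = p) :
    Nat.card (Subgroup.normalizer (A : Set ↥(Cfsg.Sz F m)) ⊓
      MulAction.stabilizer ↥(Cfsg.Sz F m) p : Subgroup ↥(Cfsg.Sz F m)) = torC m k := by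
  haveI : Fact (Nat.Prime 2) := ⟨Nat.prime_two⟩
  set N := Subgroup.normalizer (A : Set ↥(Cfsg.Sz F m)) with hN
  set K := N ⊓ MulAction.stabilizer ↥(Cfsg.Sz F m) p with hK
  apply le_antisymm
  · let f : K → N ⧸ A.subgroupOf N := fun y => QuotientGroup.mk ⟨y.1, y.2.1⟩
    have hf : Function.Injective f := by
      intro a b hab
      have h0 : (⟨a.1, a.2.1⟩ : N)⁻¹ * ⟨b.1, b.2.1⟩ ∈ A.subgroupOf N := QuotientGroup.eq.mp hab
      have h1 : a.1⁻¹ * b.1 ∈ A := h0
      have h2 := torus_fix_trivial hF hm hk hA hx hxU hp hxp h1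
        (mul_mem (inv_mem a.2.2) b.2.2 : a.1⁻¹ * b.1 ∈ MulAction.stabilizer ↥(Cfsg.Sz F m) p)
      exact Subtype.ext (inv_mul_eq_one.mp h2)
    have h1 := Nat.card_le_card_of_injective f hf
    rwa [← Subgroup.index_eq_card, torus_index hF hm hk hA] at h1
  · have hord : orderOf x ∣ 2 ^ ((2 * m + 1) * 2) := by
      have := orderOf_dvd_of_conjSet _ hxU
      rwa [card_U, ← pow_mul] at this
    obtain ⟨i, -, hi⟩ := (Nat.dvd_prime_pow Nat.prime_two).mp hord
    have hp2 : IsPGroup 2 (Subgroup.zpowers (⟨x, hx⟩ : N)) := by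
      refine IsPGroup.of_card (n := i) ?_
      rw [Nat.card_zpowers, Subgroup.orderOf_mk, hi]
    obtain ⟨P, hP⟩ := hp2.exists_le_sylow
    have hcP : torC m k ∣ Nat.card P := by
      have h := (P : Subgroup N).card_mul_index
      rw [tori_card_normalizer hF hm hk hA] at h
      have hcop : Nat.Coprime (torC m k) (P : Subgroup N).index := by
        have h2 : Nat.Coprime 2 (P : Subgroup N).index :=
          Nat.prime_two.coprime_iff_not_dvd.mpr P.not_dvd_index
        rcases torC_cases m k with e | e <;> rw [e]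
        · exact h2
        · exact h2.pow_left 2
      exact hcop.dvd_of_dvd_mul_right (h ▸ dvd_mul_right _ _)
    obtain ⟨g, hg⟩ := exists_conj_le_U hF hm (P.isPGroup'.map N.subtype)
    have hfix : ∀ y ∈ (P : Subgroup N), (y : ↥(Cfsg.Sz F m)) • (g⁻¹ • suzukiPointInfinity F) =
        g⁻¹ • suzukiPointInfinity F := by
      intro y hy
      have h : g * y.1 * g⁻¹ ∈ U hF := hg ⟨y.1, ⟨y, hy, rfl⟩, rfl⟩
      have h' := U_le_stabInf hF h
      rw [MulAction.mem_stabilizer_iff, mul_smul, mul_smul, ← eq_inv_smul_iff] at h'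
      exact h'
    have hpg : g⁻¹ • suzukiPointInfinity F = p := by
      obtain ⟨r, -, -, hr⟩ := unip_fix hF hm hxU
      rw [hr p hp hxp]
      exact hr _ (smul_mem_ovoid (g⁻¹ : ↥(Cfsg.Sz F m)).2 inf_mem)
        (hfix ⟨x, hx⟩ (hP (Subgroup.mem_zpowers _)))
    let φ : P → K := fun y => ⟨y.1.1, y.1.2, by
      have := hfix y.1 y.2; rw [hpg] at this; exact this⟩
    have hφ : Function.Injective φ := fun a b h =>
      Subtype.ext (Subtype.ext (congrArg (fun w : K => (w : ↥(Cfsg.Sz F m))) h))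
    exact le_trans (Nat.le_of_dvd Nat.card_pos hcP) (Nat.card_le_card_of_injective φ hφ)

/-- The number of elements of order `2` or `4` in the normaliser of a torus. -/
theorem card_normalizer_order {j : ℕ} (hj : j = 2 ∨ j = 4) :
    Nat.card {y : ↥(Cfsg.Sz F m) // orderOf y = j ∧ y ∈ Subgroup.normalizer (A : Set ↥(Cfsg.Sz F m))} =
      k * (if j = 2 then 1 else if torC m k = 4 then 2 else 0) := by
  classical
  set N := Subgroup.normalizer (A : Set ↥(Cfsg.Sz F m)) with hN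
  set AN := A.subgroupOf N with hAN
  haveI : AN.Normal := Subgroup.normal_in_normalizer
  have hA5 := (torusOrder_props hF hm hk).2.1
  have hAodd : ∀ a ∈ A, ¬ 2 ∣ orderOf a := by
    intro a ha h
    exact (torusOrder_props hF hm hk).2.2.1 (hA.1 ▸ h.trans (Subgroup.orderOf_dvd_natCard A ha))
  have key : ∀ y : N, (y : ↥(Cfsg.Sz F m)) ∉ A →
      orderOf (QuotientGroup.mk y : N ⧸ AN) = orderOf y := by
    intro y hy
    refine Nat.dvd_antisymm (orderOf_map_dvd (QuotientGroup.mk' AN) y) ?_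
    rw [orderOf_dvd_iff_pow_eq_one]
    set i := orderOf (QuotientGroup.mk y : N ⧸ AN)
    have h1 : y.1 ^ i ∈ A := by
      have h := pow_orderOf_eq_one (QuotientGroup.mk y : N ⧸ AN)
      rw [← QuotientGroup.mk_pow, QuotientGroup.eq_one_iff] at h
      exact h
    have hd : orderOf (y.1 ^ i) ∣ 2 ^ ((2 * m + 1) * 2) := by
      refine (orderOf_pow_dvd i).trans ?_
      have := orderOf_dvd_of_conjSet _ (torus_outside hF hm hk hA y.2 hy)
      rwa [card_U, ← pow_mul] at this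
    obtain ⟨l, -, hl⟩ := (Nat.dvd_prime_pow Nat.prime_two).mp hd
    apply Subtype.ext
    show y.1 ^ i = 1
    rw [← orderOf_eq_one_iff, hl]
    rcases Nat.eq_zero_or_pos l with rfl | hl0
    · rfl
    · exact absurd (hl ▸ dvd_pow_self 2 hl0.ne') (hAodd _ h1)
  have hset : ∀ y : N, orderOf y = j ↔ orderOf (QuotientGroup.mk y : N ⧸ AN) = j := by
    intro y
    by_cases hy : (y : ↥(Cfsg.Sz F m)) ∈ A
    · have e : (QuotientGroup.mk y : N ⧸ AN) = 1 := (QuotientGroup.eq_one_iff y).mpr hy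
      rw [e, orderOf_one]
      constructor <;> intro h
      · refine absurd ?_ (hAodd _ hy)
        rw [Subgroup.orderOf_coe, h]
        rcases hj with rfl | rfl <;> norm_num
      · omega
    · rw [key y hy]
  have e1 : Nat.card {y : ↥(Cfsg.Sz F m) // orderOf y = j ∧ y ∈ N} =
      Nat.card (QuotientGroup.mk (s := AN) ⁻¹' {q | orderOf q = j}) := by
    refine Nat.card_congr (Equiv.ofBijective
      (fun y => ⟨⟨y.1, y.2.2⟩, (hset _).mp (by rw [Subgroup.orderOf_mk]; exact y.2.1)⟩) ⟨?_, ?_⟩)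
    · intro a b h
      exact Subtype.ext (congrArg (fun w => w.1.1) h)
    · rintro ⟨⟨y, hy⟩, hy'⟩
      exact ⟨⟨y, by rw [← Subgroup.orderOf_mk y hy]; exact (hset _).mpr hy', hy⟩, rfl⟩
  rw [e1, Nat.card_congr (QuotientGroup.preimageMkEquivSubgroupProdSet AN _), Nat.card_prod,
    Nat.card_congr (Subgroup.subgroupOfEquivOfLe Subgroup.le_normalizer).toEquiv, hA.1]
  congr 1
  have hcardQ : Nat.card (N ⧸ AN) = torC m k := by
    rw [← Subgroup.index_eq_card, torus_index hF hm hk hA]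
  haveI : Fact (Nat.Prime 2) := ⟨Nat.prime_two⟩
  haveI : IsCyclic (N ⧸ AN) := by
    rcases torC_cases m k with h | h
    · exact isCyclic_of_prime_card (p := 2) (hcardQ.trans h)
    · obtain ⟨-, z, hz, hAz⟩ := id hA
      have hzA : z ∈ A := by rw [hAz]; exact Subgroup.mem_centralizer_singleton_iff.mpr rfl
      have hzN : z ∈ N := Subgroup.le_normalizer hzA
      have hNN : Subgroup.normalizer (AN : Set N) = ⊤ := Subgroup.normalizer_eq_top AN
      obtain ⟨x, hxN, hx4, hx2⟩ := exists_order_four hF hm N hz hzN (by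
        rw [← hAz, ← hAN, hNN, Subgroup.card_top, tori_card_normalizer hF hm hk hA, h,
          Nat.card_congr (Subgroup.subgroupOfEquivOfLe Subgroup.le_normalizer).toEquiv, hA.1])
      have hx4' : orderOf x = 2 ^ 2 :=
        orderOf_eq_prime_pow (by simpa using hx2) (by simpa using hx4)
      refine isCyclic_of_orderOf_eq_card (QuotientGroup.mk ⟨x, hxN⟩ : N ⧸ AN) ?_
      rw [hcardQ, h, key ⟨x, hxN⟩ (fun hxA => hAodd x hxA (by rw [hx4']; norm_num)),
        Subgroup.orderOf_mk, hx4']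
      norm_num
  haveI : Fintype (N ⧸ AN) := Fintype.ofFinite _
  rw [Nat.card_coe_set_eq]
  by_cases hdvd : j ∣ torC m k
  · have h := IsCyclic.card_orderOf_eq_totient (α := N ⧸ AN)
      (d := j) (by rw [← Nat.card_eq_fintype_card, hcardQ]; exact hdvd)
    rw [show ({q : N ⧸ AN | orderOf q = j} : Set _) =
      ↑(Finset.univ.filter (fun q : N ⧸ AN => orderOf q = j)) by ext; simp, Set.ncard_coe_finset, h]
    rcases hj with rfl | rfl
    · rw [if_pos rfl, Nat.totient_two]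
    · have : torC m k = 4 := by
        rcases torC_cases m k with h' | h'
        · rw [h'] at hdvd; norm_num at hdvd
        · exact h'
      rw [if_neg (by norm_num), if_pos this]
      rw [show (4 : ℕ) = 2 ^ 2 from rfl, Nat.totient_prime_pow Nat.prime_two (by norm_num)]
      norm_num
  · have h2 : torC m k = 2 ∧ j = 4 := by
      rcases torC_cases m k with h' | h' <;> rcases hj with rfl | rfl <;> rw [h'] at hdvd <;>
        first | exact ⟨h', rfl⟩ | exact absurd (by norm_num) hdvd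
    rw [if_neg (by omega), if_neg (by omega), Set.ncard_eq_zero (Set.toFinite _),
      Set.eq_empty_iff_forall_notMem]
    intro q hq
    have h := orderOf_dvd_natCard q
    rw [hcardQ, show orderOf q = j from hq] at h
    exact hdvd h

end One

end CfsgLib.Suzuki
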