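/-
Central extensions of the Suzuki groups over fields with at least 32 elements.
-/
import Cfsg.Agent.Lib.Suzuki.Partition
import Cfsg.Agent.Lib.Suzuki.Sylow
import Cfsg.Agent.Lib.StSL.Small

set_option maxHeartbeats 1000000

namespace CfsgLib.Suzuki.Multiplier

open Cfsg CfsgLib.Suzuki
open scoped commutatorElement

/-- A bi-additive map into a group invariant under a scaling is trivial when the induced
map is not additive. -/
theorem biadd_trivial {F : Type*} [Field F] {Γ : Type*} [Group Γ] (β : F → F → Γ)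
    (hl : ∀ x x' y, β (x + x') y = β x y * β x' y) (hr : ∀ x y y', β x (y + y') = β x y * β x y')
    (f g : Fˣ → F) (hf : ∀ x : F, x ≠ 0 → ∃ r, f r = x) (hg : ∀ r, g r ≠ 0)
    (hinv : ∀ r x y, β (f r * x) (g r * y) = β x y)
    {r₁ r₂ r₃ : Fˣ} (hsum : f r₁ + f r₂ = f r₃) (hd : (g r₁)⁻¹ + (g r₂)⁻¹ ≠ (g r₃)⁻¹) :
    ∀ x y, β x y = 1 := by
  have key : ∀ r y, β (f r) y = β 1 (y * (g r)⁻¹) := fun r y => by
    have h := hinv r 1 (y * (g r)⁻¹)
    rwa [mul_one, mul_comm (g r), inv_mul_cancel_right₀ (hg r)] at h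
  set d := (g r₁)⁻¹ + (g r₂)⁻¹ - (g r₃)⁻¹ with hdd
  have hd0 : d ≠ 0 := sub_ne_zero.mpr hd
  have lam : ∀ z, β 1 z = 1 := by
    intro z
    have h := hl (f r₁) (f r₂) (z * d⁻¹)
    rw [hsum, key, key, key, ← hr, ← mul_add,
      show (g r₁)⁻¹ + (g r₂)⁻¹ = (g r₃)⁻¹ + d by rw [hdd]; ring, mul_add, hr, inv_mul_cancel_right₀ hd0] at h
    exact left_eq_mul.mp h
  intro x y
  by_cases hx : x = 0
  · subst hx
    have h := hl 0 0 y
    rw [add_zero] at h
    exact left_eq_mul.mp h
  · obtain ⟨r, rfl⟩ := hf x hx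
    rw [key, lam]

/-- Commutators of lifts are additive in each argument modulo conjugation. -/
theorem comm_mul_left {Γ : Type*} [Group Γ] (a b c : Γ) : ⁅a * b, c⁆ = a * ⁅b, c⁆ * a⁻¹ * ⁅a, c⁆ := by
  simp only [commutatorElement_def]; group

theorem comm_mul_right {Γ : Type*} [Group Γ] (a b c : Γ) : ⁅a, b * c⁆ = ⁅a, b⁆ * (b * ⁅a, c⁆ * b⁻¹) := by
  simp only [commutatorElement_def]; group

theorem conj_comm {Γ : Type*} [Group Γ] (d a b : Γ) : d * ⁅a, b⁆ * d⁻¹ = ⁅d * a * d⁻¹, d * b * d⁻¹⁆ := by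
  simp only [commutatorElement_def]; group

variable {F : Type*} [Field F] [Fintype F] {m : ℕ} (hF : Fintype.card F = 2 ^ (2 * m + 1))

set_option quotPrecheck false in
local notation "𝔾" => ↥(Cfsg.Sz F m)

include hF

theorem card_big (hm : 2 ≤ m) : 32 ≤ Fintype.card F := by
  rw [hF, show (32 : ℕ) = 2 ^ 5 by norm_num]
  exact Nat.pow_le_pow_right two_pos (by omega)

theorem exists_inv_bad (hm : 2 ≤ m) : ∃ x : F, x ≠ 0 ∧ 1 + x ≠ 0 ∧ 1 + x⁻¹ ≠ (1 + x)⁻¹ := by
  classical
  have h2 := two_eq_zero hF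
  let P : Polynomial F := Polynomial.X * (1 + Polynomial.X) * (1 + Polynomial.X + Polynomial.X ^ 2)
  have hP : P ≠ 0 := by
    refine mul_ne_zero (mul_ne_zero Polynomial.X_ne_zero ?_) ?_ <;>
      intro h <;> have h' := congrArg (Polynomial.eval (0 : F)) h <;>
      simp at h'
  have hdeg : P.natDegree < Fintype.card F := by
    have : P.natDegree ≤ 4 := by simp only [P]; compute_degree
    have := card_big hF hm
    omega
  obtain ⟨x, hx⟩ : ∃ x, P.eval x ≠ 0 := by
    by_contra hn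
    simp only [not_exists, not_not] at hn
    exact hP (Polynomial.eq_zero_of_natDegree_lt_card_of_eval_eq_zero P
      (f := id) Function.injective_id hn hdeg)
  simp only [P, Polynomial.eval_mul, Polynomial.eval_add, Polynomial.eval_one, Polynomial.eval_X,
    Polynomial.eval_pow, mul_ne_zero_iff] at hx
  refine ⟨x, hx.1.1, hx.1.2, fun h => hx.2 ?_⟩
  have hx0 := hx.1.1
  have hx1 := hx.1.2
  field_simp at h
  linear_combination h

theorem scale_ne_zero (r : Fˣ) : th m (r : F) * (r : F) ^ 2 ≠ 0 :=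
  mul_ne_zero (fun h => r.ne_zero (th_eq_zero_iff.mp h)) (pow_ne_zero _ r.ne_zero)

theorem scale_surj {x : F} (hx : x ≠ 0) : ∃ r : Fˣ, th m (r : F) * (r : F) ^ 2 = x := by
  let f : Fˣ →* Fˣ :=
    { toFun := fun t => Units.mk0 (th m (t : F) * (t : F) ^ 2) (scale_ne_zero hF t)
      map_one' := Units.ext (by simp)
      map_mul' := fun s t => Units.ext (by simp only [Units.val_mul, Units.val_mk0, th_mul]; ring) }
  have hf : Function.Bijective f := Finite.injective_iff_bijective.mp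
    ((injective_iff_map_eq_one f).mpr fun t ht =>
      Units.ext (eq_one_of_th_sq hF (congrArg Units.val ht)))
  obtain ⟨t, ht⟩ := hf.2 (Units.mk0 x hx)
  exact ⟨t, congrArg Units.val ht⟩

theorem exists_mixed_bad (hm : 2 ≤ m) : ∃ r s : Fˣ,
    1 + th m (r : F) * (r : F) ^ 2 = th m (s : F) * (s : F) ^ 2 ∧ 1 + (th m (r : F))⁻¹ ≠ (th m (s : F))⁻¹ := by
  classical
  have h2 := two_eq_zero hF
  set N := 2 ^ (m + 1) with hN
  let A : Polynomial F := Polynomial.X ^ N
  let Q : Polynomial F := (1 + A * Polynomial.X ^ 2) * (1 + A) * (1 + Polynomial.X ^ 2) + A * Polynomial.X ^ 2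
  let P : Polynomial F := Polynomial.X * (1 + Polynomial.X) * Q
  have hP : P ≠ 0 := by
    have hN0 : N ≠ 0 := by positivity
    refine mul_ne_zero (mul_ne_zero Polynomial.X_ne_zero ?_) ?_ <;>
      intro h <;> have h' := congrArg (Polynomial.eval (0 : F)) h <;>
      simp [Q, A, hN0] at h'
  have hdeg : P.natDegree < Fintype.card F := by
    have hbd : P.natDegree ≤ 2 + (2 * N + 4) := by
      refine Polynomial.natDegree_mul_le.trans (add_le_add ?_ ?_)
      · refine Polynomial.natDegree_mul_le.trans ((add_le_add (b := 1) (d := 1) ?_ ?_).trans le_rfl)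
        · exact Polynomial.natDegree_X_le
        · exact Polynomial.natDegree_add_le_of_degree_le (by simp) (by simp)
      · have hA2 : (A * Polynomial.X ^ 2).natDegree ≤ N + 2 :=
          Polynomial.natDegree_mul_le.trans (by simp [A])
        refine Polynomial.natDegree_add_le_of_degree_le ?_ (hA2.trans (by omega))
        refine Polynomial.natDegree_mul_le.trans ((add_le_add (b := 2 * N + 2) (d := 2) ?_ ?_).trans (by omega))
        · refine Polynomial.natDegree_mul_le.trans ((add_le_add (b := N + 2) (d := N) ?_ ?_).trans (by omega))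
          · exact Polynomial.natDegree_add_le_of_degree_le (by simp) hA2
          · exact Polynomial.natDegree_add_le_of_degree_le (by simp) (by simp [A])
        · exact Polynomial.natDegree_add_le_of_degree_le (by simp) (by simp)
    have h4 : 2 ^ (2 * m + 1) = N * 2 ^ m := by rw [hN, ← pow_add]; congr 1; omega
    have h8 : 4 ≤ 2 ^ m := le_trans (by norm_num) (Nat.pow_le_pow_right two_pos hm)
    have h9 : 8 ≤ N := le_trans (by norm_num) (Nat.pow_le_pow_right two_pos (show 3 ≤ m + 1 by omega))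
    rw [hF, h4]
    nlinarith
  obtain ⟨x, hx⟩ : ∃ x, P.eval x ≠ 0 := by
    by_contra hn
    simp only [not_exists, not_not] at hn
    exact hP (Polynomial.eq_zero_of_natDegree_lt_card_of_eval_eq_zero P
      (f := id) Function.injective_id hn hdeg)
  simp only [P, Q, A, Polynomial.eval_mul, Polynomial.eval_add, Polynomial.eval_one, Polynomial.eval_X,
    Polynomial.eval_pow, mul_ne_zero_iff] at hx
  obtain ⟨⟨x0, x1⟩, hQ⟩ := hx
  have hxA : x ^ N = th m x := rfl
  rw [hxA] at hQ
  have hne : 1 + th m x * x ^ 2 ≠ 0 := by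
    intro h
    have h' : th m x * x ^ 2 = 1 := by linear_combination h - h2
    apply x1
    rw [eq_one_of_th_sq hF h']
    linear_combination h2
  obtain ⟨s, hs⟩ := scale_surj hF hne
  refine ⟨Units.mk0 x x0, s, hs.symm, ?_⟩
  intro h
  simp only [Units.val_mk0] at h
  apply hQ
  set A' := th m x
  have hA' : A' ≠ 0 := fun e => x0 (th_eq_zero_iff.mp e)
  set B := th m (s : F) with hB
  have hB' : B ≠ 0 := fun e => s.ne_zero (th_eq_zero_iff.mp e)
  have e1 : B * (1 + A') = A' := by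
    field_simp at h
    linear_combination h
  have e2 := congrArg (th m) e1
  rw [th_mul, th_add hF, th_one, hB, th_th hF, th_th hF] at e2
  linear_combination (-((1 + A') * (1 + x ^ 2))) * hs + (s : F) ^ 2 * (1 + x ^ 2) * e1 + A' * e2 + (A' * x ^ 2) * h2

variable {Γ : Type*} [Group Γ] {σ : Γ →* ↥(Cfsg.Sz F m)}

variable (hsurj : Function.Surjective σ) (hcen : σ.ker ≤ Subgroup.center Γ)

include hcen

omit hF in
theorem comm_central {x y : Γ} (h : Commute (σ x) (σ y)) : ∀ g : Γ, g * ⁅x, y⁆ = ⁅x, y⁆ * g := by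
  refine fun g => Subgroup.mem_center_iff.mp (hcen ?_) g
  rw [MonoidHom.mem_ker, map_commutatorElement, commutatorElement_eq_one_iff_commute]
  exact h

omit hF in
theorem comm_left_add {x x' y : Γ} (h : Commute (σ x') (σ y)) : ⁅x * x', y⁆ = ⁅x', y⁆ * ⁅x, y⁆ := by
  rw [comm_mul_left, comm_central hcen h x, mul_inv_cancel_right]

omit hF in
theorem comm_right_add {x y y' : Γ} (h : Commute (σ x) (σ y')) : ⁅x, y * y'⁆ = ⁅x, y⁆ * ⁅x, y'⁆ := by
  rw [comm_mul_right, comm_central hcen h y, mul_inv_cancel_right]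

include hsurj

/-- The preimage of the centre of the root subgroup commutes with the preimage of the root subgroup. -/
theorem commute_centre (hm : 2 ≤ m) {x y : Γ} (hx : σ x ∈ Z hF) (hy : σ y ∈ U hF) : Commute x y := by
  classical
  set L := Function.surjInv hsurj with hLdef
  have hL : ∀ g, σ (L g) = g := Function.surjInv_eq hsurj
  set e : F → 𝔾 := fun b => uS hF 0 b with he
  set w : F → 𝔾 := fun a => uS hF a 0 with hw
  have hcomE : ∀ b a c, Commute (e b) (uS hF a c) := fun b a c => by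
    show uS hF 0 b * uS hF a c = uS hF a c * uS hF 0 b
    rw [uS_mul, uS_mul]; simp [add_comm]
  have hee : ∀ b b', e (b + b') = e b * e b' := fun b b' => by
    simp only [he, uS_mul, th_zero, zero_mul, add_zero]
  have hdS : ∀ (r : Fˣ) a b, L (dS hF r) * L (uS hF a b) * (L (dS hF r))⁻¹ ∈
      {z | σ z = uS hF (th m (r : F) * a) (th m (r : F) * (r : F) ^ 2 * b)} := fun r a b => by
    simp only [Set.mem_ofPred_eq, map_mul, map_inv, hL, dS_uS]
  have inv_comm : ∀ (r : Fˣ) a b a' b', Commute (uS hF a b) (uS hF a' b') →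
      ⁅L (uS hF (th m (r : F) * a) (th m (r : F) * (r : F) ^ 2 * b)),
        L (uS hF (th m (r : F) * a') (th m (r : F) * (r : F) ^ 2 * b'))⁆ = ⁅L (uS hF a b), L (uS hF a' b')⁆ := by
    intro r a b a' b' hc
    have h := conj_comm (L (dS hF r)) (L (uS hF a b)) (L (uS hF a' b'))
    rw [comm_central hcen (by rw [hL, hL]; exact hc) (L (dS hF r)), mul_inv_cancel_right] at h
    rw [h]
    exact (CfsgLib.StSL.comm_congr hcen (by rw [hL]; exact hdS r a b) (by rw [hL]; exact hdS r a' b')).symm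
  -- the centre is elementary on lifts
  have hEE : ∀ b b', ⁅L (e b), L (e b')⁆ = 1 := by
    obtain ⟨x0, x1, x2, x3⟩ := exists_inv_bad hF hm
    obtain ⟨r1, hr1⟩ := scale_surj hF (one_ne_zero (α := F))
    obtain ⟨r2, hr2⟩ := scale_surj hF x1
    obtain ⟨r3, hr3⟩ := scale_surj hF x2
    refine biadd_trivial (fun b b' => ⁅L (e b), L (e b')⁆) ?_ ?_ (fun r : Fˣ => th m (r : F) * (r : F) ^ 2)
      (fun r : Fˣ => th m (r : F) * (r : F) ^ 2) (fun x hx => scale_surj hF hx) (scale_ne_zero hF) ?_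
      (r₁ := r1) (r₂ := r2) (r₃ := r3) ?_ ?_
    · intro b b' c
      show ⁅L (e (b + b')), L (e c)⁆ = ⁅L (e b), L (e c)⁆ * ⁅L (e b'), L (e c)⁆
      rw [CfsgLib.StSL.comm_congr hcen (a' := L (e b') * L (e b)) (b' := L (e c))
        (by rw [map_mul, hL, hL, hL, add_comm, hee]) rfl,
        comm_left_add hcen (by rw [hL, hL]; exact hcomE _ _ _)]
    · intro c b b'
      show ⁅L (e c), L (e (b + b'))⁆ = ⁅L (e c), L (e b)⁆ * ⁅L (e c), L (e b')⁆
      rw [CfsgLib.StSL.comm_congr hcen (a' := L (e c)) (b' := L (e b) * L (e b'))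
        rfl (by rw [map_mul, hL, hL, hL, hee]), comm_right_add hcen (by rw [hL, hL]; exact hcomE _ _ _)]
    · intro r b b'
      have := inv_comm r 0 b 0 b' (hcomE _ _ _)
      simpa [he] using this
    · rw [hr1, hr2, hr3]
    · rw [hr1, hr2, hr3, inv_one]; exact x3
  have hEW : ∀ b a, ⁅L (e b), L (w a)⁆ = 1 := by
    obtain ⟨r, s, hrs, hbad⟩ := exists_mixed_bad hF hm
    refine biadd_trivial (fun b a => ⁅L (e b), L (w a)⁆) ?_ ?_ (fun r : Fˣ => th m (r : F) * (r : F) ^ 2)
      (fun r : Fˣ => th m (r : F)) (fun x hx => scale_surj hF hx)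
      (fun r h => r.ne_zero (th_eq_zero_iff.mp h)) ?_ (r₁ := 1) (r₂ := r) (r₃ := s) ?_ ?_
    · intro b b' a
      show ⁅L (e (b + b')), L (w a)⁆ = ⁅L (e b), L (w a)⁆ * ⁅L (e b'), L (w a)⁆
      rw [CfsgLib.StSL.comm_congr hcen (a' := L (e b') * L (e b)) (b' := L (w a))
        (by rw [map_mul, hL, hL, hL, add_comm, hee]) rfl,
        comm_left_add hcen (by rw [hL, hL]; exact hcomE _ _ _)]
    · intro b a a'
      show ⁅L (e b), L (w (a + a'))⁆ = ⁅L (e b), L (w a)⁆ * ⁅L (e b), L (w a')⁆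
      have e1 : w a * w a' = w (a + a') * e (th m a * a') := by
        simp only [hw, he, uS_mul, add_zero, zero_add, mul_zero]
      have h2 : ⁅L (e b), L (w a) * L (w a')⁆ = ⁅L (e b), L (w (a + a')) * L (e (th m a * a'))⁆ :=
        CfsgLib.StSL.comm_congr hcen rfl (by rw [map_mul, map_mul, hL, hL, hL, hL, e1])
      rw [comm_right_add hcen (by rw [hL, hL]; exact hcomE _ _ _),
        comm_right_add hcen (by rw [hL, hL]; exact hcomE _ _ _), hEE, mul_one] at h2
      exact h2.symm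
    · intro r b a
      have := inv_comm r 0 b a 0 (hcomE _ _ _)
      simpa [he, hw] using this
    · rw [Units.val_one, th_one, one_pow, one_mul]; exact hrs
    · rw [Units.val_one, th_one, inv_one]; exact hbad
  obtain ⟨b, hb⟩ := hx
  obtain ⟨a, c, hc⟩ := hy
  rw [← commutatorElement_eq_one_iff_commute,
    CfsgLib.StSL.comm_congr hcen (a' := L (e b)) (b' := L (w a) * L (e c)) (by rw [hL]; exact hb)
      (by rw [map_mul, hL, hL]; simp only [hw, he, uS_mul]; rw [hc]; simp),
    comm_right_add hcen (by rw [hL, hL]; exact hcomE _ _ _), hEE, hEW, one_mul]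

/-- The preimage of the root subgroup has derived group avoiding the kernel. -/
theorem ker_inf_commutator [Finite Γ] (hm : 2 ≤ m) {z : Γ} (hz : z ∈ σ.ker) (hzU : z ∈ (U hF).comap σ)
    (hzc : (⟨z, hzU⟩ : (U hF).comap σ) ∈ commutator ((U hF).comap σ)) : z = 1 := by
  classical
  set L := Function.surjInv hsurj with hLdef
  have hL : ∀ g, σ (L g) = g := Function.surjInv_eq hsurj
  set w : F → 𝔾 := fun a => uS hF a 0 with hw
  have hZU : Z hF ≤ U hF := by rintro _ ⟨b, rfl⟩; exact ⟨0, b, rfl⟩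
  set E' := (Z hF).comap σ with hE'
  have cE : ∀ {x y : Γ}, x ∈ E' → σ y ∈ U hF → Commute x y := fun hx hy => commute_centre hF hsurj hcen hm hx hy
  letI : CommGroup E' :=
    { (inferInstance : Group E') with
      mul_comm := fun a b => Subtype.ext (cE a.2 (hZU b.2)).eq }
  have cmem : ∀ a a', ⁅L (w a), L (w a')⁆ ∈ E' := fun a a' => by
    show σ ⁅L (w a), L (w a')⁆ ∈ Z hF
    rw [map_commutatorElement, hL, hL, commutatorElement_def]
    exact ⟨_, uS_commutator hF a 0 a' 0⟩
  let c : F → F → E' := fun a a' => ⟨_, cmem a a'⟩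
  have wadd : ∀ a a', w a * w a' = w (a + a') * uS hF 0 (th m a * a') := fun a a' => by
    simp only [hw, uS_mul, add_zero, zero_add, mul_zero]
  have eEl : ∀ b, L (uS hF 0 b) ∈ E' := fun b => by show σ _ ∈ Z hF; rw [hL]; exact ⟨b, rfl⟩
  have wU : ∀ a, σ (L (w a)) ∈ U hF := fun a => by rw [hL]; exact ⟨a, 0, rfl⟩
  have kill_r : ∀ {x y k : Γ}, k ∈ E' → σ x ∈ U hF → σ y ∈ U hF → ⁅x, y * k⁆ = ⁅x, y⁆ := fun hk hx _ => by
    rw [comm_mul_right, commutatorElement_eq_one_iff_commute.mpr (cE hk hx).symm]; group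
  have kill_l : ∀ {x y k : Γ}, k ∈ E' → σ x ∈ U hF → σ y ∈ U hF → ⁅x * k, y⁆ = ⁅x, y⁆ := fun hk _ hy => by
    rw [comm_mul_left, commutatorElement_eq_one_iff_commute.mpr (cE hk hy)]; group
  have cl : ∀ a a' b, c (a + a') b = c a b * c a' b := by
    intro a a' b
    apply Subtype.ext
    show ⁅L (w (a + a')), L (w b)⁆ = ⁅L (w a), L (w b)⁆ * ⁅L (w a'), L (w b)⁆
    rw [add_comm a a', ← kill_l (eEl (th m a' * a)) (wU _) (wU b),
      CfsgLib.StSL.comm_congr hcen (a' := L (w a') * L (w a)) (b' := L (w b))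
        (by rw [map_mul, map_mul, hL, hL, hL, hL, wadd]) rfl, comm_mul_left,
      (cE (cmem a b) (wU a')).symm.eq, mul_inv_cancel_right]
  have cr : ∀ b a a', c b (a + a') = c b a * c b a' := by
    intro b a a'
    apply Subtype.ext
    show ⁅L (w b), L (w (a + a'))⁆ = ⁅L (w b), L (w a)⁆ * ⁅L (w b), L (w a')⁆
    rw [← kill_r (eEl (th m a * a')) (wU b) (wU _),
      CfsgLib.StSL.comm_congr hcen (a' := L (w b)) (b' := L (w a) * L (w a'))
        rfl (by rw [map_mul, map_mul, hL, hL, hL, hL, wadd]), comm_mul_right,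
      (cE (cmem b a') (wU a)).symm.eq, mul_inv_cancel_right]
  have c2 : ∀ a a', c a a' ^ 2 = 1 := fun a a' => by
    have h0 : c 0 a' = 1 := by
      have h := cl 0 0 a'
      rw [add_zero] at h
      exact left_eq_mul.mp h
    have haa : a + a = 0 := by linear_combination a * two_eq_zero hF
    rw [sq, ← cl, haa, h0]
  -- conjugation by the torus
  have stab : ∀ (r : Fˣ), ∀ x ∈ E', L (dS hF r) * x * (L (dS hF r))⁻¹ ∈ E' := by
    intro r x hx
    obtain ⟨b, hb⟩ := hx
    show σ _ ∈ Z hF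
    rw [map_mul, map_mul, map_inv, hL, hb, dS_uS]
    exact ⟨th m (r : F) * (r : F) ^ 2 * b, by simp⟩
  let τ : Fˣ → (E' →* E') := fun r =>
    { toFun := fun x => ⟨_, stab r x x.2⟩
      map_one' := Subtype.ext (by simp)
      map_mul' := fun x y => Subtype.ext (by simp [mul_assoc]) }
  have τc : ∀ r a a', τ r (c a a') = c (th m (r : F) * a) (th m (r : F) * a') := by
    intro r a a'
    apply Subtype.ext
    show L (dS hF r) * ⁅L (w a), L (w a')⁆ * (L (dS hF r))⁻¹ = ⁅L (w _), L (w _)⁆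
    rw [conj_comm]
    refine CfsgLib.StSL.comm_congr hcen ?_ ?_ <;>
      rw [map_mul, map_mul, map_inv, hL, hL, hL] <;> simp [hw, dS_uS]
  let Φ : E' →* E' := ∏ r : Fˣ, τ r
  have Φc : ∀ a a', Φ (c a a') = 1 := by
    obtain ⟨x, x1, x2, x3⟩ := exists_inv_bad hF hm
    obtain ⟨t1, ht1⟩ := (th_bijective hF).2 1
    obtain ⟨t2, ht2⟩ := (th_bijective hF).2 x
    obtain ⟨t3, ht3⟩ := (th_bijective hF).2 (1 + x)
    refine biadd_trivial (fun a a' => Φ (c a a')) (fun a a' b => by simp only [cl, map_mul])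
      (fun b a a' => by simp only [cr, map_mul]) (fun r : Fˣ => th m (r : F)) (fun r : Fˣ => th m (r : F))
      (fun y hy => ?_) (fun r h => r.ne_zero (th_eq_zero_iff.mp h)) ?_
      (r₁ := Units.mk0 t1 fun h => one_ne_zero (α := F) (by rw [← ht1, h, th_zero]))
      (r₂ := Units.mk0 t2 fun h => x1 (by rw [← ht2, h, th_zero]))
      (r₃ := Units.mk0 t3 fun h => x2 (by rw [← ht3, h, th_zero])) ?_ ?_
    · obtain ⟨t, ht⟩ := (th_bijective hF).2 y
      exact ⟨Units.mk0 t fun h => hy (by rw [← ht, h, th_zero]), ht⟩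
    · intro r a a'
      show Φ (c (th m (r : F) * a) (th m (r : F) * a')) = Φ (c a a')
      simp only [Φ, MonoidHom.finsetProd_apply, τc]
      refine Fintype.prod_equiv (Equiv.mulRight r) _ _ fun s => ?_
      simp only [Equiv.coe_mulRight, Units.val_mul, th_mul, mul_assoc]
    · simp only [Units.val_mk0, ht1, ht2, ht3]
    · simp only [Units.val_mk0, ht1, ht2, ht3, inv_one]; exact x3
  -- the derived group of the preimage
  set M : Subgroup E' := Subgroup.closure {x | ∃ a a', x = c a a'} with hM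
  have hcomm : (commutator ((U hF).comap σ)).map ((U hF).comap σ).subtype ≤ M.map E'.subtype := by
    rw [commutator_def, Subgroup.map_commutator, Subgroup.commutator_le]
    rintro _ ⟨⟨g, hg⟩, -, rfl⟩ _ ⟨⟨h, hh⟩, -, rfl⟩
    obtain ⟨a, b, hab⟩ := hg
    obtain ⟨a', b', hab'⟩ := hh
    refine ⟨c a a', Subgroup.subset_closure ⟨a, a', rfl⟩, ?_⟩
    show ⁅L (w a), L (w a')⁆ = ⁅g, h⁆
    have eu : ∀ a b, w a * uS hF 0 b = uS hF a b := fun a b => by simp [hw, uS_mul]
    rw [← kill_l (eEl b) (wU a) (wU a'), ← kill_r (y := L (w a')) (eEl b') (by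
        rw [map_mul, hL, hL, eu]; exact ⟨a, b, rfl⟩) (wU a')]
    exact CfsgLib.StSL.comm_congr hcen (by rw [map_mul, hL, hL, eu]; exact hab.symm)
      (by rw [map_mul, hL, hL, eu]; exact hab'.symm)
  obtain ⟨x, hxM, hxz⟩ := hcomm ⟨⟨z, hzU⟩, hzc, rfl⟩
  have hx2 : x ^ 2 = 1 := by
    refine Subgroup.closure_induction (p := fun y _ => y ^ 2 = 1) ?_ (one_pow 2)
      (fun y y' _ _ hy hy' => by rw [mul_pow, hy, hy', mul_one]) (fun y _ hy => by rw [inv_pow, hy, inv_one]) hxM
    rintro _ ⟨a, a', rfl⟩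
    exact c2 a a'
  have hΦ : Φ x = 1 := by
    refine Subgroup.closure_induction (p := fun y _ => Φ y = 1) ?_ (map_one _)
      (fun y y' _ _ hy hy' => by rw [map_mul, hy, hy', mul_one]) (fun y _ hy => by rw [map_inv, hy, inv_one]) hxM
    rintro _ ⟨a, a', rfl⟩
    exact Φc a a'
  have hfix : ∀ r, τ r x = x := fun r => Subtype.ext (by
    show L (dS hF r) * (x : Γ) * (L (dS hF r))⁻¹ = x
    rw [show (x : Γ) = z from hxz, Subgroup.mem_center_iff.mp (hcen hz), mul_inv_cancel_right])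
  simp only [Φ, MonoidHom.finsetProd_apply, hfix, Finset.prod_const, Finset.card_univ] at hΦ
  obtain ⟨k, hk⟩ : Odd (Fintype.card Fˣ) := by
    rw [Fintype.card_units, hF, pow_succ]
    have : 0 < 2 ^ (2 * m) := by positivity
    exact ⟨2 ^ (2 * m) - 1, by omega⟩
  rw [hk, pow_add, pow_mul, hx2, one_pow, one_mul, pow_one] at hΦ
  rw [← show (x : Γ) = z from hxz, hΦ]
  rfl

/-- Stem extensions of a Suzuki group over at least 32 elements are trivial. -/
theorem ker_eq_bot [Finite Γ] (hσ : Cfsg.IsStemExtension σ) (hm : 2 ≤ m) : σ.ker = ⊥ := by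
  rw [eq_bot_iff]
  intro z hz
  rw [Subgroup.mem_bot, ← orderOf_eq_one_iff]
  by_contra hne
  obtain ⟨p, hp, hpd⟩ := Nat.exists_prime_and_dvd hne
  haveI : Fact p.Prime := ⟨hp⟩
  by_cases h2 : p = 2
  · subst h2
    obtain ⟨hmem, hc⟩ := CfsgLib.StSL.pow_index_mem hσ (U hF) hz
    have h1 := ker_inf_commutator hF hsurj hcen hm (Subgroup.pow_mem _ hz _) hmem hc
    exact not_two_dvd_index_U hF (by omega) (hpd.trans (orderOf_dvd_of_pow_eq_one h1))
  · obtain ⟨P⟩ : Nonempty (Sylow p 𝔾) := inferInstance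
    haveI := isCyclic_sylow_odd hF (by omega) h2 P
    obtain ⟨g, hg⟩ := IsCyclic.exists_generator (α := P)
    obtain ⟨hmem, hc⟩ := CfsgLib.StSL.pow_index_mem hσ (P : Subgroup 𝔾) hz
    have hbot : commutator ((P : Subgroup 𝔾).comap σ) = ⊥ := by
      set H := (P : Subgroup 𝔾).comap σ with hH
      let f : H →* P := (σ.comp H.subtype).codRestrict (P : Subgroup 𝔾) fun x => x.2
      have hker : f.ker ≤ Subgroup.center H := fun x hx => Subgroup.mem_center_iff.mpr fun y => Subtype.ext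
        (Subgroup.mem_center_iff.mp (hcen (congrArg Subtype.val hx)) y)
      have := commutative_of_cyclic_center_quotient f hker
      rw [commutator_def, Subgroup.commutator_eq_bot_iff_le_centralizer]
      exact fun x _ => Subgroup.mem_centralizer_iff.mpr fun y _ => this y x
    rw [hbot, Subgroup.mem_bot] at hc
    exact P.not_dvd_index (hpd.trans (orderOf_dvd_of_pow_eq_one (congrArg Subtype.val hc)))

end CfsgLib.Suzuki.Multiplier
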