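/-
A lower bound for the degree of non-trivial complex representations of the Suzuki group.
-/
import Mathlib
import Cfsg.Prelude.Def_LieExceptional
import Cfsg.Agent.Lib.Suzuki.Fixed

namespace CfsgLib.Suzuki

open Cfsg Module
open scoped Pointwise

variable {F : Type*} [Field F] [Fintype F] {m : ℕ} (hF : Fintype.card F = 2 ^ (2 * m + 1))
include hF

/-- The commutator form of the root group, as a character in the second variable. -/
def commForm (m : ℕ) (a c : F) : F := th m a * c + th m c * a

theorem commForm_add_right (a c d : F) : commForm m a (c + d) = commForm m a c + commForm m a d := by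
  simp only [commForm, th_add hF]; ring

theorem commForm_add_left (a b c : F) : commForm m (a + b) c = commForm m a c + commForm m b c := by
  simp only [commForm, th_add hF]; ring

/-- An additive character of `F` has values `±1`. -/
theorem addChar_mul_self (χ : AddChar F ℂ) (x : F) : χ x * χ x = 1 := by
  have : x + x = 0 := by linear_combination x * two_eq_zero hF
  rw [← AddChar.map_add_eq_mul, this, AddChar.map_zero_eq_one]

theorem addChar_sign (χ : AddChar F ℂ) (x : F) : χ x = 1 ∨ χ x = -1 :=
  mul_self_eq_one_iff.mp (addChar_mul_self hF χ x)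

theorem mulShift_injective {χ : AddChar F ℂ} (hχ : χ ≠ 1) {l l' : F}
    (h : ∀ x, χ (l * x) = χ (l' * x)) : l = l' := by
  by_contra hne
  apply hχ
  ext y
  rw [AddChar.one_apply]
  have hd : l - l' ≠ 0 := sub_ne_zero.mpr hne
  have h1 := h (y / (l - l'))
  have e : l * (y / (l - l')) = y + l' * (y / (l - l')) := by field_simp; ring
  rw [e, AddChar.map_add_eq_mul] at h1
  have h0 : χ (l' * (y / (l - l'))) ≠ 0 := by
    rcases addChar_sign hF χ (l' * (y / (l - l'))) with h' | h' <;> rw [h'] <;> norm_num
  exact (mul_eq_right₀ h0).mp h1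

/-- The radical of the commutator form of a non-trivial character has at most two elements. -/
theorem radical_subsingleton (hm : 1 ≤ m) {χ : AddChar F ℂ} (hχ : χ ≠ 1) {a b : F} (ha : a ≠ 0)
    (hb : b ≠ 0) (hra : ∀ c, χ (commForm m a c) = 1) (hrb : ∀ c, χ (commForm m b c) = 1) : a = b := by
  classical
  let ψ : F →+ F := AddMonoidHom.mk' (fun r => th m r + r)
    (fun r s => by rw [th_add hF]; ring)
  have hψ : ∀ a0 : F, (∀ c, χ (commForm m a0 c) = 1) → ∀ x ∈ ψ.range, χ (th m a0 * a0 * x) = 1 := by
    rintro a0 h x ⟨r, rfl⟩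
    have e : th m a0 * a0 * (th m r + r) = commForm m a0 (a0 * r) := by
      rw [commForm, th_mul]; ring
    show χ (th m a0 * a0 * (th m r + r)) = 1
    rw [e]; exact h _
  have hker : (ψ.ker : Set F) = {0, 1} := by
    ext r
    simp only [SetLike.mem_coe, AddMonoidHom.mem_ker, Set.mem_insert_iff, Set.mem_singleton_iff]
    show th m r + r = 0 ↔ _
    constructor
    · intro h
      by_contra hne
      push Not at hne
      exact th_ne_self hF hne.1 hne.2 (by rw [← sub_eq hF] at h; exact sub_eq_zero.mp h)
    · rintro (rfl | rfl)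
      · simp
      · rw [th_one]; linear_combination two_eq_zero hF
  have hidx : ψ.range.index = 2 := by
    have h1 : Nat.card ψ.ker = 2 := by
      show Nat.card (ψ.ker : Set F) = 2
      rw [hker, Nat.card_coe_set_eq, Set.ncard_pair zero_ne_one]
    have h2 := AddSubgroup.card_mul_index ψ.ker
    have h3 := AddSubgroup.card_mul_index ψ.range
    rw [AddSubgroup.index_ker, h1] at h2
    rw [← h2, mul_comm 2 (Nat.card ψ.range)] at h3
    exact Nat.eq_of_mul_eq_mul_left Nat.card_pos h3
  have hta : th m a * a ≠ 0 := mul_ne_zero (fun h => ha (th_eq_zero_iff.mp h)) ha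
  have htb : th m b * b ≠ 0 := mul_ne_zero (fun h => hb (th_eq_zero_iff.mp h)) hb
  -- both characters are the sign of the index two subgroup
  have sign : ∀ d : F, d ≠ 0 → (∀ x ∈ ψ.range, χ (d * x) = 1) →
      ∀ x, x ∉ ψ.range → χ (d * x) = -1 := by
    intro d hd htriv x hx
    rcases addChar_sign hF χ (d * x) with h | h
    · exfalso
      apply hχ
      ext y
      rw [AddChar.one_apply]
      have hy : y = d * (y / d) := by field_simp
      rw [hy]
      by_cases hy' : y / d ∈ ψ.range
      · exact htriv _ hy'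
      · have hsum : y / d + x ∈ ψ.range :=
          (AddSubgroup.add_mem_iff_of_index_two hidx).mpr ⟨fun h => absurd h hy', fun h => absurd h hx⟩
        have := htriv _ hsum
        rwa [mul_add, AddChar.map_add_eq_mul, h, mul_one] at this
    · exact h
  have heq : ∀ x, χ (th m a * a * x) = χ (th m b * b * x) := by
    intro x
    by_cases hx : x ∈ ψ.range
    · rw [hψ a hra x hx, hψ b hrb x hx]
    · rw [sign _ hta (hψ a hra) x hx, sign _ htb (hψ b hrb) x hx]
  have e := mulShift_injective hF hχ heq
  have h1 : th m (a / b) * (a / b) = 1 := by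
    rw [th_div, div_mul_div_comm, e, div_self htb]
  exact (div_eq_one_iff_eq hb).mp (eq_one_of_th_mul hF h1)

variable {V : Type*} [AddCommGroup V] [Module ℂ V] [FiniteDimensional ℂ V]

/-- The projector onto the `χ`-part of the centre of the root group. -/
noncomputable def proj (σ : ↥(Cfsg.Sz F m) →* Module.End ℂ V) (χ : AddChar F ℂ) : Module.End ℂ V :=
  ((Fintype.card F : ℂ))⁻¹ • ∑ b, χ b • σ (uS hF 0 b)

omit [FiniteDimensional ℂ V] in
theorem z_mul_proj (σ : ↥(Cfsg.Sz F m) →* Module.End ℂ V) (χ : AddChar F ℂ) (c : F) :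
    σ (uS hF 0 c) * proj hF σ χ = χ c • proj hF σ χ := by
  rw [proj, mul_smul_comm, Finset.mul_sum, smul_comm (χ c)]
  congr 1
  rw [Finset.smul_sum]
  refine Fintype.sum_equiv (Equiv.addLeft c) _ _ fun b => ?_
  rw [Equiv.coe_addLeft, mul_smul_comm, ← map_mul, uS_mul, th_zero, zero_mul, add_zero, add_zero,
    smul_smul, AddChar.map_add_eq_mul, ← mul_assoc, addChar_mul_self hF, one_mul]

omit [FiniteDimensional ℂ V] in
theorem proj_mul_self (σ : ↥(Cfsg.Sz F m) →* Module.End ℂ V) (χ : AddChar F ℂ) :
    proj hF σ χ * proj hF σ χ = proj hF σ χ := by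
  conv_lhs => arg 1; rw [proj]
  rw [smul_mul_assoc, Finset.sum_mul]
  simp only [smul_mul_assoc, z_mul_proj, smul_smul, addChar_mul_self hF, one_smul]
  rw [Finset.sum_const, Finset.card_univ, ← Nat.cast_smul_eq_nsmul ℂ, smul_smul,
    inv_mul_cancel₀ (Nat.cast_ne_zero.mpr Fintype.card_ne_zero), one_smul]

omit [FiniteDimensional ℂ V] in
theorem sum_proj (σ : ↥(Cfsg.Sz F m) →* Module.End ℂ V) : ∑ χ : AddChar F ℂ, proj hF σ χ = 1 := by
  classical
  simp only [proj]
  rw [← Finset.smul_sum, Finset.sum_comm]
  simp only [← Finset.sum_smul, AddChar.sum_apply_eq_ite, ite_smul, zero_smul, Finset.sum_ite_eq',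
    Finset.mem_univ, if_true]
  rw [uS_zero, map_one, smul_smul, inv_mul_cancel₀ (Nat.cast_ne_zero.mpr Fintype.card_ne_zero),
    one_smul]

theorem trace_proj (σ : ↥(Cfsg.Sz F m) →* Module.End ℂ V) (χ : AddChar F ℂ) :
    LinearMap.trace ℂ V (proj hF σ χ) = (finrank ℂ (LinearMap.range (proj hF σ χ)) : ℂ) :=
  (show LinearMap.IsProj (LinearMap.range (proj hF σ χ)) (proj hF σ χ) from
    ⟨fun x => LinearMap.mem_range_self _ x, fun x ⟨y, hy⟩ => by
      rw [← hy]
      exact LinearMap.congr_fun (proj_mul_self hF σ χ) y⟩).trace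

/-- The dimension of a non-trivial central eigenspace is at least `2^m`. -/
theorem eigen_dim (hm : 1 ≤ m) (σ : ↥(Cfsg.Sz F m) →* Module.End ℂ V) {χ : AddChar F ℂ} (hχ : χ ≠ 1)
    (hne : proj hF σ χ ≠ 0) : 2 ^ m ≤ finrank ℂ (LinearMap.range (proj hF σ χ)) := by
  classical
  set P := proj hF σ χ with hP
  set W := LinearMap.range P
  have hW : ∀ w ∈ W, P w = w := by
    rintro w ⟨y, rfl⟩
    exact LinearMap.congr_fun (proj_mul_self hF σ χ) y
  have hz : ∀ (d : F), ∀ w ∈ W, σ (uS hF 0 d) w = χ d • w := by
    intro d w hw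
    have h := LinearMap.congr_fun (z_mul_proj hF σ χ d) w
    rw [Module.End.mul_apply, LinearMap.smul_apply, ← hP, hW w hw] at h
    exact h
  have hcomm : ∀ g : ↥(Cfsg.Sz F m), (∀ b, g * uS hF 0 b = uS hF 0 b * g) →
      σ g * P = P * σ g := by
    intro g hg
    rw [hP, proj, mul_smul_comm, smul_mul_assoc, Finset.mul_sum, Finset.sum_mul]
    simp only [mul_smul_comm, smul_mul_assoc, ← map_mul, hg]
  have hpres : ∀ a : F, ∀ w ∈ W, σ (uS hF a 0) w ∈ W := by
    intro a w hw
    have h := hcomm (uS hF a 0) (fun b => by rw [uS_mul, uS_mul]; simp)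
    have h' := LinearMap.congr_fun h w
    rw [Module.End.mul_apply, Module.End.mul_apply, hW w hw] at h'
    exact ⟨_, h'.symm⟩
  let Y : F → (↥W →ₗ[ℂ] ↥W) := fun a => LinearMap.restrict (σ (uS hF a 0)) (hpres a)
  have hYval : ∀ a (w : W), (Y a w : V) = σ (uS hF a 0) w := fun a w => rfl
  have hYY : ∀ a c : F, ∀ w : W, Y c (Y a w) = χ (commForm m a c) • Y a (Y c w) := by
    intro a c w
    apply Subtype.ext
    rw [Submodule.coe_smul, hYval, hYval, hYval, hYval]
    have e : uS hF c 0 * uS hF a 0 = uS hF a 0 * uS hF c 0 * uS hF 0 (commForm m a c) := by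
      rw [uS_mul, uS_mul, uS_mul]
      congr 1
      · ring
      · simp only [commForm]
        linear_combination -(th m a * c) * two_eq_zero hF
    have h1 : σ (uS hF c 0) (σ (uS hF a 0) w) =
        σ (uS hF a 0 * uS hF c 0 * uS hF 0 (commForm m a c)) w := by
      rw [← e, map_mul]; rfl
    rw [h1, map_mul, map_mul, Module.End.mul_apply, Module.End.mul_apply, hz _ _ w.2, map_smul,
      map_smul]
  have hYsurj : ∀ c : F, Function.Surjective (Y c) := by
    intro c
    apply LinearMap.injective_iff_surjective.mp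
    intro w w' h
    have h' : σ (uS hF c 0) (w : V) = σ (uS hF c 0) (w' : V) := congrArg Subtype.val h
    have h'' := congrArg (σ (uS hF c 0)⁻¹) h'
    rw [← Module.End.mul_apply, ← Module.End.mul_apply, ← map_mul, inv_mul_cancel, map_one] at h''
    exact Subtype.ext h''
  -- pick one element in each class modulo the radical
  let β : F → (F → ℂ) := fun a c => χ (commForm m a c)
  set I := Finset.univ.image β
  have hI : Fintype.card F ≤ I.card * 2 := by
    rw [← Finset.card_univ, mul_comm]
    refine Finset.card_le_mul_card_image _ 2 fun y hy => ?_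
    obtain ⟨a0, -, rfl⟩ := Finset.mem_image.mp hy
    suffices h1 : ((Finset.univ.filter fun a => β a = β a0).erase a0).card ≤ 1 by
      have h2 := Finset.pred_card_le_card_erase (s := Finset.univ.filter fun a => β a = β a0) (a := a0)
      omega
    rw [Finset.card_le_one]
    intro a ha b hb
    simp only [Finset.mem_erase, Finset.mem_filter, Finset.mem_univ, true_and] at ha hb
    have rad : ∀ a, β a = β a0 → ∀ c, χ (commForm m (a + a0) c) = 1 := by
      intro a h c
      rw [commForm_add_left hF, AddChar.map_add_eq_mul, show χ (commForm m a c) = χ (commForm m a0 c)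
        from congrFun h c, addChar_mul_self hF]
    have h := radical_subsingleton hF hm hχ (a := a + a0) (b := b + a0)
      (by rw [← sub_eq hF]; exact sub_ne_zero.mpr ha.1)
      (by rw [← sub_eq hF]; exact sub_ne_zero.mpr hb.1) (rad a ha.2) (rad b hb.2)
    exact add_right_cancel h
  choose r hr using fun i : I => Finset.mem_image.mp i.2
  have hlin : LinearIndependent ℂ (fun i : I => Y (r i)) := by
    rw [Fintype.linearIndependent_iff]
    intro g hg i0
    have hsum : ∀ c, ∑ i, (g i * β (r i) c) • Y (r i) = 0 := by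
      intro c
      apply LinearMap.ext
      intro w
      obtain ⟨w', rfl⟩ := hYsurj c w
      have h := LinearMap.congr_fun hg w'
      simp only [LinearMap.sum_apply, LinearMap.smul_apply, LinearMap.zero_apply] at h ⊢
      have h' := congrArg (Y c) h
      rw [map_sum, map_zero] at h'
      have e : ∀ i, Y c (g i • Y (r i) w') = (g i * β (r i) c) • Y (r i) (Y c w') := fun i => by
        rw [map_smul, hYY, smul_smul]
      simp only [e] at h'
      exact h'
    have horth : ∀ i, ∑ c, β (r i) c * β (r i0) c = if i = i0 then (Fintype.card F : ℂ) else 0 := by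
      intro i
      let ψc : AddChar F ℂ :=
        { toFun := fun c => β (r i) c * β (r i0) c
          map_zero_eq_one' := by simp [β, commForm]
          map_add_eq_mul' := fun c d => by
            simp only [β, commForm_add_right hF, AddChar.map_add_eq_mul]; ring }
      split_ifs with h
      · subst h
        simp [β, addChar_mul_self hF]
      · show ∑ c, ψc c = 0
        refine AddChar.sum_eq_zero_of_ne_one (fun h1 => h (Subtype.ext ?_))
        rw [← (hr i).2, ← (hr i0).2]
        funext c
        have h2 : ψc c = 1 := by rw [h1]; rfl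
        calc β (r i) c = β (r i) c * (β (r i0) c * β (r i0) c) := by
              simp [β, addChar_mul_self hF]
          _ = (β (r i) c * β (r i0) c) * β (r i0) c := by ring
          _ = β (r i0) c := by rw [show β (r i) c * β (r i0) c = 1 from h2, one_mul]
    have htot : ∑ c, β (r i0) c • ∑ i, (g i * β (r i) c) • Y (r i) = 0 := by
      exact Finset.sum_eq_zero fun c _ => by rw [hsum c, smul_zero]
    simp only [Finset.smul_sum, smul_smul] at htot
    rw [Finset.sum_comm] at htot
    have e : ∀ i, ∑ c, (β (r i0) c * (g i * β (r i) c)) • Y (r i) =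
        if i = i0 then (g i * (Fintype.card F : ℂ)) • Y (r i) else 0 := by
      intro i
      rw [← Finset.sum_smul]
      have : ∑ c, β (r i0) c * (g i * β (r i) c) = g i * ∑ c, β (r i) c * β (r i0) c := by
        rw [Finset.mul_sum]; exact Finset.sum_congr rfl fun c _ => by ring
      rw [this, horth i]
      split_ifs <;> simp
    simp only [e, Finset.sum_ite_eq', Finset.mem_univ, if_true] at htot
    rcases smul_eq_zero.mp htot with h | h
    · exact (mul_eq_zero.mp h).resolve_right (Nat.cast_ne_zero.mpr Fintype.card_ne_zero)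
    · exfalso
      obtain ⟨v, hv⟩ : ∃ v, P v ≠ 0 := by
        by_contra hcon
        push Not at hcon
        exact hne (LinearMap.ext hcon)
      have hw : (⟨P v, LinearMap.mem_range_self _ _⟩ : W) = 0 := by
        obtain ⟨w, hw⟩ := hYsurj (r i0) ⟨P v, LinearMap.mem_range_self _ _⟩
        rw [← hw, h, LinearMap.zero_apply]
      exact hv (congrArg Subtype.val hw)
  have hd := hlin.fintype_card_le_finrank
  rw [Fintype.card_coe, Module.finrank_linearMap] at hd
  have hq : Fintype.card F = 2 * (2 ^ m * 2 ^ m) := by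
    rw [hF, ← pow_add, ← pow_succ']; congr 1; omega
  by_contra hlt
  push Not at hlt
  have := Nat.mul_lt_mul'' hlt hlt
  omega

/-- Non-trivial representations have dimension at least `2^m (q - 1)`. -/
theorem degree_bound (hm : 1 ≤ m) (σ : ↥(Cfsg.Sz F m) →* Module.End ℂ V) (hσ : ¬ ∀ g, σ g = 1) :
    2 ^ m * (2 ^ (2 * m + 1) - 1) ≤ finrank ℂ V := by
  classical
  obtain ⟨χ, hχ, hne⟩ : ∃ χ : AddChar F ℂ, χ ≠ 1 ∧ proj hF σ χ ≠ 0 := by
    by_contra hcon
    push Not at hcon
    have hP1 : proj hF σ 1 = 1 := by
      rw [← sum_proj hF σ]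
      exact (Finset.sum_eq_single_of_mem (1 : AddChar F ℂ) (Finset.mem_univ _)
        (fun χ _ h => hcon χ h)).symm
    have hker : uS hF 0 1 ∈ σ.ker := by
      have h := z_mul_proj hF σ 1 1
      rw [hP1, mul_one, AddChar.one_apply, one_smul] at h
      exact h
    haveI := isSimple hF hm
    rcases Subgroup.Normal.eq_bot_or_eq_top (inferInstance : σ.ker.Normal) with h | h
    · rw [h, Subgroup.mem_bot, eq_one_iff_uS] at hker
      exact one_ne_zero hker.2
    · exact hσ fun g => by
        have : g ∈ σ.ker := by rw [h]; trivial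
        exact this
  -- translates of `χ` under the torus
  let sh : Fˣ → AddChar F ℂ := fun l => AddChar.mulShift χ (l : F)
  have hsh : Function.Injective sh := fun l l' h =>
    Units.ext (mulShift_injective hF hχ fun x => congrArg (fun ψ : AddChar F ℂ => ψ x) h)
  have htrace : ∀ l : Fˣ, LinearMap.trace ℂ V (proj hF σ (sh l)) = LinearMap.trace ℂ V (proj hF σ χ) := by
    intro l
    obtain ⟨t, ht⟩ := th_sq_surj hF (b := ((l⁻¹ : Fˣ) : F)) (l⁻¹).ne_zero
    have h : σ (dS hF t) * proj hF σ χ * σ (dS hF t)⁻¹ = proj hF σ (sh l) := by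
      rw [proj, proj, mul_smul_comm, smul_mul_assoc, Finset.mul_sum, Finset.sum_mul]
      congr 1
      refine Fintype.sum_equiv (Equiv.mulLeft₀ (((l⁻¹ : Fˣ) : F)) (l⁻¹).ne_zero) _ _ fun b => ?_
      rw [mul_smul_comm, smul_mul_assoc, ← map_mul, ← map_mul, dS_uS, mul_zero, ht]
      simp [sh, AddChar.mulShift_apply]
    rw [← h, LinearMap.trace_mul_cycle, ← map_mul, inv_mul_cancel, map_one, one_mul]
  have htot : (finrank ℂ V : ℂ) = ∑ ψ, (finrank ℂ (LinearMap.range (proj hF σ ψ)) : ℂ) := by
    simp only [← trace_proj, ← map_sum, sum_proj, LinearMap.trace_one]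
  have htot' : finrank ℂ V = ∑ ψ, finrank ℂ (LinearMap.range (proj hF σ ψ)) := by exact_mod_cast htot
  have heq : ∀ l, finrank ℂ (LinearMap.range (proj hF σ (sh l))) =
      finrank ℂ (LinearMap.range (proj hF σ χ)) := by
    intro l
    have := htrace l
    rw [trace_proj, trace_proj] at this
    exact_mod_cast this
  calc 2 ^ m * (2 ^ (2 * m + 1) - 1)
      ≤ finrank ℂ (LinearMap.range (proj hF σ χ)) * Fintype.card Fˣ := by
        rw [Fintype.card_units, hF]
        exact Nat.mul_le_mul_right _ (eigen_dim hF hm σ hχ hne)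
    _ = ∑ ψ ∈ Finset.univ.image sh, finrank ℂ (LinearMap.range (proj hF σ ψ)) := by
        rw [Finset.sum_image (fun a _ b _ h => hsh h), Finset.sum_congr rfl (fun l _ => heq l),
          Finset.sum_const, Finset.card_univ, smul_eq_mul, mul_comm]
    _ ≤ finrank ℂ V := by
        rw [htot']
        exact Finset.sum_le_sum_of_subset (Finset.subset_univ _)

end CfsgLib.Suzuki
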